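import Cfsg.Agent.Lib.Sectional.FourDirect
import Cfsg.Prelude.Def_TwoFusion

/-!
# Harada's lemma on `D × B` (helper23)

* `sectional_of_cyclic_index`: a cyclic subgroup of index at most eight gives sectional rank at most four
* `sectional_of_sylow`: the sectional rank of a group is that of a Sylow subgroup
* `sectional_direct_four`: the case of a 2-group
-/

set_option autoImplicit false
set_option linter.style.haveILetI false
set_option linter.unusedSectionVars false

open Subgroup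
open scoped commutatorElement

namespace Cfsg.Agent.Sectional

variable {S : Type*} [Group S] [Finite S]

theorem sectional_of_cyclic_index (c : S) (hc : Nat.card S ≤ 8 * orderOf c) :
    Cfsg.SectionalPRankLE 2 4 S := by
  refine sectionalPRankLE_of fun H N hNH hsq => ?_
  set C := zpowers c with hC
  have hi : C.index ≤ 8 := by
    have h := C.card_mul_index
    rw [Nat.card_zpowers] at h
    have := orderOf_pos c
    nlinarith
  have h1 : (C ⊓ H : Subgroup S).relIndex H ≤ 8 := by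
    rw [inf_relIndex_right]
    exact ((relIndex_le_of_le_right le_top (by exact index_ne_zero_of_finite)).trans_eq C.relIndex_top_right).trans hi
  have h2 : Nat.card (C ⊓ H : Subgroup S) * (C ⊓ H : Subgroup S).relIndex H = Nat.card H := by
    have h := Subgroup.card_mul_index ((C ⊓ H : Subgroup S).subgroupOf H)
    rwa [Nat.card_congr (subgroupOfEquivOfLe (show C ⊓ H ≤ H from inf_le_right)).toEquiv] at h
  have h3 : Nat.card (C ⊓ H : Subgroup S) ≤ 2 * Nat.card N := by
    haveI : IsCyclic (C ⊓ H : Subgroup S) :=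
      isCyclic_of_injective (Subgroup.inclusion (inf_le_left : C ⊓ H ≤ C)) (Subgroup.inclusion_injective _)
    obtain ⟨g, hg⟩ := IsCyclic.exists_ofOrder_eq_natCard (α := (C ⊓ H : Subgroup S))
    rw [← hg, ← Subgroup.orderOf_coe]
    have hg2 : (g : S) ^ 2 ∈ N := hsq _ g.2.2
    have hle : orderOf ((g : S) ^ 2) ≤ Nat.card N := by
      rw [← Nat.card_zpowers]; exact Nat.le_of_dvd Nat.card_pos (card_dvd_of_le (zpowers_le.2 hg2))
    have hd : orderOf (g : S) ∣ 2 * orderOf ((g : S) ^ 2) := by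
      refine orderOf_dvd_of_pow_eq_one ?_
      rw [pow_mul, pow_orderOf_eq_one]
    exact (Nat.le_of_dvd (by have := orderOf_pos ((g : S) ^ 2); omega) hd).trans (by omega)
  rw [← h2]
  calc _ ≤ (2 * Nat.card N) * 8 := Nat.mul_le_mul h3 h1
    _ = _ := by ring

theorem card_le_of_sectional {k : ℕ} (h : Cfsg.SectionalPRankLE 2 k S) {H N : Subgroup S} (hNH : N ≤ H)
    (hsq : ∀ x ∈ H, x ^ 2 ∈ N) : Nat.card H ≤ 2 ^ k * Nat.card N := by
  have hsq' : ∀ x ∈ (⊤ : Subgroup H), x ^ 2 ∈ N.subgroupOf H := fun x _ => hsq x x.2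
  haveI : (N.subgroupOf H).Normal := ⟨fun a ha b => by
    have := mul_mem (commutator_mem_of_sq hsq' (mem_top b) (mem_top a)) ha
    rwa [show ⁅b, a⁆ * a = b * a * b⁻¹ by rw [commutatorElement_def]; group] at this⟩
  have hcomm : IsMulCommutative (⊤ : Subgroup (H ⧸ N.subgroupOf H)) := ⟨⟨fun a b => Subtype.ext (by
    obtain ⟨x, hx⟩ := QuotientGroup.mk'_surjective (N.subgroupOf H) a.1
    obtain ⟨y, hy⟩ := QuotientGroup.mk'_surjective (N.subgroupOf H) b.1
    rw [Subgroup.coe_mul, Subgroup.coe_mul, ← hx, ← hy, ← map_mul, ← map_mul]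
    refine (QuotientGroup.eq.2 ?_).symm
    rw [show (y * x)⁻¹ * (x * y) = ⁅x⁻¹, y⁻¹⁆ by rw [commutatorElement_def]; group]
    exact commutator_mem_of_sq hsq' (mem_top _) (mem_top _))⟩⟩
  have h1 := h H (N.subgroupOf H) ⊤ hcomm (by
    intro a _
    obtain ⟨x, rfl⟩ := QuotientGroup.mk'_surjective (N.subgroupOf H) a
    rw [← map_pow]
    exact (QuotientGroup.eq_one_iff _).2 (hsq' x (mem_top x)))
  rw [Subgroup.card_top, ← Subgroup.index_eq_card] at h1
  have h2 := (N.subgroupOf H).card_mul_index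
  rw [Nat.card_congr (subgroupOfEquivOfLe hNH).toEquiv] at h2
  rw [← h2, mul_comm (2 ^ k)]
  exact Nat.mul_le_mul_left _ h1

theorem sectional_of_sylow {G : Type*} [Group G] [Finite G] {k : ℕ} (P : Sylow 2 G)
    (h : Cfsg.SectionalPRankLE 2 k (P : Subgroup G)) : Cfsg.SectionalPRankLE 2 k G := by
  classical
  have : Fact (Nat.Prime 2) := ⟨Nat.prime_two⟩
  intro H M _ A hAc hA2
  set f := (QuotientGroup.mk' M).subgroupComap A with hf
  have hfs : Function.Surjective f := by
    rintro ⟨a, ha⟩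
    obtain ⟨x, hx⟩ := QuotientGroup.mk'_surjective M a
    exact ⟨⟨x, by simp only [mem_comap]; rw [hx]; exact ha⟩, Subtype.ext hx⟩
  obtain ⟨Q⟩ : Nonempty (Sylow 2 (A.comap (QuotientGroup.mk' M))) := inferInstance
  have hAp : IsPGroup 2 A := fun a => ⟨1, Subtype.ext (by simpa using hA2 a a.2)⟩
  have hmap : (Q : Subgroup ↥(A.comap (QuotientGroup.mk' M))).map f = ⊤ := by
    rw [← Sylow.coe_mapSurjective hfs Q]
    exact ((Q.mapSurjective hfs).3 (IsPGroup.of_equiv hAp Subgroup.topEquiv.symm) le_top).symm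
  -- move `Q` into `P`
  set ι : (A.comap (QuotientGroup.mk' M)) →* G := H.subtype.comp (A.comap (QuotientGroup.mk' M)).subtype with hι
  have hιinj : Function.Injective ι := fun a b e => Subtype.ext (Subtype.ext e)
  obtain ⟨P', hP'⟩ := (Q.2.map ι).exists_le_sylow
  obtain ⟨g, hg⟩ := MulAction.exists_smul_eq G P' P
  have hj : ∀ x : (Q : Subgroup ↥(A.comap (QuotientGroup.mk' M))), g * ι x * g⁻¹ ∈ (P : Subgroup G) := fun x => by
    rw [← hg, Sylow.coe_subgroup_smul, Subgroup.mem_pointwise_smul_iff_inv_smul_mem, MulAut.smul_def]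
    simpa [mul_assoc] using! hP' ⟨x, x.2, rfl⟩
  set j : (Q : Subgroup ↥(A.comap (QuotientGroup.mk' M))) →* (P : Subgroup G) :=
    ((MulAut.conj g).toMonoidHom.comp (ι.comp (Q : Subgroup ↥(A.comap (QuotientGroup.mk' M))).subtype)).codRestrict _ hj with hjdef
  have hjinj : Function.Injective j := fun a b e => by
    have e' : g * ι a * g⁻¹ = g * ι b * g⁻¹ := congrArg Subtype.val e
    exact Subtype.ext (hιinj (mul_left_cancel (mul_right_cancel e')))
  set q : (Q : Subgroup ↥(A.comap (QuotientGroup.mk' M))) →* A := f.comp (Q : Subgroup ↥(A.comap (QuotientGroup.mk' M))).subtype with hq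
  have hb := card_le_of_sectional h (H := j.range) (N := q.ker.map j) (by
    rintro _ ⟨x, -, rfl⟩; exact ⟨x, rfl⟩) (by
    rintro _ ⟨x, rfl⟩
    refine ⟨x ^ 2, ?_, map_pow j x 2⟩
    refine Subtype.ext ?_
    rw [map_pow]
    simpa using hA2 _ (q x).2)
  have hc1 : Nat.card j.range = Nat.card (Q : Subgroup ↥(A.comap (QuotientGroup.mk' M))) :=
    Nat.card_congr (MonoidHom.ofInjective hjinj).toEquiv.symm
  rw [hc1, card_map_of_injective hjinj] at hb
  have hrange : q.range = ⊤ := by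
    rw [hq, MonoidHom.range_comp, range_subtype, hmap]
  have h3 := q.ker.card_mul_index
  rw [index_ker, hrange, Subgroup.card_top] at h3
  rw [← h3, mul_comm (2 ^ k)] at hb
  exact Nat.le_of_mul_le_mul_left hb Nat.card_pos

/-- The shape of `D`: a cyclic subgroup of index two, and either four elements of exponent two or
a centre of order at most two. -/
def DShape (D : Subgroup S) : Prop :=
  (∃ c ∈ D, Nat.card D ≤ 2 * orderOf c) ∧
    ((Nat.card D = 4 ∧ ∀ d ∈ D, d ^ 2 = 1) ∨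
      (Nat.card D ≠ 1 ∧ Nat.card (D ⊓ centralizer (D : Set S) : Subgroup S) ≤ 2))

/-- The theorem for a 2-group. -/
theorem sectional_direct_four (hS : IsPGroup 2 S) {T D B : Subgroup S}
    (hprod : Cfsg.IsInternalDirectProduct D B T) (hD : DShape D) (hB4 : Nat.card B = 4)
    (hB2 : ∀ b ∈ B, b ^ 2 = 1) (hC : ∀ b ∈ B, b ≠ 1 → ∀ s : S, s * b = b * s → s ∈ T) :
    Cfsg.SectionalPRankLE 2 4 S := by
  classical
  have : Fact (Nat.Prime 2) := ⟨Nat.prime_two⟩
  obtain ⟨hDT, hBT, hcomm, hinf, hsup⟩ := hprod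
  obtain ⟨⟨c, hcD, hc⟩, hshape⟩ := hD
  set φ := D.subtype.noncommCoprod B.subtype (fun d b => hcomm d d.2 b b.2) with hφ
  have hφinj : Function.Injective φ := by
    rw [← φ.ker_eq_bot_iff, eq_bot_iff]
    rintro ⟨d, b⟩ hdb
    have e : (d : S) * b = 1 := hdb
    have h1 : (d : S) ∈ D ⊓ B := Subgroup.mem_inf.2
      ⟨d.2, (eq_inv_of_mul_eq_one_left e) ▸ inv_mem b.2⟩
    rw [hinf, Subgroup.mem_bot] at h1
    rw [h1, one_mul] at e
    exact Prod.ext (Subtype.ext h1) (Subtype.ext e)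
  have hrange : φ.range = T := by
    exact (MonoidHom.noncommCoprod_range _ _ _).trans (by rw [range_subtype, range_subtype, hsup])
  have hcardT : Nat.card T = Nat.card D * 4 := by
    rw [← hrange, ← Nat.card_congr (MonoidHom.ofInjective hφinj).toEquiv, Nat.card_prod, hB4]
  have hTmem : ∀ t ∈ T, ∃ d ∈ D, ∃ b ∈ B, t = d * b := fun t ht => by
    rw [← hrange] at ht
    obtain ⟨⟨d, b⟩, rfl⟩ := ht
    exact ⟨d, d.2, b, b.2, rfl⟩
  have hBc : ∀ a ∈ B, ∀ b ∈ B, a * b = b * a := fun a ha b hb => by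
    have hi : ∀ x ∈ B, x⁻¹ = x := fun x hx => inv_eq_of_mul_eq_one_right (by rw [← pow_two]; exact hB2 x hx)
    rw [← hi _ (mul_mem ha hb), _root_.mul_inv_rev, hi a ha, hi b hb]
  by_cases hTtop : T = ⊤
  · refine sectional_of_cyclic_index c ?_
    rw [hTtop, Subgroup.card_top] at hcardT
    omega
  rcases hshape with ⟨hD4, hD2⟩ | ⟨hD1, hDZ⟩
  · refine FourDirect.Four.sectional (T := T) (B := B) hS ⟨fun t ht => ?_, by omega, hBT, hB4, hC⟩
    obtain ⟨d, hd, b, hb, rfl⟩ := hTmem t ht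
    rw [Commute.mul_pow (hcomm d hd b hb), hD2 d hd, hB2 b hb, one_mul]
  exfalso
  obtain ⟨y₀, hy₀, hy₀T⟩ := PGroup.exists_mem_normalizer_not_mem hS hTtop
  obtain ⟨k, hkT, hk2⟩ := FourDirect.exists_pow_sq hS hy₀T
  set y := y₀ ^ k with hy
  have hyN : y ∈ normalizer (T : Set S) := pow_mem hy₀ k
  set Z := T ⊓ centralizer (T : Set S) with hZ
  have hZc : ∀ {z : S}, z ∈ Z → ∀ t ∈ T, t * z = z * t := fun hz t ht => mem_centralizer_iff.1 hz.2 t ht
  have hmemZ : ∀ {z : S}, z ∈ T → (∀ d ∈ D, d * z = z * d) → (∀ b ∈ B, b * z = z * b) → z ∈ Z := by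
    intro z hz h1 h2
    refine Subgroup.mem_inf.2 ⟨hz, mem_centralizer_iff.2 fun t ht => ?_⟩
    obtain ⟨d, hd, b, hb, rfl⟩ := hTmem t ht
    exact Commute.mul_left (h1 d hd) (h2 b hb)
  have hBZ : B ≤ Z := fun b hb => hmemZ (hBT hb) (fun d hd => hcomm d hd b hb) (fun b' hb' => hBc b' hb' b hb)
  obtain ⟨⟨⟨z, hzD⟩, hzc⟩, hz1⟩ : ∃ z : center D, z ≠ 1 := by
    haveI : Nontrivial D := Finite.one_lt_card_iff_nontrivial.1 (by have := Nat.card_pos (α := D); omega)
    haveI := (hS.to_subgroup D).center_nontrivial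
    exact exists_ne 1
  have hzZ : z ∈ Z := hmemZ (hDT hzD)
    (fun d hd => congrArg Subtype.val (mem_center_iff.1 hzc ⟨d, hd⟩)) (fun b hb => (hcomm z hzD b hb).symm)
  have hzB : z ∉ B := fun h => hz1 (by
    have : z ∈ D ⊓ B := Subgroup.mem_inf.2 ⟨hzD, h⟩
    rw [hinf, Subgroup.mem_bot] at this
    exact Subtype.ext (Subtype.ext this))
  have hZ8 : 8 ≤ Nat.card Z := by
    have := PGroup.mul_card_le_of_lt (p := 2) hS (lt_of_le_of_ne hBZ fun e => hzB (e.ge hzZ))
    omega
  have hconjZ : ∀ {a w : S}, a ∈ normalizer (T : Set S) → w ∈ Z → a * w * a⁻¹ ∈ Z := by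
    intro a w ha hw
    refine Subgroup.mem_inf.2 ⟨FourDirect.conj_mem ha hw.1, mem_centralizer_iff.2 fun t ht => ?_⟩
    have k : a⁻¹ * t * a ∈ T := by
      have := FourDirect.conj_mem (inv_mem ha) ht
      rwa [inv_inv] at this
    calc t * (a * w * a⁻¹) = a * ((a⁻¹ * t * a) * w) * a⁻¹ := by group
      _ = a * (w * (a⁻¹ * t * a)) * a⁻¹ := by rw [hZc hw _ k]
      _ = _ := by group
  have hZm : ∀ {a b : S}, a ∈ Z → b ∈ T → a * b = b * a := fun ha hb => (hZc ha _ hb).symm
  let ψ : Z →* Z :=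
    { toFun := fun w => ⟨(w : S) * (y * (w : S) * y⁻¹), mul_mem w.2 (hconjZ hyN w.2)⟩
      map_one' := Subtype.ext (by simp)
      map_mul' := fun a b => Subtype.ext (by
        show (a : S) * b * (y * ((a : S) * b) * y⁻¹) = (a : S) * (y * (a : S) * y⁻¹) * (b * (y * (b : S) * y⁻¹))
        calc (a : S) * b * (y * ((a : S) * b) * y⁻¹)
            = (a : S) * (b * (y * (a : S) * y⁻¹)) * (y * (b : S) * y⁻¹) := by group
          _ = (a : S) * ((y * (a : S) * y⁻¹) * b) * (y * (b : S) * y⁻¹) := by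
              rw [hZm b.2 (hconjZ hyN a.2).1]
          _ = _ := by group) }
  set F := Z ⊓ centralizer ({y} : Set S) with hF
  have hF2 : Nat.card F ≤ 2 := by
    have hd : ∀ f : F, ∃ d, d ∈ D ⊓ centralizer (D : Set S) ∧ ∃ b ∈ B, (f : S) = d * b := fun f => by
      obtain ⟨d, hd, b, hb, e⟩ := hTmem f f.2.1.1
      refine ⟨d, Subgroup.mem_inf.2 ⟨hd, mem_centralizer_iff.2 fun x hx => ?_⟩, b, hb, e⟩
      have k1 : Commute x (f : S) := hZc f.2.1 x (hDT hx)
      have k2 : Commute x b := hcomm x hx b hb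
      have k3 := k1.mul_right k2.inv_right
      rwa [e, mul_inv_cancel_right] at k3
    choose d hd1 b hb hdb using hd
    refine (Nat.card_le_card_of_injective (fun f => (⟨d f, hd1 f⟩ : (D ⊓ centralizer (D : Set S) : Subgroup S)))
      fun f f' e => ?_).trans hDZ
    have e' : d f = d f' := congrArg Subtype.val e
    refine Subtype.ext ?_
    have k : (f : S)⁻¹ * f' = (b f)⁻¹ * b f' := by rw [hdb f, hdb f', e']; group
    by_contra hne
    refine hkT (hC _ (k ▸ mul_mem (inv_mem (hb f)) (hb f')) (fun h1 => hne (inv_mul_eq_one.1 h1)) y ?_)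
    exact (mem_centralizer_singleton_iff.1 (mul_mem (inv_mem f.2.2) f'.2.2)).symm
  have hfixed : ∀ w : Z, (ψ w : S) ∈ F := fun w => by
    refine Subgroup.mem_inf.2 ⟨(ψ w).2, mem_centralizer_singleton_iff.2 ?_⟩
    show (w : S) * (y * (w : S) * y⁻¹) * y = y * ((w : S) * (y * (w : S) * y⁻¹))
    calc (w : S) * (y * (w : S) * y⁻¹) * y = ((w : S) * (y * (w : S) * y⁻¹)) * y := rfl
      _ = ((y * (w : S) * y⁻¹) * (w : S)) * y := by rw [hZm w.2 (hconjZ hyN w.2).1]
      _ = (y * (w : S) * y⁻¹) * ((y ^ 2 * (w : S) * (y ^ 2)⁻¹)) * y := by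
          rw [← hZm w.2 hk2, mul_inv_cancel_right]
      _ = _ := by rw [pow_two]; group
  have hmul := ψ.ker.card_mul_index
  rw [index_ker] at hmul
  have hran : Nat.card ψ.range ≤ Nat.card F := by
    refine Nat.card_le_card_of_injective (fun a => (⟨(a.1 : S), by
      obtain ⟨w, hw⟩ := a.2; rw [← hw]; exact hfixed w⟩ : F)) fun a a' e => ?_
    exact Subtype.ext (Subtype.ext (congrArg Subtype.val e :))
  have hZ2 : ∀ w ∈ Z, w * w = 1 := by
    intro w hw
    obtain ⟨d, hd, b, hb, e⟩ := hTmem w hw.1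
    have hdc : d ∈ D ⊓ centralizer (D : Set S) := by
      refine Subgroup.mem_inf.2 ⟨hd, mem_centralizer_iff.2 fun x hx => ?_⟩
      have k3 := (show Commute x w from hZc hw x (hDT hx)).mul_right (show Commute x b from hcomm x hx b hb).inv_right
      rwa [e, mul_inv_cancel_right] at k3
    have hd2 : d ^ 2 = 1 := by
      have h1 : orderOf (⟨d, hdc⟩ : (D ⊓ centralizer (D : Set S) : Subgroup S)) ∣
          Nat.card (D ⊓ centralizer (D : Set S) : Subgroup S) := orderOf_dvd_natCard _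
      have h2 : orderOf d ∣ 2 := by
        rw [Subgroup.orderOf_mk] at h1
        have h0 := Nat.card_pos (α := (D ⊓ centralizer (D : Set S) : Subgroup S))
        interval_cases hv : Nat.card (D ⊓ centralizer (D : Set S) : Subgroup S)
        · exact h1.trans (one_dvd 2)
        · exact h1
      exact orderOf_dvd_iff_pow_eq_one.1 h2
    rw [← pow_two, e, Commute.mul_pow (hcomm d hd b hb), hd2, hB2 b hb, one_mul]
  have hker : Nat.card ψ.ker ≤ Nat.card F := by
    refine Nat.card_le_card_of_injective (fun a => (⟨(a.1 : S), Subgroup.mem_inf.2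
      ⟨a.1.2, mem_centralizer_singleton_iff.2 ?_⟩⟩ : F)) fun a a' e =>
        Subtype.ext (Subtype.ext (congrArg Subtype.val e :))
    have h0 : (a.1 : S) * (y * (a.1 : S) * y⁻¹) = 1 := congrArg Subtype.val a.2
    have h1 := eq_inv_of_mul_eq_one_left h0
    rw [eq_inv_iff_mul_eq_one] at h1
    have h2 : y * (a.1 : S) * y⁻¹ = (a.1 : S) := by
      rw [← inv_eq_of_mul_eq_one_right h0, inv_eq_of_mul_eq_one_right (hZ2 _ a.1.2)]
    exact (mul_inv_eq_iff_eq_mul.1 h2).symm
  nlinarith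

end Cfsg.Agent.Sectional
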