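import Cfsg.Agent.Lib.Sectional.NormalEightBase
/-!
# The count for a self-centralizing `2^3` and a maximal normal `2^3` (helper5)

* `EightU.card_le_of_comm_eq_u`: some `[a,x] = u`; then `C(V) = B`
* `EightV.card_le_of_ne`: `C(V) ≠ C(B)`; then `S = C(V) A`
* `EightV.card_le_of_eq`: `C(V) = C(B)`
* `card_le_of_normal_eight`: the count
-/

set_option autoImplicit false
set_option linter.style.haveILetI false
set_option linter.unusedSectionVars false

open Subgroup
open scoped commutatorElement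

namespace Cfsg.Agent.Sectional

variable {S : Type*} [Group S] [Finite S] {A V B : Subgroup S} {u : S}

theorem eq_of_card_two {K : Subgroup S} (hK : Nat.card K = 2) {w t : S} (hw : w ∈ K) (hw1 : w ≠ 1) (ht : t ∈ K)
    (ht1 : t ≠ 1) : w = t := by
  classical
  by_contra hne
  have hsub : (({1, w, t} : Finset S) : Set S) ⊆ (K : Set S) := by
    intro r hr
    simp only [Finset.coe_insert, Finset.coe_singleton, Set.mem_insert_iff, Set.mem_singleton_iff] at hr
    rcases hr with rfl | rfl | rfl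
    · exact one_mem K
    · exact hw
    · exact ht
  have := Set.ncard_le_ncard hsub (Set.toFinite _)
  rw [Set.ncard_coe_finset, ← Nat.card_coe_set_eq, SetLike.coe_sort_coe, hK,
    Finset.card_eq_three.mpr ⟨1, w, t, Ne.symm hw1, Ne.symm ht1, hne, rfl⟩] at this
  omega

theorem eq_or_of_mem_zpowers {w t : S} (hw : w * w = 1) (ht : t ∈ zpowers w) : t = 1 ∨ t = w := by
  obtain ⟨j, rfl⟩ := ht
  rcases Int.even_or_odd j with ⟨m, rfl⟩ | ⟨m, rfl⟩
  · exact Or.inl (show w ^ (m + m) = 1 by rw [zpow_add, ← (Commute.refl w).mul_zpow, hw, one_zpow])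
  · exact Or.inr (show w ^ (2 * m + 1) = w by
      rw [zpow_add, zpow_mul, show w ^ (2 : ℤ) = 1 by rw [zpow_two, hw], one_zpow, one_mul, zpow_one])

/-- The quotient by `C(V)` contributes at most `4`. -/
theorem card_map_le (hS : IsPGroup 2 S) [V.Normal] (hVc : ∀ a ∈ V, ∀ b ∈ V, a * b = b * a) (hV8 : Nat.card V = 8)
    {H N : Subgroup S} (hsq : ∀ x ∈ H, x ^ 2 ∈ N) :
    Nat.card (H.map (QuotientGroup.mk' (centralizer (V : Set S)))) ≤
      4 * Nat.card (N.map (QuotientGroup.mk' (centralizer (V : Set S)))) := by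
  have : Fact (Nat.Prime 2) := ⟨Nat.prime_two⟩
  set C := centralizer (V : Set S)
  set π := QuotientGroup.mk' C
  change Nat.card (H.map π) ≤ 4 * Nat.card (N.map π)
  have hi : C.index ≤ 8 := by
    have := PGroup.index_centralizer_le (p := 2) hS 3 V inferInstance (by rw [hV8]; norm_num)
    simpa using this
  have hH : Nat.card (H.map π) ≤ C.index := by rw [index_eq_card]; exact Subgroup.card_le_card_group _
  obtain ⟨k, hk⟩ := IsPGroup.iff_card.mp ((hS.to_quotient C).to_subgroup (H.map π))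
  have hN : 1 ≤ Nat.card (N.map π) := Nat.card_pos
  by_cases hk2 : k ≤ 2
  · have := Nat.pow_le_pow_right (show 0 < 2 by norm_num) hk2
    omega
  have h3 := Nat.pow_le_pow_right (show 0 < 2 by norm_num) (show 3 ≤ k by omega)
  have htop : H.map π = ⊤ := PGroup.eq_of_le_of_card_le le_top (by rw [card_top, ← index_eq_card]; omega)
  by_contra hlt
  push Not at hlt
  have hN0 : N.map π = ⊥ := eq_bot_of_card_eq _ (by omega)
  refine not_abelian_action hS hVc hV8 (show C.index = 8 by omega) fun g t => ?_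
  obtain ⟨g', hg, eg⟩ : π g ∈ H.map π := htop ▸ mem_top _
  obtain ⟨t', ht, et⟩ : π t ∈ H.map π := htop ▸ mem_top _
  have h1 : π ⁅g', t'⁆ ∈ N.map π := mem_map_of_mem π (commutator_mem_of_sq hsq hg ht)
  rw [hN0, mem_bot, map_commutatorElement, eg, et, ← map_commutatorElement] at h1
  exact (QuotientGroup.eq_one_iff _).mp h1

theorem EightU.comm_V (E : EightU A V B u) (g : S) {b : S} (hb : b ∈ B) : ⁅g, b⁆ ∈ V := by
  refine E.omega _ (comm_mem E.bn g hb) ?_
  rw [← comm_pow_right E.bn E.bc g hb 2]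
  rcases E.sq_cases hb with e | e <;> rw [e]
  · exact commutatorElement_one_right g
  · exact commutatorElement_eq_one_iff_mul_comm.mpr (mem_center_iff.mp E.uc g)

theorem EightU.eq_sup (E : EightU A V B u) {x₁ x₂ : S} (h1 : x₁ ∈ V) (h1' : x₁ ∉ zpowers u) (h2 : x₂ ∈ V)
    (h2' : x₂ ∉ zpowers u ⊔ zpowers x₁) : zpowers u ⊔ zpowers x₁ ⊔ zpowers x₂ = V := by
  have : Fact (Nat.Prime 2) := ⟨Nat.prime_two⟩
  refine PGroup.eq_of_le_of_card_le
    (sup_le (sup_le (zpowers_le.mpr E.u_mem.2) (zpowers_le.mpr h1)) (zpowers_le.mpr h2)) ?_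
  have k0 : 2 * Nat.card (⊥ : Subgroup S) ≤ Nat.card (zpowers u) :=
    PGroup.mul_card_le_of_lt (p := 2) E.sc.p (bot_lt_iff_ne_bot.mpr fun e => E.u1 (zpowers_eq_bot.mp e))
  have k1 : 2 * Nat.card (zpowers u) ≤ Nat.card (zpowers u ⊔ zpowers x₁ : Subgroup S) :=
    PGroup.mul_card_le_of_lt (p := 2) E.sc.p
      (lt_of_le_of_ne le_sup_left fun e => h1' (e ▸ mem_sup_right (mem_zpowers x₁)))
  have k2 : 2 * Nat.card (zpowers u ⊔ zpowers x₁ : Subgroup S) ≤
      Nat.card (zpowers u ⊔ zpowers x₁ ⊔ zpowers x₂ : Subgroup S) :=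
    PGroup.mul_card_le_of_lt (p := 2) E.sc.p
      (lt_of_le_of_ne le_sup_left fun e => h2' (e ▸ mem_sup_right (mem_zpowers x₂)))
  rw [card_bot] at k0
  rw [E.cardV]
  omega

theorem EightU.mem_C_of_agree (E : EightU A V B u) {x₁ x₂ : S} (h1 : x₁ ∈ V) (h1' : x₁ ∉ zpowers u) (h2 : x₂ ∈ V)
    (h2' : x₂ ∉ zpowers u ⊔ zpowers x₁) {g h : S} (e1 : g * x₁ * g⁻¹ = h * x₁ * h⁻¹)
    (e2 : g * x₂ * g⁻¹ = h * x₂ * h⁻¹) : h⁻¹ * g ∈ centralizer (V : Set S) := by
  have key : ∀ r : S, g * r * g⁻¹ = h * r * h⁻¹ → r ∈ centralizer ({h⁻¹ * g} : Set S) := fun r e => by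
    refine mem_centralizer_singleton_iff.mpr ?_
    calc r * (h⁻¹ * g) = h⁻¹ * (h * r * h⁻¹) * g := by group
      _ = h⁻¹ * (g * r * g⁻¹) * g := by rw [e]
      _ = _ := by group
  have hle : V ≤ centralizer ({h⁻¹ * g} : Set S) := by
    rw [← E.eq_sup h1 h1' h2 h2']
    refine sup_le (sup_le (zpowers_le.mpr (key u ?_)) (zpowers_le.mpr (key x₁ e1))) (zpowers_le.mpr (key x₂ e2))
    rw [mem_center_iff.mp E.uc g, mem_center_iff.mp E.uc h, mul_inv_cancel_right, mul_inv_cancel_right]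
  exact mem_centralizer_iff.mpr fun r hr => mem_centralizer_singleton_iff.mp (hle hr)

/-- A large image in the action on `V` modulo `u` realizes every action. -/
theorem EightU.full (E : EightU A V B u) [V.Normal] {H : Subgroup S} {x₁ x₂ : S} (h1 : x₁ ∈ V) (h1' : x₁ ∉ zpowers u) (h2 : x₂ ∈ V)
    (h2' : x₂ ∉ zpowers u ⊔ zpowers x₁) (hc : ∀ h ∈ H, ∀ r ∈ V, ⁅h, r⁆ = 1 ∨ ⁅h, r⁆ = u)
    (h3 : 3 ≤ Nat.card (H.map (QuotientGroup.mk' (centralizer (V : Set S))))) {t₁ t₂ : S} (ht1 : t₁ = 1 ∨ t₁ = u)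
    (ht2 : t₂ = 1 ∨ t₂ = u) : ∃ h ∈ H, ⁅h, x₁⁆ = t₁ ∧ ⁅h, x₂⁆ = t₂ := by
  classical
  haveI := E.ne.normal
  set C := centralizer (V : Set S)
  set π := QuotientGroup.mk' C
  have hex : ∀ q : H.map π, ∃ h ∈ H, π h = q := fun q => q.2
  choose σ hσ hσπ using hex
  have same : ∀ {h k r : S}, h ∈ H → k ∈ H → r ∈ V → decide (⁅h, r⁆ = 1) = decide (⁅k, r⁆ = 1) →
      h * r * h⁻¹ = k * r * k⁻¹ := by
    intro h k r hh hk hr e
    rw [decide_eq_decide] at e
    have : ⁅h, r⁆ = ⁅k, r⁆ := by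
      rcases hc h hh r hr with e1 | e1 <;> rcases hc k hk r hr with e2 | e2
      · rw [e1, e2]
      · exact absurd ((e2.symm.trans (e.mp e1))) E.u1
      · exact absurd ((e1.symm.trans (e.mpr e2))) E.u1
      · rw [e1, e2]
    simpa only [commutatorElement_def, mul_left_inj] using this
  let F : H.map π → Bool × Bool := fun q => (decide (⁅σ q, x₁⁆ = 1), decide (⁅σ q, x₂⁆ = 1))
  have hF : Function.Injective F := fun q q' e => by
    obtain ⟨f1, f2⟩ := Prod.ext_iff.mp e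
    have hm := E.mem_C_of_agree h1 h1' h2 h2' (same (hσ q) (hσ q') h1 f1) (same (hσ q) (hσ q') h2 f2)
    refine Subtype.ext ?_
    rw [← hσπ q, ← hσπ q']
    exact (QuotientGroup.eq.mpr hm).symm
  haveI : Fintype (H.map π) := Fintype.ofFinite _
  obtain ⟨k, hk⟩ := IsPGroup.iff_card.mp ((E.sc.p.to_quotient C).to_subgroup (H.map π))
  have hcard : Nat.card (Bool × Bool) ≤ Nat.card (H.map π) := by
    rw [Nat.card_eq_fintype_card (α := Bool × Bool), Fintype.card_prod, Fintype.card_bool]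
    rw [hk] at h3 ⊢
    have : 2 ≤ k := by
      by_contra hlt
      have := Nat.pow_le_pow_right (show 0 < 2 by norm_num) (show k ≤ 1 by omega)
      omega
    exact Nat.pow_le_pow_right (show 0 < 2 by norm_num) this
  obtain ⟨q, hq⟩ := (hF.bijective_of_nat_card_le hcard).2 (decide (t₁ = 1), decide (t₂ = 1))
  obtain ⟨f1, f2⟩ := Prod.ext_iff.mp hq
  have fin : ∀ {r t : S}, r ∈ V → (t = 1 ∨ t = u) → decide (⁅σ q, r⁆ = 1) = decide (t = 1) → ⁅σ q, r⁆ = t := by
    intro r t hr ht e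
    rw [decide_eq_decide] at e
    rcases ht with rfl | rfl
    · exact e.mpr rfl
    · exact (hc _ (hσ q) r hr).resolve_left fun e1 => E.u1 (e.mp e1)
  exact ⟨σ q, hσ q, fin h1 ht1 f1, fin h2 ht2 f2⟩

/-- The count when `C(V) = C(B)`, reduced to the case where `H` contains `B` and acts trivially modulo `u`. -/
theorem EightU.finish (E : EightU A V B u) [V.Normal] (hDC : centralizer (V : Set S) ≤ centralizer (B : Set S))
    {H N : Subgroup S} (hsq : ∀ x ∈ H, x ^ 2 ∈ N)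
    (hcase : 3 ≤ Nat.card (H.map (QuotientGroup.mk' (centralizer (V : Set S)))) → B ≤ H →
      (∀ h ∈ H, ∀ b ∈ B, ⁅h, b⁆ = 1 ∨ ⁅h, b⁆ = u) →
      ∃ w ∈ N, w ∈ centralizer (B : Set S) ∧ w ∉ sq (H ⊓ centralizer (B : Set S))) :
    Nat.card H ≤ 2 ^ 4 * Nat.card N := by
  haveI := E.ne.normal
  have hD : centralizer (B : Set S) = centralizer (V : Set S) := le_antisymm E.D_le_C hDC
  set π := QuotientGroup.mk' (centralizer (V : Set S)) with hπ
  have hker : π.ker = centralizer (B : Set S) := by rw [hD]; exact QuotientGroup.ker_mk' _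
  by_cases hsmall : Nat.card (H.map π) ≤ 2
  · refine (card_le_parts π (H := H) (N := N) (i := 2) (k := 8) ?_ ?_).trans (le_of_eq (by norm_num))
    · have : 1 ≤ Nat.card (N.map π) := Nat.card_pos
      omega
    · rw [hker]; exact E.card_le_eight hsq
  refine (card_le_parts π (H := H) (N := N) (i := 4) (k := 4) (card_map_le E.sc.p E.ne.comm E.cardV hsq) ?_).trans
    (le_of_eq (by norm_num))
  rw [hker]
  refine E.card_le_four hsq ?_
  by_cases hVH : ¬ V ≤ H
  · exact Or.inl hVH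
  push Not at hVH
  refine Or.inr ?_
  by_cases hbad : ∀ h ∈ H, ∀ b ∈ B, b ∈ H → ⁅h, b⁆ = 1 ∨ ⁅h, b⁆ = u
  · by_cases hBH : B ≤ H
    · exact hcase (by omega) hBH fun h hh b hb => hbad h hh b hb (hBH hb)
    -- `H` meets `C(B)` in `V`
    have hbot : ∀ p ∈ H, p ∈ B → p ∈ V := by
      intro p hp hpB
      by_contra hpV
      refine hBH fun b hb => ?_
      by_cases hbV : b ∈ V
      · exact hVH hbV
      · have := mul_mem hp (hVH (E.mul_mem_V hpB hpV hb hbV).2.2)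
        rwa [mul_inv_cancel_left] at this
    have hsq1 : sq (H ⊓ centralizer (B : Set S)) = ⊥ := eq_bot_iff.mpr (sq_le_iff.mpr fun x hx => by
      rw [mem_bot]
      by_contra hx2
      obtain ⟨k, hk, hkV⟩ := E.exists_four hx.2 hx2
      exact hkV (hbot _ (pow_mem hx.1 _) hk))
    obtain ⟨h, hh, r, hr, hne⟩ : ∃ h ∈ H, ∃ r ∈ V, ⁅h, r⁆ ≠ 1 := by
      by_contra hc
      push Not at hc
      have : H.map π ≤ ⊥ := by
        rintro _ ⟨h, hh, rfl⟩
        exact mem_bot.mpr ((QuotientGroup.eq_one_iff h).mpr (mem_centralizer_iff.mpr fun r hr =>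
          (commutatorElement_eq_one_iff_mul_comm.mp (hc h hh r hr)).symm))
      rw [le_bot_iff.mp this, card_bot] at hsmall
      omega
    refine ⟨⁅h, r⁆, commutator_mem_of_sq hsq hh (hVH hr), E.V_le (comm_mem E.ne.normal h hr), ?_⟩
    rw [hsq1, mem_bot]
    exact hne
  push Not at hbad
  obtain ⟨h, hh, b, hb, hbH, hb1, hbu⟩ := hbad
  refine ⟨⁅h, b⁆, commutator_mem_of_sq hsq hh hbH, E.B_le (comm_mem E.bn h hb), fun hw => ?_⟩
  obtain ⟨e, he, he2⟩ := E.exists_sq (sq_mono inf_le_right hw)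
  rcases E.sq_inter he (he2 ▸ E.comm_V h hb) with h' | h' <;> rw [he2] at h'
  · exact hb1 h'
  · exact hbu h'

/-! ### Some `[a, x] = u` -/

theorem EightU.D_le_of_comm_eq_u (E : EightU A V B u) {a x : S} (ha : a ∈ A) (haV : a ∉ V) (hx : x ∈ V)
    (hu : ⁅a, x⁆ = u) : centralizer (B : Set S) ≤ B := by
  intro z hz
  by_contra hzB
  obtain ⟨z, hz, -, hp, hpV⟩ := E.exists_eight hz hzB
  have hd2 : ⁅a, z⁆ ^ 2 = ⁅a, z ^ 2⁆ := (comm_pow_right E.D_normal E.comm_D a hz 2).symm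
  have hdB : ⁅a, z⁆ ∈ B := E.big _ (comm_mem E.D_normal a hz) (by
    rw [show 4 = 2 * 2 from rfl, pow_mul, hd2]; exact E.ne.sq _ (E.comm_fixed ha hp).1)
  rcases E.sq_cases hdB with e | e <;> rw [hd2] at e
  · exact hpV (E.fixed_mem ha haV hp (commutatorElement_eq_one_iff_mul_comm.mp e))
  · exact hpV (E.mem_of_comm_eq ha haV hp hx (e.trans hu.symm))

theorem EightU.C_le_of_comm_eq_u (E : EightU A V B u) {a x : S} (ha : a ∈ A) (haV : a ∉ V) (hx : x ∈ V)
    (hu : ⁅a, x⁆ = u) : centralizer (V : Set S) ≤ B := by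
  have : Fact (Nat.Prime 2) := ⟨Nat.prime_two⟩
  haveI := E.ne.normal
  haveI := E.bn
  have hBC : B ≤ centralizer (V : Set S) := E.B_le.trans E.D_le_C
  by_contra hne
  obtain ⟨K, hKn, hBK, hKC, hK, -⟩ := PGroup.exists_normal_between (p := 2) E.sc.p
    (lt_of_le_of_ne hBC fun e => hne e.ge)
  haveI := hKn
  have hlt : B < K := lt_of_le_of_ne hBK fun e => by rw [← e, E.card_B] at hK; omega
  obtain ⟨c, hcK, hcB⟩ := SetLike.exists_of_lt hlt
  have hcomm : ∀ {c : S}, c ∈ K → ∀ g : S, ⁅c, g⁆ ∈ B := fun {c} hc g => by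
    rw [← commutatorElement_inv]
    exact inv_mem (PGroup.commutator_mem_of_card (p := 2) E.sc.p hlt hK.le hc g)
  set d := ⁅c, a⁆ with hd
  have hinv := conj_commutator_right (c := c) (E.mul_self ha)
  rw [← hd] at hinv
  have hdV : d ∈ V := by
    by_contra hdV
    refine hdV (E.mem_of_comm_eq ha haV (hcomm hcK a) hx ?_)
    rw [comm_of_inverted hinv, E.usq d (hcomm hcK a) hdV, hu, inv_eq_of_mul_eq_one_right E.u_sq]
  have hdd : d⁻¹ = d := inv_eq_of_mul_eq_one_right (by rw [← pow_two]; exact E.ne.sq d hdV)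
  rw [hdd] at hinv
  obtain ⟨b, hb, hbd⟩ := E.exists_comm ha haV hdV (mul_inv_eq_iff_eq_mul.mp hinv)
  have hc' : ⁅b * c, a⁆ = 1 := by
    calc ⁅b * c, a⁆ = (b * ⁅c, a⁆ * b⁻¹) * ⁅a, b⁆⁻¹ := by simp only [commutatorElement_def]; group
      _ = 1 := by rw [← hd, hbd, E.bc b hb d (E.vle hdV), mul_inv_cancel_right, mul_inv_cancel]
  have hbcK : b * c ∈ K := mul_mem (hBK hb) hcK
  have hWc : ∀ {k : S}, k ∈ K → ∀ w ∈ A ⊓ V, w * k = k * w := fun {k} hk w hw =>
    mem_centralizer_iff.mp (hKC hk) w hw.2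
  have hbad : ∀ {p : S}, p ∈ V → p * (b * c) ∉ A := fun {p} hp e => by
    have h1 := E.vle (E.mem_V_of_centralizer e (hKC (mul_mem (hBK (E.vle hp)) hbcK)))
    have h2 := mul_mem (inv_mem hb) (mul_mem (inv_mem (E.vle hp)) h1)
    rw [inv_mul_cancel_left, inv_mul_cancel_left] at h2
    exact hcB h2
  have hca : a * (b * c) = b * c * a := (commutatorElement_eq_one_iff_mul_comm.mp hc').symm
  rcases E.inf_cases with hW | hW
  · obtain ⟨c₂, hc₂, -, p, hp, hap, hne', hmem, hcen⟩ := E.second hW ha haV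
    set d₂ := ⁅b * c, c₂⁆ with hd₂
    have hd2a : a * d₂ = d₂ * a := by
      have k1 : Commute a (b * c) := hca
      have k2 : Commute a c₂ := E.sc.comm a ha c₂ hc₂
      rw [hd₂, commutatorElement_def]
      exact (((k1.mul_right k2).mul_right k1.inv_right).mul_right k2.inv_right).eq
    have hd2V : d₂ ∈ V := E.fixed_mem ha haV (hcomm hbcK c₂) hd2a
    have hd2c : c₂ * d₂ = d₂ * c₂ := (E.sc.commutator_fixed E.ne hc₂ hd2V).symm
    have hd2W : d₂ ∈ A ⊓ V := ⟨hcen d₂ hd2a hd2c fun w hw => E.ne.comm w hw.2 d₂ hd2V, hd2V⟩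
    by_cases h0 : d₂ = 1
    · refine hbad (one_mem V) ?_
      rw [one_mul]
      exact hcen _ hca (commutatorElement_eq_one_iff_mul_comm.mp h0).symm (hWc hbcK)
    · have he := eq_of_card_two hW hd2W h0 hmem hne'
      refine hbad hp (hcen _ (Commute.mul_right hap hca) ?_ (hWc (mul_mem (hBK (E.vle hp)) hbcK)))
      refine (commutatorElement_eq_one_iff_mul_comm.mp ?_).symm
      calc ⁅p * (b * c), c₂⁆ = (p * ⁅b * c, c₂⁆ * p⁻¹) * ⁅c₂, p⁆⁻¹ := by simp only [commutatorElement_def]; group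
        _ = 1 := by rw [← hd₂, E.ne.comm p hp d₂ hd2V, mul_inv_cancel_right, he, mul_inv_cancel]
  · refine hbad (one_mem V) ?_
    rw [one_mul]
    exact E.mem_A_four hW ha haV hca (hWc hbcK)

theorem EightU.card_le_of_comm_eq_u (E : EightU A V B u) {a x : S} (ha : a ∈ A) (haV : a ∉ V) (hx : x ∈ V)
    (hu : ⁅a, x⁆ = u) {H N : Subgroup S} (hsq : ∀ z ∈ H, z ^ 2 ∈ N) : Nat.card H ≤ 2 ^ 4 * Nat.card N := by
  haveI := E.ne.normal
  have hCB := E.C_le_of_comm_eq_u ha haV hx hu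
  refine E.finish (hCB.trans E.B_le) hsq fun h3 hBH hall => ?_
  exfalso
  have hav : ∀ r ∈ V, ⁅a, r⁆ = 1 ∨ ⁅a, r⁆ = u := fun r hr => by
    have h2 : Nat.card (commImage E.ne.normal E.ne.comm a V) = 2 := by
      have := card_image_mul E.ne.normal E.ne.comm a (le_refl V)
      rw [E.card_fixed ha haV, E.cardV] at this
      omega
    by_cases h0 : ⁅a, r⁆ = 1
    · exact Or.inl h0
    · exact Or.inr (eq_of_card_two h2 ((mem_commImage le_rfl).mpr ⟨r, hr, rfl⟩) h0
        ((mem_commImage le_rfl).mpr ⟨x, hx, hu⟩) E.u1)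
  have hne : ∀ K : Subgroup S, Nat.card K ≤ 4 → ∃ r ∈ V, r ∉ K := fun K hK => by
    by_contra hc
    push Not at hc
    have := card_le_of_le (show V ≤ K from hc)
    rw [E.cardV] at this
    omega
  have hzu : Nat.card (zpowers u) ≤ 2 := by
    rw [Nat.card_zpowers]
    exact Nat.le_of_dvd (by norm_num) (orderOf_dvd_iff_pow_eq_one.mpr (by rw [pow_two, E.u_sq]))
  obtain ⟨x₁, h1, h1'⟩ := hne (zpowers u) (by omega)
  obtain ⟨x₂, h2, h2'⟩ := hne (zpowers u ⊔ zpowers x₁) (by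
    have hlt : zpowers u ⊔ zpowers x₁ ≤ (V ⊓ (zpowers u ⊔ zpowers x₁) : Subgroup S) :=
      le_inf (sup_le (zpowers_le.mpr E.u_mem.2) (zpowers_le.mpr h1)) le_rfl
    have hn : (zpowers u).Normal := ⟨fun w hw g => by
      have : w ∈ center S := (zpowers_le.mpr E.uc : zpowers u ≤ center S) hw
      rwa [mem_center_iff.mp this g, mul_inv_cancel_right]⟩
    have := card_eq_map_mul (QuotientGroup.mk' (zpowers u)) (zpowers u ⊔ zpowers x₁)
    rw [QuotientGroup.ker_mk', inf_eq_right.mpr (le_sup_left : zpowers u ≤ zpowers u ⊔ zpowers x₁), Subgroup.map_sup,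
      (map_eq_bot_iff (zpowers u)).mpr (by rw [QuotientGroup.ker_mk']), bot_sup_eq, MonoidHom.map_zpowers,
      Nat.card_zpowers] at this
    have h2x : orderOf (QuotientGroup.mk' (zpowers u) x₁) ≤ 2 :=
      Nat.le_of_dvd (by norm_num) (orderOf_dvd_iff_pow_eq_one.mpr (by rw [← map_pow, E.ne.sq x₁ h1, map_one]))
    rw [← this]
    exact Nat.mul_le_mul h2x hzu)
  obtain ⟨h, hh, e1, e2⟩ := E.full h1 h1' h2 h2' (fun h hh r hr => hall h hh r (E.vle hr)) h3 (hav x₁ h1) (hav x₂ h2)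
  have hcB := hCB (E.mem_C_of_agree h1 h1' h2 h2' (g := a) (h := h)
    (by simpa only [commutatorElement_def, mul_left_inj] using e1.symm)
    (by simpa only [commutatorElement_def, mul_left_inj] using e2.symm))
  obtain ⟨y, hy, hyV⟩ := SetLike.not_le_iff_exists.mp E.bne
  have e : ⁅a, y⁆ = ⁅h, y⁆ := by
    calc ⁅a, y⁆ = h * ((h⁻¹ * a) * y) * (h⁻¹ * a)⁻¹ * h⁻¹ * y⁻¹ := by simp only [commutatorElement_def]; group
      _ = _ := by rw [E.bc _ hcB y hy, ← mul_assoc, mul_inv_cancel_right, commutatorElement_def]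
  rcases hall h hh y hy with e' | e' <;> rw [← e] at e'
  · exact hyV (E.fixed_mem ha haV hy (commutatorElement_eq_one_iff_mul_comm.mp e'))
  · exact hyV (E.mem_of_comm_eq ha haV hy hx (e'.trans hu.symm))

/-! ### No `[a, x] = u` -/

/-- The data in the remaining case. -/
structure EightV (A V B : Subgroup S) (u a x v y : S) : Prop extends EightU A V B u where
  w4 : Nat.card (A ⊓ V : Subgroup S) = 4
  ha : a ∈ A
  haV : a ∉ V
  hx : x ∈ V
  hax : ⁅a, x⁆ = v
  v1 : v ≠ 1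
  vu : v ≠ u
  hy : y ∈ B
  hyV : y ∉ V
  hay : ⁅a, y⁆ = u
  qmem : ∀ c ∈ centralizer (V : Set S), ⁅c, y⁆ ∈ A ⊓ V
  qv : ∀ c ∈ centralizer (V : Set S), ⁅c, y⁆ ≠ v

theorem EightU.comm_C_mul (E : EightU A V B u) {c c' : S} (hc : c ∈ centralizer (V : Set S)) {y : S} (hy : y ∈ B) :
    ⁅c * c', y⁆ = ⁅c, y⁆ * ⁅c', y⁆ := by
  calc ⁅c * c', y⁆ = c * ⁅c', y⁆ * c⁻¹ * ⁅c, y⁆ := by simp only [commutatorElement_def]; group
    _ = _ := by
      rw [← mem_centralizer_iff.mp hc _ (E.comm_V c' hy), mul_inv_cancel_right,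
        E.ne.comm _ (E.comm_V c' hy) _ (E.comm_V c hy)]

theorem EightU.comm_C_inv (E : EightU A V B u) {c : S} (hc : c ∈ centralizer (V : Set S)) {y : S} (hy : y ∈ B) :
    ⁅c⁻¹, y⁆ = ⁅c, y⁆ := by
  have h := E.comm_C_mul (c' := c⁻¹) hc hy
  rw [mul_inv_cancel, commutatorElement_one_left] at h
  rw [eq_comm, mul_eq_one_iff_inv_eq] at h
  rw [← h, inv_eq_of_mul_eq_one_right (by rw [← pow_two]; exact E.ne.sq _ (E.comm_V c hy) : ⁅c, y⁆ * ⁅c, y⁆ = 1)]

theorem EightU.comm_C_conj (E : EightU A V B u) {a : S} (ha : a ∈ A) {c y : S} (hy : y ∈ B) (hay : ⁅a, y⁆ = u) :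
    ⁅a * c * a⁻¹, y⁆ = a * ⁅c, y⁆ * a⁻¹ := by
  have hai := E.sc.inv_eq ha
  have e : a⁻¹ * y * a = u * y := by rw [← hay, commutatorElement_def, inv_mul_cancel_right, hai]
  have ey : a * (u * y) * a⁻¹ = y := by rw [← e]; group
  calc ⁅a * c * a⁻¹, y⁆ = a * (c * (a⁻¹ * y * a) * c⁻¹) * a⁻¹ * y⁻¹ := by simp only [commutatorElement_def]; group
    _ = a * (c * (u * y) * c⁻¹) * a⁻¹ * (a * (u * y) * a⁻¹)⁻¹ := by rw [e, ey]
    _ = a * ⁅c, u * y⁆ * a⁻¹ := by simp only [commutatorElement_def]; group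
    _ = _ := by
      rw [comm_mul_right E.bn E.bc c (E.vle E.u_mem.2) hy,
        commutatorElement_eq_one_iff_mul_comm.mpr (mem_center_iff.mp E.uc c), one_mul]

theorem EightU.mem_D (E : EightU A V B u) {c y : S} (hc : c ∈ centralizer (V : Set S)) (hy : y ∈ B) (hyV : y ∉ V)
    (h1 : ⁅c, y⁆ = 1) : c ∈ centralizer (B : Set S) := by
  refine mem_centralizer_iff.mpr fun b hb => ?_
  by_cases hbV : b ∈ V
  · exact mem_centralizer_iff.mp hc b hbV
  · have e : b = y * (y⁻¹ * b) := by group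
    rw [e]
    exact (Commute.mul_right (commutatorElement_eq_one_iff_mul_comm.mp h1)
      (mem_centralizer_iff.mp hc _ (E.mul_mem_V hy hyV hb hbV).2.2).symm).symm

theorem EightU.exists_data (E : EightU A V B u) (hne : ∀ a ∈ A, a ∉ V → ∀ x ∈ V, ⁅a, x⁆ ≠ u) :
    ∃ a x v y : S, EightV A V B u a x v y := by
  have : Fact (Nat.Prime 2) := ⟨Nat.prime_two⟩
  obtain ⟨a, ha, haV⟩ := SetLike.not_le_iff_exists.mp E.nle
  have w4 : Nat.card (A ⊓ V : Subgroup S) = 4 := E.inf_cases.resolve_left fun hW => by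
    obtain ⟨c, hc, hcV, p, hp, -, h1, hmem, -⟩ := E.second hW ha haV
    exact hne c hc hcV p hp (eq_of_card_two hW hmem h1 E.u_mem E.u1)
  have hVW : ∀ r ∈ V, a * r = r * a → r ∈ A ⊓ V := fun r hr hc =>
    ⟨E.mem_A_four w4 ha haV hc fun w hw => E.ne.comm w hw.2 r hr, hr⟩
  obtain ⟨x, hx, hxW⟩ : ∃ x ∈ V, x ∉ A ⊓ V := by
    by_contra hc
    push Not at hc
    have := card_le_of_le (show V ≤ A ⊓ V from hc)
    rw [E.cardV, w4] at this
    omega
  set v := ⁅a, x⁆ with hv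
  have hv1 : v ≠ 1 := fun e => hxW (hVW x hx (commutatorElement_eq_one_iff_mul_comm.mp e))
  have hvu : v ≠ u := hne a ha haV x hx
  have hvW : v ∈ A ⊓ V :=
    hVW v (comm_mem E.ne.normal a hx) (fixed_of_involution E.ne.normal E.ne.sq (E.sc.sq a ha) hx).symm
  have h2 : Nat.card (commImage E.ne.normal E.ne.comm a V) = 2 := by
    have := card_image_mul E.ne.normal E.ne.comm a (le_refl V)
    rw [E.card_fixed ha haV, E.cardV] at this
    omega
  have hav : ∀ r ∈ V, ⁅a, r⁆ = 1 ∨ ⁅a, r⁆ = v := fun r hr => or_iff_not_imp_left.mpr fun h0 =>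
    eq_of_card_two h2 ((mem_commImage le_rfl).mpr ⟨r, hr, rfl⟩) h0 ((mem_commImage le_rfl).mpr ⟨x, hx, rfl⟩) hv1
  by_cases hDB : centralizer (B : Set S) ≤ B
  swap
  · obtain ⟨z, hz, hzB⟩ := SetLike.not_le_iff_exists.mp hDB
    obtain ⟨z, hz, -, hp, hpV⟩ := E.exists_eight hz hzB
    have hg : ∀ g : S, ⁅g, z ^ 2⁆ = 1 ∨ ⁅g, z ^ 2⁆ = u := fun g => by
      rw [comm_pow_right E.D_normal E.comm_D g hz 2]
      exact E.sq_inter (comm_mem E.D_normal g hz) (by rw [← comm_pow_right E.D_normal E.comm_D g hz 2]; exact E.comm_V g hp)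
    refine ⟨a, x, v, z ^ 2, E, w4, ha, haV, hx, rfl, hv1, hvu, hp, hpV, ?_, fun c _ => ?_, fun c _ e => ?_⟩
    · exact (hg a).resolve_left fun e => hpV (E.fixed_mem ha haV hp (commutatorElement_eq_one_iff_mul_comm.mp e))
    · rcases hg c with e | e <;> rw [e]
      · exact one_mem _
      · exact E.u_mem
    · rcases hg c with e' | e' <;> rw [e'] at e
      · exact hv1 e.symm
      · exact hvu e.symm
  obtain ⟨y, hy, hyV, hay⟩ : ∃ y ∈ B, y ∉ V ∧ ⁅a, y⁆ = u := by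
    obtain ⟨y, hy, hyV⟩ := SetLike.not_le_iff_exists.mp E.bne
    obtain ⟨htV, hta⟩ := E.comm_fixed ha hy
    set t := ⁅a, y⁆ with ht
    by_cases htu : t = u
    · exact ⟨y, hy, hyV, htu⟩
    have ht1 : t ≠ 1 := fun e => hyV (E.fixed_mem ha haV hy (commutatorElement_eq_one_iff_mul_comm.mp e))
    have htv : t ≠ v := fun e => hyV (E.mem_of_comm_eq ha haV hy hx e)
    have hyx : y * x ∉ V := fun e => hyV (by
      have := mul_mem e (inv_mem hx)
      rwa [mul_inv_cancel_right] at this)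
    refine ⟨y * x, mul_mem hy (E.vle hx), hyx, ?_⟩
    rw [comm_mul_right E.bn E.bc a hy (E.vle hx), ← ht, ← hv]
    by_contra htvu
    classical
    have htW := hVW t htV hta
    have hsub : (({1, u, v, t, t * v} : Finset S) : Set S) ⊆ ((A ⊓ V : Subgroup S) : Set S) := by
      intro w hw
      simp only [Finset.coe_insert, Finset.coe_singleton, Set.mem_insert_iff, Set.mem_singleton_iff] at hw
      rcases hw with rfl | rfl | rfl | rfl | rfl
      · exact one_mem _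
      · exact E.u_mem
      · exact hvW
      · exact htW
      · exact mul_mem htW hvW
    have h5 : ({1, u, v, t, t * v} : Finset S).card = 5 := by
      have a1 : (1 : S) ≠ t * v := fun e => htv (by
        rw [eq_inv_of_mul_eq_one_left e.symm]
        exact inv_eq_of_mul_eq_one_right (by rw [← pow_two]; exact E.ne.sq v hvW.2))
      have a3 : v ≠ t * v := fun e => ht1 (mul_eq_right.mp e.symm)
      have a4 : t ≠ t * v := fun e => hv1 (mul_eq_left.mp e.symm)
      rw [Finset.card_insert_of_notMem (by simp [E.u1.symm, hv1.symm, ht1.symm, a1]),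
        Finset.card_insert_of_notMem (by simp [hvu.symm, Ne.symm htu, Ne.symm htvu]),
        Finset.card_insert_of_notMem (by simp [htv.symm, a3]), Finset.card_pair a4]
    have := Set.ncard_le_ncard hsub (Set.toFinite _)
    rw [Set.ncard_coe_finset, h5, ← Nat.card_coe_set_eq, SetLike.coe_sort_coe, w4] at this
    omega
  have hva : a * v = v * a := E.sc.comm a ha v hvW.1
  have hqv : ∀ c ∈ centralizer (V : Set S), ⁅c, y⁆ ≠ v := by
    intro c hc hcy
    haveI := E.ne.normal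
    set d := ⁅c, a⁆ with hd
    have hdC : d ∈ centralizer (V : Set S) := comm_mem_left (inferInstance : (centralizer (V : Set S)).Normal) a hc
    have hdy : ⁅d, y⁆ = 1 := by
      rw [show d = c * (a * c⁻¹ * a⁻¹) by rw [hd, commutatorElement_def]; group, E.comm_C_mul hc hy,
        E.comm_C_conj ha hy hay, E.comm_C_inv hc hy, hcy, hva, mul_inv_cancel_right, ← pow_two, E.ne.sq v hvW.2]
    have hdB : d ∈ B := hDB (E.mem_D hdC hy hyV hdy)
    have hinv := conj_commutator_right (c := c) (E.mul_self ha)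
    rw [← hd] at hinv
    by_cases hdV : d ∈ V
    · rw [inv_eq_of_mul_eq_one_right (by rw [← pow_two]; exact E.ne.sq d hdV : d * d = 1)] at hinv
      obtain ⟨b, hb, hbd⟩ := E.exists_comm ha haV hdV (mul_inv_eq_iff_eq_mul.mp hinv)
      have hbc : ⁅b * c, a⁆ = 1 := by
        calc ⁅b * c, a⁆ = (b * ⁅c, a⁆ * b⁻¹) * ⁅a, b⁆⁻¹ := by simp only [commutatorElement_def]; group
          _ = 1 := by rw [← hd, hbd, E.bc b hb d (E.vle hdV), mul_inv_cancel_right, mul_inv_cancel]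
      have hbC : b * c ∈ centralizer (V : Set S) := mul_mem (E.D_le_C (E.B_le hb)) hc
      have hbcV := E.vle (E.mem_V_of_centralizer (E.mem_A_four w4 ha haV
        (commutatorElement_eq_one_iff_mul_comm.mp hbc).symm fun w hw => mem_centralizer_iff.mp hbC w hw.2) hbC)
      have hcB := mul_mem (inv_mem hb) hbcV
      rw [inv_mul_cancel_left] at hcB
      exact hv1 (hcy.symm.trans (commutatorElement_eq_one_iff_mul_comm.mpr (E.bc c hcB y hy)))
    have hCr : ∀ r ∈ V, ⁅c, r⁆ = 1 := fun r hr =>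
      commutatorElement_eq_one_iff_mul_comm.mpr (mem_centralizer_iff.mp hc r hr).symm
    have hcd : ∀ p ∈ B, p ∉ V → ⁅c, p⁆ = v := fun p hp hpV => by
      have hr := (E.mul_mem_V hy hyV hp hpV).2.2
      rw [show p = y * (y⁻¹ * p) by group, comm_mul_right E.bn E.bc c hy (E.vle hr), hcy, hCr _ hr, mul_one]
    have h2a : ⁅c * c, a⁆ = v * u := by
      calc ⁅c * c, a⁆ = (c * d * c⁻¹ * d⁻¹) * (d * d) := by rw [hd]; simp only [commutatorElement_def]; group
        _ = v * u := by rw [← commutatorElement_def, hcd d hdB hdV, ← pow_two, E.usq d hdB hdV]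
    have hccC : c * c ∈ centralizer (V : Set S) := mul_mem hc hc
    have hccB : c * c ∈ B := hDB (E.mem_D hccC hy hyV (by
      rw [E.comm_C_mul hc hy, hcy, ← pow_two, E.ne.sq v hvW.2]))
    have hccV : c * c ∈ V := by
      by_contra hccV
      apply hv1
      rw [← hcd _ hccB hccV, commutatorElement_eq_one_iff_mul_comm, mul_assoc]
    rw [← commutatorElement_inv] at h2a
    rcases hav _ hccV with e | e <;> rw [e] at h2a
    · rw [inv_one, eq_comm, mul_eq_one_iff_inv_eq] at h2a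
      exact hvu (by rw [← h2a, inv_eq_of_mul_eq_one_right (by rw [← pow_two]; exact E.ne.sq v hvW.2 : v * v = 1)])
    · rw [inv_eq_of_mul_eq_one_right (by rw [← pow_two]; exact E.ne.sq v hvW.2 : v * v = 1)] at h2a
      exact E.u1 (mul_eq_left.mp h2a.symm)
  refine ⟨a, x, v, y, E, w4, ha, haV, hx, rfl, hv1, hvu, hy, hyV, hay, fun c hc => ?_, hqv⟩
  haveI := E.ne.normal
  by_contra hcW
  have ht := E.comm_V c hy
  refine hqv (a * c * a⁻¹ * c)
    (mul_mem ((inferInstance : (centralizer (V : Set S)).Normal).conj_mem c hc a) hc) ?_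
  rw [E.comm_C_mul ((inferInstance : (centralizer (V : Set S)).Normal).conj_mem c hc a) hy, E.comm_C_conj ha hy hay]
  have h := (hav _ ht).resolve_left fun e => hcW (hVW _ ht (commutatorElement_eq_one_iff_mul_comm.mp e))
  have e' : a * ⁅c, y⁆ * a⁻¹ = ⁅a, ⁅c, y⁆⁆ * ⁅c, y⁆ := by rw [commutatorElement_def a, inv_mul_cancel_right]
  rw [e', h, mul_assoc, ← pow_two, E.ne.sq _ ht, mul_one]

variable {a x v y : S}

theorem EightV.v_mem (E : EightV A V B u a x v y) : v ∈ A ⊓ V := by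
  have hv : a * v = v * a := by
    rw [← E.hax]; exact (fixed_of_involution E.ne.normal E.ne.sq (E.sc.sq a E.ha) E.hx).symm
  have hvV : v ∈ V := E.hax ▸ comm_mem E.ne.normal a E.hx
  exact ⟨E.mem_A_four E.w4 E.ha E.haV hv fun w hw => E.ne.comm w hw.2 v hvV, hvV⟩

theorem EightV.x_not (E : EightV A V B u a x v y) : x ∉ A ⊓ V := fun e => E.v1 (by
  rw [← E.hax]; exact commutatorElement_eq_one_iff_mul_comm.mpr (E.sc.comm a E.ha x e.1))

theorem EightV.v_not (E : EightV A V B u a x v y) : v ∉ zpowers u := fun e =>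
  (eq_or_of_mem_zpowers E.u_sq e).elim E.v1 E.vu

theorem EightV.x_not_sup (E : EightV A V B u a x v y) : x ∉ zpowers u ⊔ zpowers v := fun e =>
  E.x_not ((sup_le (zpowers_le.mpr E.u_mem) (zpowers_le.mpr E.v_mem) : zpowers u ⊔ zpowers v ≤ A ⊓ V) e)

theorem EightV.W_le (E : EightV A V B u a x v y) : A ⊓ V = zpowers u ⊔ zpowers v := by
  have : Fact (Nat.Prime 2) := ⟨Nat.prime_two⟩
  refine (PGroup.eq_of_le_of_card_le (sup_le (zpowers_le.mpr E.u_mem) (zpowers_le.mpr E.v_mem)) ?_).symm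
  rw [E.w4]
  have k0 : 2 * Nat.card (⊥ : Subgroup S) ≤ Nat.card (zpowers u) :=
    PGroup.mul_card_le_of_lt (p := 2) E.sc.p (bot_lt_iff_ne_bot.mpr fun e => E.u1 (zpowers_eq_bot.mp e))
  have k1 : 2 * Nat.card (zpowers u) ≤ Nat.card (zpowers u ⊔ zpowers v : Subgroup S) :=
    PGroup.mul_card_le_of_lt (p := 2) E.sc.p
      (lt_of_le_of_ne le_sup_left fun e => E.v_not (e ▸ mem_sup_right (mem_zpowers v)))
  rw [card_bot] at k0
  omega

theorem EightV.W_commute (E : EightV A V B u a x v y) {g : S} (hg : g * v = v * g) {w : S} (hw : w ∈ A ⊓ V) :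
    w * g = g * w := by
  have : A ⊓ V ≤ centralizer ({g} : Set S) := by
    rw [E.W_le]
    exact sup_le (zpowers_le.mpr (mem_centralizer_singleton_iff.mpr (mem_center_iff.mp E.uc g).symm))
      (zpowers_le.mpr (mem_centralizer_singleton_iff.mpr hg.symm))
  exact mem_centralizer_singleton_iff.mp (this hw)

theorem EightV.fixed_W (E : EightV A V B u a x v y) {r : S} (hr : r ∈ V) (har : a * r = r * a) : r ∈ A ⊓ V :=
  ⟨E.mem_A_four E.w4 E.ha E.haV har fun w hw => E.ne.comm w hw.2 r hr, hr⟩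

theorem EightV.comm_v (E : EightV A V B u a x v y) {r : S} (hr : r ∈ V) : ⁅a, r⁆ = 1 ∨ ⁅a, r⁆ = v := by
  by_cases hrW : r ∈ A ⊓ V
  · exact Or.inl (commutatorElement_eq_one_iff_mul_comm.mpr (E.sc.comm a E.ha r hrW.1))
  refine Or.inr ?_
  have h := (mul_mem_of_card_le (inf_le_right : A ⊓ V ≤ V) (by rw [E.w4, E.cardV]) hr hrW E.hx E.x_not).2.1
  have e : r = (r * x⁻¹) * x := by group
  rw [e, comm_mul_right E.ne.normal E.ne.comm a h.2 E.hx,
    commutatorElement_eq_one_iff_mul_comm.mpr (E.sc.comm a E.ha _ h.1), one_mul, E.hax]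

theorem EightV.fixed_D (E : EightV A V B u a x v y) {e : S} (he : e ∈ centralizer (B : Set S))
    (hae : a * e = e * a) : e ∈ A ⊓ V := by
  have h := E.mem_A_four E.w4 E.ha E.haV hae fun w hw => mem_centralizer_iff.mp he w (E.vle hw.2)
  exact ⟨h, E.mem_V_of_centralizer h (E.D_le_C he)⟩

/-- The image of commutation with `a` on `C(B)`. -/
def EightV.imgI (E : EightV A V B u a x v y) : Subgroup S :=
  commImage E.D_normal E.comm_D a (centralizer (B : Set S))

theorem EightV.mem_imgI {E : EightV A V B u a x v y} {w : S} :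
    w ∈ E.imgI ↔ ∃ e ∈ centralizer (B : Set S), ⁅a, e⁆ = w := mem_commImage le_rfl

theorem EightV.imgI_le (E : EightV A V B u a x v y) : E.imgI ≤ centralizer (B : Set S) := fun w hw => by
  obtain ⟨e, he, rfl⟩ := mem_imgI.mp hw
  exact comm_mem E.D_normal a he

theorem EightV.W_imgI (E : EightV A V B u a x v y) {w : S} (hw : w ∈ A ⊓ V) : w ∈ E.imgI := by
  obtain ⟨b, hb, rfl⟩ := E.exists_comm E.ha E.haV hw.2 (E.sc.comm a E.ha w hw.1)
  exact mem_imgI.mpr ⟨b, E.B_le hb, rfl⟩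

theorem EightV.mul_conj_mem (E : EightV A V B u a x v y) {e : S} (he : e ∈ centralizer (B : Set S)) :
    e * (a * e * a⁻¹) ∈ A ⊓ V := by
  have he' := E.D_normal.conj_mem e he a
  refine E.fixed_D (mul_mem he he') (mul_inv_eq_iff_eq_mul.mp ?_)
  calc a * (e * (a * e * a⁻¹)) * a⁻¹ = (a * e * a⁻¹) * ((a * a) * e * (a * a)⁻¹) := by group
    _ = e * (a * e * a⁻¹) := by rw [E.mul_self E.ha, one_mul, inv_one, mul_one, E.comm_D _ he' e he]

theorem EightV.sq_imgI (E : EightV A V B u a x v y) {e : S} (he : e ∈ centralizer (B : Set S)) : e ^ 2 ∈ E.imgI := by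
  have he' := E.D_normal.conj_mem e he a
  have hkey : e ^ 2 = (e * (a * e * a⁻¹)) * ⁅a, e⁆⁻¹ := by
    rw [commutatorElement_def, mul_inv_rev, inv_inv, mul_assoc e (a * e * a⁻¹), ← mul_assoc (a * e * a⁻¹) e,
      E.comm_D _ he' e he, mul_inv_cancel_right, pow_two]
  rw [hkey]
  exact mul_mem (E.W_imgI (E.mul_conj_mem he)) (inv_mem (mem_imgI.mpr ⟨e, he, rfl⟩))

theorem EightV.fixes_v (E : EightV A V B u a x v y) {g : S} (hg : ⁅g, a⁆ ∈ centralizer (V : Set S)) :
    g * v = v * g := by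
  have hrV := E.ne.normal.conj_mem x E.hx g
  have hav := comm_mem E.ne.normal a hrV
  have e : g * v * g⁻¹ = ⁅a, g * x * g⁻¹⁆ := by
    calc g * v * g⁻¹ = (g * a * g⁻¹) * (g * x * g⁻¹) * (g * a * g⁻¹)⁻¹ * (g * x * g⁻¹)⁻¹ := by
          rw [← E.hax]; simp only [commutatorElement_def]; group
      _ = ⁅g, a⁆ * (⁅a, g * x * g⁻¹⁆ * (g * x * g⁻¹)) * ⁅g, a⁆⁻¹ * (g * x * g⁻¹)⁻¹ := by
          simp only [commutatorElement_def]; group
      _ = _ := by rw [← mem_centralizer_iff.mp hg _ (mul_mem hav hrV), mul_inv_cancel_right, mul_inv_cancel_right]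
  rcases E.comm_v hrV with e' | e' <;> rw [e'] at e
  · exact absurd (conj_eq_one_iff.mp e) E.v1
  · exact mul_inv_eq_iff_eq_mul.mp e

theorem EightV.adjust_split (E : EightV A V B u a x v y) {g : S} (hg : ⁅g, a⁆ ∈ E.imgI) :
    g ∈ centralizer (V : Set S) ∨ a⁻¹ * g ∈ centralizer (V : Set S) := by
  haveI := E.ne.normal
  have hC : (centralizer (V : Set S)).Normal := inferInstance
  obtain ⟨e, he, hea⟩ := mem_imgI.mp hg
  have hfD : ⁅g, a⁆ ∈ centralizer (B : Set S) := E.imgI_le hg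
  have h1 : ⁅e * g, a⁆ = 1 := by
    calc ⁅e * g, a⁆ = e * ⁅g, a⁆ * e⁻¹ * ⁅a, e⁆⁻¹ := by simp only [commutatorElement_def]; group
      _ = 1 := by rw [E.comm_D e he _ hfD, mul_inv_cancel_right, hea, mul_inv_cancel]
  have hegA := E.mem_A_four E.w4 E.ha E.haV (commutatorElement_eq_one_iff_mul_comm.mp h1).symm
    fun w hw => E.W_commute (E.fixes_v (by rw [h1]; exact one_mem _)) hw
  have heC := E.D_le_C he
  by_cases hV : e * g ∈ V
  · left
    have := mul_mem (inv_mem heC) (E.D_le_C (E.V_le hV))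
    rwa [inv_mul_cancel_left] at this
  · right
    have h2 := (mul_mem_of_card_le (inf_le_left : A ⊓ V ≤ A) (by rw [E.w4, E.sc.card]) E.ha (fun e => E.haV e.2)
      hegA (fun e => hV e.2)).2.2
    have h3 := mul_mem (hC.conj_mem _ (inv_mem heC) a⁻¹) (E.D_le_C (E.V_le h2.2))
    rwa [show a⁻¹ * e⁻¹ * a⁻¹⁻¹ * (a⁻¹ * (e * g)) = a⁻¹ * g by group] at h3

/-! #### `C(V) ≠ C(B)` -/

theorem EightV.q_eq (E : EightV A V B u a x v y) {c c' : S} (hc : c ∈ centralizer (V : Set S))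
    (hcD : c ∉ centralizer (B : Set S)) (hc' : c' ∈ centralizer (V : Set S)) (hcD' : c' ∉ centralizer (B : Set S)) :
    ⁅c, y⁆ = ⁅c', y⁆ := by
  classical
  by_contra hne
  have t1 : ⁅c, y⁆ ≠ 1 := fun e => hcD (E.mem_D hc E.hy E.hyV e)
  have t1' : ⁅c', y⁆ ≠ 1 := fun e => hcD' (E.mem_D hc' E.hy E.hyV e)
  have tv : ⁅c, y⁆ * ⁅c', y⁆ ≠ v := fun e => E.qv _ (mul_mem hc hc') (by rw [E.comm_C_mul hc E.hy, e])
  have hsub : (({1, v, ⁅c, y⁆, ⁅c', y⁆, ⁅c, y⁆ * ⁅c', y⁆} : Finset S) : Set S) ⊆ ((A ⊓ V : Subgroup S) : Set S) := by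
    intro w hw
    simp only [Finset.coe_insert, Finset.coe_singleton, Set.mem_insert_iff, Set.mem_singleton_iff] at hw
    rcases hw with rfl | rfl | rfl | rfl | rfl
    · exact one_mem _
    · exact E.v_mem
    · exact E.qmem c hc
    · exact E.qmem c' hc'
    · exact mul_mem (E.qmem c hc) (E.qmem c' hc')
  have h5 : ({1, v, ⁅c, y⁆, ⁅c', y⁆, ⁅c, y⁆ * ⁅c', y⁆} : Finset S).card = 5 := by
    have a1 : (1 : S) ≠ ⁅c, y⁆ * ⁅c', y⁆ := fun e => hne (by
      rw [eq_inv_of_mul_eq_one_left e.symm]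
      exact inv_eq_of_mul_eq_one_right (by rw [← pow_two]; exact E.ne.sq _ (E.comm_V c' E.hy)))
    have a3 : ⁅c, y⁆ ≠ ⁅c, y⁆ * ⁅c', y⁆ := fun e => t1' (mul_eq_left.mp e.symm)
    have a4 : ⁅c', y⁆ ≠ ⁅c, y⁆ * ⁅c', y⁆ := fun e => t1 (mul_eq_right.mp e.symm)
    rw [Finset.card_insert_of_notMem (by simp [E.v1.symm, t1.symm, t1'.symm, a1]),
      Finset.card_insert_of_notMem (by simp [(E.qv c hc).symm, (E.qv c' hc').symm, Ne.symm tv]),
      Finset.card_insert_of_notMem (by simp [hne, a3]), Finset.card_pair a4]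
  have := Set.ncard_le_ncard hsub (Set.toFinite _)
  rw [Set.ncard_coe_finset, h5, ← Nat.card_coe_set_eq, SetLike.coe_sort_coe, E.w4] at this
  omega

theorem EightV.mul_mem_D (E : EightV A V B u a x v y) {c c' : S} (hc : c ∈ centralizer (V : Set S))
    (hcD : c ∉ centralizer (B : Set S)) (hc' : c' ∈ centralizer (V : Set S)) (hcD' : c' ∉ centralizer (B : Set S)) :
    c * c'⁻¹ ∈ centralizer (B : Set S) := by
  refine E.mem_D (mul_mem hc (inv_mem hc')) E.hy E.hyV ?_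
  rw [E.comm_C_mul hc E.hy, E.comm_C_inv hc' E.hy, E.q_eq hc hcD hc' hcD', ← pow_two]
  exact E.ne.sq _ (E.comm_V c' E.hy)

theorem EightV.sq_mem_D (E : EightV A V B u a x v y) {c : S} (hc : c ∈ centralizer (V : Set S)) :
    c * c ∈ centralizer (B : Set S) := by
  refine E.mem_D (mul_mem hc hc) E.hy E.hyV ?_
  rw [E.comm_C_mul hc E.hy, ← pow_two]
  exact E.ne.sq _ (E.comm_V c E.hy)

theorem EightV.comm_a_mem_D (E : EightV A V B u a x v y) {c : S} (hc : c ∈ centralizer (V : Set S)) :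
    ⁅c, a⁆ ∈ centralizer (B : Set S) := by
  haveI := E.ne.normal
  refine E.mem_D (comm_mem_left (inferInstance : (centralizer (V : Set S)).Normal) a hc) E.hy E.hyV ?_
  rw [show ⁅c, a⁆ = c * (a * c⁻¹ * a⁻¹) by rw [commutatorElement_def]; group, E.comm_C_mul hc E.hy,
    E.comm_C_conj E.ha E.hy E.hay, E.comm_C_inv hc E.hy, E.sc.comm a E.ha _ (E.qmem c hc).1,
    mul_inv_cancel_right, ← pow_two]
  exact E.ne.sq _ (E.comm_V c E.hy)

theorem EightV.not_mem_imgI (E : EightV A V B u a x v y) {c : S} (hc : c ∈ centralizer (V : Set S))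
    (hcD : c ∉ centralizer (B : Set S)) : ⁅c, a⁆ ∉ E.imgI := fun h => by
  obtain ⟨e, he, hea⟩ := mem_imgI.mp h
  have h1 : ⁅e * c, a⁆ = 1 := by
    calc ⁅e * c, a⁆ = e * ⁅c, a⁆ * e⁻¹ * ⁅a, e⁆⁻¹ := by simp only [commutatorElement_def]; group
      _ = 1 := by rw [E.comm_D e he _ (E.imgI_le h), mul_inv_cancel_right, hea, mul_inv_cancel]
  have hecC : e * c ∈ centralizer (V : Set S) := mul_mem (E.D_le_C he) hc
  have := E.V_le (E.mem_V_of_centralizer (E.mem_A_four E.w4 E.ha E.haV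
    (commutatorElement_eq_one_iff_mul_comm.mp h1).symm fun w hw => mem_centralizer_iff.mp hecC w hw.2) hecC)
  have := mul_mem (inv_mem he) this
  rw [inv_mul_cancel_left] at this
  exact hcD this

theorem EightV.fixed_by_c (E : EightV A V B u a x v y) {c e : S} (hc : c ∈ centralizer (V : Set S))
    (hcD : c ∉ centralizer (B : Set S)) (he : e ∈ centralizer (B : Set S)) (hce : c * e = e * c) : e ∈ V := by
  refine E.omega_D he ?_
  by_contra h2
  obtain ⟨k, hk, hkV⟩ := E.exists_four he h2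
  exact hcD (E.mem_D hc hk hkV (commutatorElement_eq_one_iff_mul_comm.mpr (Commute.pow_right hce _)))

theorem EightV.comm_C_imgI (E : EightV A V B u a x v y) {c e : S} (hc : c ∈ centralizer (V : Set S))
    (hcD : c ∉ centralizer (B : Set S)) (he : e ∈ centralizer (B : Set S)) : ⁅c, e⁆ ∈ E.imgI := by
  have hcc := E.sq_mem_D hc
  set f := c * e * c⁻¹ with hf
  have hfD : f ∈ centralizer (B : Set S) := E.D_normal.conj_mem e he c
  have hcf : c * f * c⁻¹ = e := by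
    rw [show c * f * c⁻¹ = (c * c) * e * (c * c)⁻¹ by rw [hf]; group, E.comm_D _ hcc e he, mul_inv_cancel_right]
  have hwV : e * f ∈ V := E.fixed_by_c hc hcD (mul_mem he hfD) (mul_inv_eq_iff_eq_mul.mp (by
    calc c * (e * f) * c⁻¹ = (c * e * c⁻¹) * (c * f * c⁻¹) := by group
      _ = e * f := by rw [← hf, hcf, E.comm_D f hfD e he]))
  have hwW : e * f ∈ A ⊓ V := by
    refine E.fixed_W hwV (mul_inv_eq_iff_eq_mul.mp ?_)
    have he' := E.D_normal.conj_mem e he a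
    have hδ : ⁅a, c⁆ ∈ centralizer (B : Set S) := by
      rw [← commutatorElement_inv]; exact inv_mem (E.comm_a_mem_D hc)
    have haf : a * f * a⁻¹ = c * (a * e * a⁻¹) * c⁻¹ := by
      calc a * f * a⁻¹ = ⁅a, c⁆ * (c * (a * e * a⁻¹) * c⁻¹) * ⁅a, c⁆⁻¹ := by
            rw [hf]; simp only [commutatorElement_def]; group
        _ = _ := by rw [E.comm_D _ hδ _ (E.D_normal.conj_mem _ he' c), mul_inv_cancel_right]
    set w₀ := e * (a * e * a⁻¹) with hw₀
    have hw0 := E.mul_conj_mem he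
    rw [← hw₀] at hw0
    have hw0c : c * w₀ * c⁻¹ = w₀ := by rw [← mem_centralizer_iff.mp hc w₀ hw0.2, mul_inv_cancel_right]
    calc a * (e * f) * a⁻¹ = (a * e * a⁻¹) * (a * f * a⁻¹) := by group
      _ = e⁻¹ * w₀ * (c * (e⁻¹ * w₀) * c⁻¹) := by rw [haf, hw₀, inv_mul_cancel_left]
      _ = e⁻¹ * w₀ * (f⁻¹ * (c * w₀ * c⁻¹)) := by rw [hf]; group
      _ = e⁻¹ * (w₀ * f⁻¹) * w₀ := by rw [hw0c]; group
      _ = e⁻¹ * (f⁻¹ * w₀) * w₀ := by rw [E.comm_D w₀ (E.V_le hw0.2) f⁻¹ (inv_mem hfD)]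
      _ = (f * e)⁻¹ * (w₀ * w₀) := by group
      _ = e * f := by
          rw [← pow_two w₀, E.ne.sq w₀ hw0.2, mul_one, E.comm_D f hfD e he,
            inv_eq_of_mul_eq_one_right (by rw [← pow_two]; exact E.ne.sq _ hwV)]
  have hkey : ⁅c, e⁆ = (e * f) * (e ^ 2)⁻¹ := by
    calc ⁅c, e⁆ = f * e⁻¹ := by rw [commutatorElement_def]
      _ = _ := by rw [E.comm_D e he f hfD]; group
  rw [hkey]
  exact mul_mem (E.W_imgI hwW) (inv_mem (E.sq_imgI he))

theorem EightV.split (E : EightV A V B u a x v y) {c₀ : S} (hc₀ : c₀ ∈ centralizer (V : Set S))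
    (hc₀D : c₀ ∉ centralizer (B : Set S)) {g : S} (hg : ⁅g, a⁆ ∈ centralizer (V : Set S)) :
    g ∈ centralizer (V : Set S) ∨ a⁻¹ * g ∈ centralizer (V : Set S) := by
  have : Fact (Nat.Prime 2) := ⟨Nat.prime_two⟩
  haveI := E.ne.normal
  have hC : (centralizer (V : Set S)).Normal := inferInstance
  set f := ⁅g, a⁆ with hf
  have hinv : a * f * a⁻¹ = f⁻¹ := conj_commutator_right (E.mul_self E.ha)
  have hfD : f ∈ centralizer (B : Set S) := by
    by_contra hfD
    have hfa : ⁅f, a⁆ = f * f := by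
      rw [commutatorElement_def, mul_assoc f a, mul_assoc f (a * f⁻¹), ← conj_inv, hinv, inv_inv]
    have hffV : f * f ∈ V := E.fixed_by_c hg hfD (E.sq_mem_D hg) (mul_assoc f f f).symm
    refine E.not_mem_imgI hg hfD ?_
    rw [hfa]
    refine E.W_imgI (E.fixed_W hffV (mul_inv_eq_iff_eq_mul.mp ?_))
    rw [← conj_mul, hinv, ← mul_inv_rev]
    exact inv_eq_of_mul_eq_one_right (by rw [← pow_two]; exact E.ne.sq _ hffV)
  by_cases hfI : f ∈ E.imgI
  · exact E.adjust_split hfI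
  -- the elements of `C(B)` inverted by `a`
  let Q : Subgroup S :=
    { carrier := {d | d ∈ centralizer (B : Set S) ∧ a * d * a⁻¹ = d⁻¹}
      one_mem' := ⟨one_mem _, by simp⟩
      mul_mem' := fun {d d'} hd hd' => ⟨mul_mem hd.1 hd'.1, by
        rw [← conj_mul, hd.2, hd'.2, ← mul_inv_rev, E.comm_D d' hd'.1 d hd.1]⟩
      inv_mem' := fun {d} hd => ⟨inv_mem hd.1, by rw [← conj_inv, hd.2]⟩ }
  have hIQ : E.imgI ≤ Q := fun w hw => by
    obtain ⟨e, he, rfl⟩ := mem_imgI.mp hw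
    exact ⟨comm_mem E.D_normal a he, conj_commutator_left (E.mul_self E.ha)⟩
  have hcard : Nat.card Q ≤ 2 * Nat.card E.imgI := by
    have h := card_image_mul E.D_normal E.comm_D a (le_refl (centralizer (B : Set S)))
    have hfix : centralizer (B : Set S) ⊓ centralizer ({a} : Set S) = A ⊓ V :=
      le_antisymm (fun e he => E.fixed_D he.1 (mem_centralizer_singleton_iff.mp he.2).symm)
        (fun w hw => ⟨E.V_le hw.2, mem_centralizer_singleton_iff.mpr (E.sc.comm w hw.1 a E.ha)⟩)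
    rw [hfix, E.w4] at h
    have hQD : Q ≤ centralizer (B : Set S) := fun d hd => hd.1
    have := PGroup.mul_card_le_of_lt (p := 2) E.sc.p (lt_of_le_of_ne hQD fun e => E.x_not
      (E.fixed_W E.hx (mul_inv_eq_iff_eq_mul.mp ((e.ge (E.V_le E.hx)).2.trans
        (inv_eq_of_mul_eq_one_right (by rw [← pow_two]; exact E.ne.sq x E.hx))))))
    rw [← h] at this
    change 2 * Nat.card Q ≤ Nat.card E.imgI * 4 at this
    omega
  have hfQ : f ∈ Q := ⟨hfD, hinv⟩
  have hdQ : ⁅c₀, a⁆ ∈ Q := ⟨E.comm_a_mem_D hc₀, conj_commutator_right (E.mul_self E.ha)⟩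
  have hprod := (mul_mem_of_card_le hIQ hcard hfQ hfI hdQ (E.not_mem_imgI hc₀ hc₀D)).1
  have h2 : ⁅c₀ * g, a⁆ ∈ E.imgI := by
    rw [show ⁅c₀ * g, a⁆ = ⁅c₀, f⁆ * (f * ⁅c₀, a⁆) by rw [hf]; simp only [commutatorElement_def]; group]
    exact mul_mem (E.comm_C_imgI hc₀ hc₀D hfD) hprod
  rcases E.adjust_split h2 with h | h
  · left
    have := mul_mem (inv_mem hc₀) h
    rwa [inv_mul_cancel_left] at this
  · right
    have := mul_mem (hC.conj_mem _ (inv_mem hc₀) a⁻¹) h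
    rwa [show a⁻¹ * c₀⁻¹ * a⁻¹⁻¹ * (a⁻¹ * (c₀ * g)) = a⁻¹ * g by group] at this

theorem EightV.cover (E : EightV A V B u a x v y) {c₀ : S} (hc₀ : c₀ ∈ centralizer (V : Set S))
    (hc₀D : c₀ ∉ centralizer (B : Set S)) (g : S) :
    g ∈ centralizer (V : Set S) ∨ a⁻¹ * g ∈ centralizer (V : Set S) := by
  have : Fact (Nat.Prime 2) := ⟨Nat.prime_two⟩
  haveI := E.ne.normal
  set C := centralizer (V : Set S)
  set π := QuotientGroup.mk' C
  have hπ : ∀ {t : S}, π t = 1 ↔ t ∈ C := fun {t} => QuotientGroup.eq_one_iff t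
  have haC : a ∉ C := fun e => E.haV (E.mem_V_of_centralizer E.ha e)
  haveI : Nontrivial (S ⧸ C) := ⟨⟨π a, 1, fun e => haC (hπ.mp e)⟩⟩
  haveI := (E.sc.p.to_quotient C).center_nontrivial
  obtain ⟨⟨z, hz⟩, hz1⟩ := exists_ne (1 : center (S ⧸ C))
  obtain ⟨t, rfl⟩ := QuotientGroup.mk'_surjective C z
  have htC : t ∉ C := fun e => hz1 (Subtype.ext (hπ.mpr e))
  have hta : ⁅t, a⁆ ∈ C := hπ.mp (by
    rw [map_commutatorElement]
    exact commutatorElement_eq_one_iff_mul_comm.mpr (mem_center_iff.mp hz _).symm)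
  have h := (E.split hc₀ hc₀D hta).resolve_left htC
  have hac : π a = π t := by
    have := hπ.mpr h
    rwa [map_mul, map_inv, inv_mul_eq_one] at this
  refine E.split hc₀ hc₀D (hπ.mp ?_)
  rw [map_commutatorElement, hac]
  exact commutatorElement_eq_one_iff_mul_comm.mpr (mem_center_iff.mp hz _)

theorem EightV.card_le_of_ne (E : EightV A V B u a x v y) {c₀ : S} (hc₀ : c₀ ∈ centralizer (V : Set S))
    (hc₀D : c₀ ∉ centralizer (B : Set S)) {H N : Subgroup S} (hsq : ∀ z ∈ H, z ^ 2 ∈ N) :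
    Nat.card H ≤ 2 ^ 4 * Nat.card N := by
  haveI := E.ne.normal
  haveI := E.D_normal
  set C := centralizer (V : Set S) with hC
  set D := centralizer (B : Set S) with hD
  have hzle : ∀ {Q : Type _} [Group Q] (q : Q), q ^ 2 = 1 → Nat.card (zpowers q) ≤ 2 := fun q hq => by
    rw [Nat.card_zpowers]; exact Nat.le_of_dvd (by norm_num) (orderOf_dvd_iff_pow_eq_one.mpr hq)
  have h1 : Nat.card H ≤ 2 * Nat.card (H ⊓ C : Subgroup S) := by
    have h := card_eq_map_mul (QuotientGroup.mk' C) H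
    rw [QuotientGroup.ker_mk'] at h
    rw [← h]
    refine Nat.mul_le_mul_right _ ((card_le_of_le ?_).trans (hzle (QuotientGroup.mk' C a)
      (by rw [← map_pow, E.sc.sq a E.ha, map_one])))
    rintro _ ⟨t, -, rfl⟩
    rcases E.cover hc₀ hc₀D t with ht | ht
    · rw [show QuotientGroup.mk' C t = 1 from (QuotientGroup.eq_one_iff t).mpr ht]; exact one_mem _
    · rw [← show QuotientGroup.mk' C a = QuotientGroup.mk' C t from QuotientGroup.eq.mpr ht]
      exact mem_zpowers _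
  have h2 : Nat.card (H ⊓ C : Subgroup S) ≤ 2 * Nat.card (H ⊓ D : Subgroup S) := by
    have h := card_eq_map_mul (QuotientGroup.mk' D) (H ⊓ C)
    rw [QuotientGroup.ker_mk', inf_assoc, inf_eq_right.mpr E.D_le_C] at h
    rw [← h]
    refine Nat.mul_le_mul_right _ ((card_le_of_le ?_).trans (hzle (QuotientGroup.mk' D c₀)
      (by rw [← map_pow]; exact (QuotientGroup.eq_one_iff _).mpr (by rw [pow_two]; exact E.sq_mem_D hc₀))))
    rintro _ ⟨t, ht, rfl⟩
    by_cases htD : t ∈ D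
    · rw [show QuotientGroup.mk' D t = 1 from (QuotientGroup.eq_one_iff t).mpr htD]; exact one_mem _
    · rw [show QuotientGroup.mk' D t = QuotientGroup.mk' D c₀ from QuotientGroup.eq.mpr (by
        have := E.D_normal.conj_mem _ (inv_mem (E.mul_mem_D ht.2 htD hc₀ hc₀D)) t⁻¹
        rwa [show t⁻¹ * (t * c₀⁻¹)⁻¹ * t⁻¹⁻¹ = t⁻¹ * c₀ by group] at this)]
      exact mem_zpowers _
  have hND : Nat.card (N ⊓ D : Subgroup S) ≤ Nat.card N := card_le_of_le inf_le_left
  have h8 := E.card_le_eight hsq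
  rw [← hD] at h8
  by_cases hHC : H ≤ C
  · rw [inf_eq_left.mpr hHC] at h2
    omega
  by_cases hCD : H ⊓ C ≤ D
  · have : Nat.card (H ⊓ C : Subgroup S) ≤ Nat.card (H ⊓ D : Subgroup S) :=
      card_le_of_le (le_inf inf_le_left hCD)
    omega
  obtain ⟨h, hh, hhC⟩ := SetLike.not_le_iff_exists.mp hHC
  obtain ⟨c, hc, hcD⟩ := SetLike.not_le_iff_exists.mp hCD
  have h4 := E.card_le_four hsq (Or.inr ⟨⁅h, c⁆, commutator_mem_of_sq hsq hh hc.1, ?_⟩)
  · rw [← hD] at h4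
    omega
  set c₁ := a⁻¹ * h with hc₁
  have hc₁C : c₁ ∈ C := (E.cover hc₀ hc₀D h).resolve_left hhC
  have hI : ⁅c₁, c⁆ ∈ E.imgI := by
    by_cases hc₁D : c₁ ∈ D
    · rw [← commutatorElement_inv]
      exact inv_mem (E.comm_C_imgI hc.2 hcD hc₁D)
    · have he := E.mul_mem_D hc₁C hc₁D hc.2 hcD
      rw [show ⁅c₁, c⁆ = ⁅c₁ * c⁻¹, c⁆ by simp only [commutatorElement_def]; group, ← commutatorElement_inv]
      exact inv_mem (E.comm_C_imgI hc.2 hcD he)
  have haI : a * ⁅c₁, c⁆ * a⁻¹ ∈ E.imgI := by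
    obtain ⟨e, he, hee⟩ := EightV.mem_imgI.mp hI
    rw [← hee, conj_commutator_left (E.mul_self E.ha)]
    exact inv_mem (EightV.mem_imgI.mpr ⟨e, he, rfl⟩)
  have hkey : ⁅h, c⁆ = (a * ⁅c₁, c⁆ * a⁻¹) * ⁅a, c⁆ := by
    rw [hc₁]; simp only [commutatorElement_def]; group
  rw [hkey]
  refine ⟨mul_mem (E.imgI_le haI) ?_, fun hw => ?_⟩
  · rw [← commutatorElement_inv]; exact inv_mem (E.comm_a_mem_D hc.2)
  · have hle : sq (H ⊓ centralizer (B : Set S)) ≤ E.imgI := sq_le_iff.mpr fun e he => E.sq_imgI he.2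
    have := mul_mem (inv_mem haI) (hle hw)
    rw [inv_mul_cancel_left, ← commutatorElement_inv] at this
    exact E.not_mem_imgI hc.2 hcD (inv_mem_iff.mp this)

/-! #### `C(V) = C(B)` -/

theorem EightV.card_le_of_eq (E : EightV A V B u a x v y)
    (hDC : centralizer (V : Set S) ≤ centralizer (B : Set S)) {H N : Subgroup S} (hsq : ∀ z ∈ H, z ^ 2 ∈ N) :
    Nat.card H ≤ 2 ^ 4 * Nat.card N := by
  haveI := E.ne.normal
  refine E.finish hDC hsq fun h3 hBH hall => ?_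
  have hV1 := E.v_mem.2
  have hallV : ∀ h ∈ H, ∀ r ∈ V, ⁅h, r⁆ = 1 ∨ ⁅h, r⁆ = u := fun h hh r hr => hall h hh r (E.vle hr)
  obtain ⟨g, hg, hgv, hgx⟩ := E.full hV1 E.v_not E.hx E.x_not_sup hallV h3 (Or.inr rfl) (Or.inl rfl)
  obtain ⟨h, hh, hhv, hhx⟩ := E.full hV1 E.v_not E.hx E.x_not_sup hallV h3 (Or.inl rfl) (Or.inr rfl)
  have conj_of : ∀ {g r t : S}, ⁅g, r⁆ = t → g * r * g⁻¹ = t * r := fun {g r t} e => by
    rw [← e, commutatorElement_def, inv_mul_cancel_right]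
  have hui : u⁻¹ = u := inv_eq_of_mul_eq_one_right E.u_sq
  have hai := E.sc.inv_eq E.ha
  have huc : ∀ t : S, t * u = u * t := fun t => mem_center_iff.mp E.uc t
  have cu : ∀ t s : S, t * (u * s) * t⁻¹ = u * (t * s * t⁻¹) := fun t s => by
    rw [← mul_assoc t u, huc, mul_assoc u t, mul_assoc u (t * s)]
  have inv_conj : ∀ {g r : S}, g * r * g⁻¹ = u * r → g⁻¹ * r * g = u * r := fun {g r} e => by
    have h1 : r = u * (g⁻¹ * r * g) := by
      calc r = g⁻¹ * (g * r * g⁻¹) * g⁻¹⁻¹ := by group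
        _ = g⁻¹ * (u * r) * g⁻¹⁻¹ := by rw [e]
        _ = _ := by rw [cu, inv_inv]
    calc g⁻¹ * r * g = u * (u * (g⁻¹ * r * g)) := by rw [← mul_assoc u u, E.u_sq, one_mul]
      _ = u * r := by rw [← h1]
  have hgv' : g * v * g⁻¹ = u * v := conj_of hgv
  have hgx' : g * x * g⁻¹ = x := by rw [conj_of hgx, one_mul]
  have hgx'' : g⁻¹ * x * g = x := by
    calc g⁻¹ * x * g = g⁻¹ * (g * x * g⁻¹) * g := by rw [hgx']
      _ = x := by group
  have hhv' : h * v * h⁻¹ = v := by rw [conj_of hhv, one_mul]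
  have hhx' : h * x * h⁻¹ = u * x := conj_of hhx
  have hav : a * v * a⁻¹ = v := by rw [E.sc.comm a E.ha v E.v_mem.1, mul_inv_cancel_right]
  have hax : a * x * a⁻¹ = v * x := conj_of E.hax
  have hay : a * y * a⁻¹ = u * y := conj_of E.hay
  set ρ := g * a * g⁻¹ * a with hρ
  have hρc : ∀ r : S, ρ * r * ρ⁻¹ = g * (a * (g⁻¹ * (a * r * a⁻¹) * g) * a⁻¹) * g⁻¹ := fun r => by rw [hρ]; group
  have hρv : ρ * v * ρ⁻¹ = v := by
    rw [hρc, hav, inv_conj hgv', cu, hav, cu, hgv', ← mul_assoc, E.u_sq, one_mul]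
  have hρx : ρ * x * ρ⁻¹ = u * x := by
    have e1 : g⁻¹ * (v * x) * g = (g⁻¹ * v * g) * (g⁻¹ * x * g) := by group
    have e2 : a * (v * x) * a⁻¹ = x := by
      rw [← conj_mul, hav, hax, ← mul_assoc, ← pow_two, E.ne.sq v hV1, one_mul]
    rw [hρc, hax, e1, inv_conj hgv', hgx'', mul_assoc u v x, cu, e2, cu, hgx']
  have hρy : ρ * y * ρ⁻¹ = y := by
    rw [hρc, hay]
    have e0 : g⁻¹ * (u * y) * g = u * (g⁻¹ * y * g) := by
      rw [← mul_assoc g⁻¹ u, huc g⁻¹, mul_assoc u g⁻¹ y, mul_assoc u (g⁻¹ * y) g]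
    rw [e0]
    rcases hall g hg y E.hy with e | e
    · have h1 : g * y * g⁻¹ = y := by rw [conj_of e, one_mul]
      have h2 : g⁻¹ * y * g = y := by
        calc g⁻¹ * y * g = g⁻¹ * (g * y * g⁻¹) * g := by rw [h1]
          _ = y := by group
      rw [h2, cu, hay, ← mul_assoc u u, E.u_sq, one_mul, h1]
    · have h1 : g * y * g⁻¹ = u * y := conj_of e
      rw [inv_conj h1, ← mul_assoc u u, E.u_sq, one_mul, hay, cu, h1, ← mul_assoc, E.u_sq, one_mul]
  have hhρ : ρ⁻¹ * h ∈ centralizer (B : Set S) :=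
    hDC (E.mem_C_of_agree hV1 E.v_not E.hx E.x_not_sup (by rw [hρv, hhv']) (by rw [hρx, hhx']))
  have hhy : h * y * h⁻¹ = y := by
    calc h * y * h⁻¹ = ρ * ((ρ⁻¹ * h) * y * (ρ⁻¹ * h)⁻¹) * ρ⁻¹ := by group
      _ = y := by rw [← mem_centralizer_iff.mp hhρ y E.hy, mul_inv_cancel_right, hρy]
  have hh2D : h * h ∈ centralizer (B : Set S) := by
    have h1 := E.mem_C_of_agree hV1 E.v_not E.hx E.x_not_sup (g := h * h) (h := 1)
      (by rw [show (h * h) * v * (h * h)⁻¹ = h * (h * v * h⁻¹) * h⁻¹ by group, hhv', hhv']; group)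
      (by rw [show (h * h) * x * (h * h)⁻¹ = h * (h * x * h⁻¹) * h⁻¹ by group, hhx', cu, hhx', ← mul_assoc,
        E.u_sq]; group)
    rw [inv_one, one_mul] at h1
    exact hDC h1
  have hhaD : ⁅h, a⁆ ∈ centralizer (B : Set S) := by
    have h1 := E.mem_C_of_agree hV1 E.v_not E.hx E.x_not_sup (g := h * a) (h := a * h)
      (by rw [show (h * a) * v * (h * a)⁻¹ = h * (a * v * a⁻¹) * h⁻¹ by group,
        show (a * h) * v * (a * h)⁻¹ = a * (h * v * h⁻¹) * a⁻¹ by group, hav, hhv', hav])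
      (by rw [show (h * a) * x * (h * a)⁻¹ = h * (a * x * a⁻¹) * h⁻¹ by group,
        show (a * h) * x * (a * h)⁻¹ = a * (h * x * h⁻¹) * a⁻¹ by group, hax, hhx', ← conj_mul, hhv', hhx', cu, hax,
        ← mul_assoc, ← mul_assoc, huc v])
    have h2 := hDC ((inferInstance : (centralizer (V : Set S)).Normal).conj_mem _ h1 (a * h))
    rwa [show a * h * ((a * h)⁻¹ * (h * a)) * (a * h)⁻¹ = ⁅h, a⁆ by simp only [commutatorElement_def]; group] at h2
  have key : ∀ p ∈ centralizer (B : Set S), h * p * h⁻¹ = p⁻¹ → a * p * a⁻¹ = p⁻¹ → p ∈ V := by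
    intro p hp hph hpa
    refine E.omega_D hp ?_
    by_contra h2
    obtain ⟨k, hk, hkV⟩ := E.exists_four hp h2
    set q := p ^ 2 ^ k with hq
    have hqh : h * q * h⁻¹ = q⁻¹ := by rw [hq, ← conj_pow, hph, inv_pow]
    have hqa : a * q * a⁻¹ = q⁻¹ := by rw [hq, ← conj_pow, hpa, inv_pow]
    have hqu : ⁅a, q⁆ = u := by rw [comm_of_inverted hqa, E.usq q hk hkV, hui]
    have hr := (E.mul_mem_V hk hkV E.hy E.hyV).2.1
    have hra : a * (q * y⁻¹) = q * y⁻¹ * a := commutatorElement_eq_one_iff_mul_comm.mp (by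
      rw [comm_mul_right E.bn E.bc a hk (inv_mem E.hy), comm_inv_right E.bn E.bc a E.hy, hqu, E.hay, mul_inv_cancel])
    have hrh := E.W_commute (mul_inv_eq_iff_eq_mul.mp hhv') (E.fixed_W hr hra)
    have hqfix : h * q * h⁻¹ = q := by
      calc h * q * h⁻¹ = (h * (q * y⁻¹) * h⁻¹) * (h * y * h⁻¹) := by group
        _ = q := by rw [← hrh, mul_inv_cancel_right, hhy, inv_mul_cancel_right]
    rw [hqh] at hqfix
    exact hkV (E.omega q hk (by rw [pow_two]; nth_rewrite 1 [← hqfix]; exact inv_mul_cancel q))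
  have hphi : ∀ e ∈ centralizer (B : Set S), ⁅h, e⁆ ∈ V := by
    intro e he
    have he' := E.D_normal.conj_mem e he a
    refine key _ (comm_mem E.D_normal h he) ?_ ?_
    · calc h * ⁅h, e⁆ * h⁻¹ = ((h * h) * e * (h * h)⁻¹) * (h * e⁻¹ * h⁻¹) := by
            simp only [commutatorElement_def]; group
        _ = _ := by
            rw [E.comm_D _ hh2D e he, mul_inv_cancel_right]; simp only [commutatorElement_def]; group
    · have hδ : ⁅a, h⁆ ∈ centralizer (B : Set S) := by rw [← commutatorElement_inv]; exact inv_mem hhaD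
      have hc := E.D_normal.conj_mem _ he' h
      set w₀ := e * (a * e * a⁻¹) with hw₀
      have hw0 := E.mul_conj_mem he
      rw [← hw₀] at hw0
      calc a * ⁅h, e⁆ * a⁻¹ = ⁅a, h⁆ * (h * (a * e * a⁻¹) * h⁻¹) * ⁅a, h⁆⁻¹ * (a * e * a⁻¹)⁻¹ := by
            simp only [commutatorElement_def]; group
        _ = ⁅h, a * e * a⁻¹⁆ := by rw [E.comm_D _ hδ _ hc, mul_inv_cancel_right, commutatorElement_def]
        _ = ⁅h, e⁻¹ * w₀⁆ := by rw [hw₀, inv_mul_cancel_left]
        _ = _ := by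
            rw [E.comm_mul_D h (inv_mem he) (E.V_le hw0.2), comm_inv_right E.D_normal E.comm_D h he,
              commutatorElement_eq_one_iff_mul_comm.mpr (E.W_commute (mul_inv_eq_iff_eq_mul.mp hhv') hw0).symm, mul_one]
  refine ⟨h * h, by rw [← pow_two]; exact hsq h hh, hh2D, fun hw => ?_⟩
  obtain ⟨e, he, he2⟩ := E.exists_sq (sq_mono inf_le_right hw)
  set x₁ := h * e⁻¹ with hx₁
  set ε := ⁅h, e⁻¹⁆ with hε
  have hεV : ε ∈ V := hphi _ (inv_mem he)
  have heC := E.D_le_C he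
  have hx1sq : x₁ * x₁ = ε := by
    calc x₁ * x₁ = (h * e⁻¹ * h⁻¹) * (h * h) * e⁻¹ := by rw [hx₁]; group
      _ = (h * e⁻¹ * h⁻¹) * e := by rw [← he2, pow_two]; group
      _ = ε := by rw [hε, commutatorElement_def, inv_inv]
  have hhε : h * ε * h⁻¹ = ε := by
    have h1 : x₁ * ε * x₁⁻¹ = ε := by rw [← hx1sq]; group
    have h2 : e⁻¹ * ε * e⁻¹⁻¹ = ε := by
      rw [← mem_centralizer_iff.mp (inv_mem heC) ε hεV, mul_inv_cancel_right]
    rwa [show x₁ * ε * x₁⁻¹ = h * (e⁻¹ * ε * e⁻¹⁻¹) * h⁻¹ by rw [hx₁]; group, h2] at h1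
  have hεW : ε ∈ A ⊓ V := by
    by_contra hεW
    have hr := (mul_mem_of_card_le (inf_le_right : A ⊓ V ≤ V) (by rw [E.w4, E.cardV]) E.hx E.x_not hεV hεW).2.1
    have h1 : h * x * h⁻¹ = x := by
      calc h * x * h⁻¹ = (h * (x * ε⁻¹) * h⁻¹) * (h * ε * h⁻¹) := by group
        _ = x := by rw [← E.W_commute (mul_inv_eq_iff_eq_mul.mp hhv') hr, mul_inv_cancel_right, hhε, inv_mul_cancel_right]
    exact E.u1 (mul_eq_right.mp (hhx'.symm.trans h1))
  set d := ⁅x₁, a⁆ with hd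
  have hdD : d ∈ centralizer (B : Set S) := by
    rw [show d = h * ⁅e⁻¹, a⁆ * h⁻¹ * ⁅h, a⁆ by rw [hd, hx₁]; simp only [commutatorElement_def]; group]
    exact mul_mem (E.D_normal.conj_mem _ (comm_mem_left E.D_normal a (inv_mem he)) h) hhaD
  have hda : a * d * a⁻¹ = d⁻¹ := conj_commutator_right (E.mul_self E.ha)
  have hdh : h * d * h⁻¹ = d⁻¹ := by
    have h1 : x₁ * d * x₁⁻¹ = d⁻¹ := by
      calc x₁ * d * x₁⁻¹ = (x₁ * x₁) * a * x₁⁻¹ * a⁻¹ * x₁⁻¹ := by rw [hd]; simp only [commutatorElement_def]; group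
        _ = a * (x₁ * x₁) * x₁⁻¹ * a⁻¹ * x₁⁻¹ := by rw [hx1sq, E.sc.comm ε hεW.1 a E.ha]
        _ = _ := by rw [hd]; simp only [commutatorElement_def]; group
    rwa [show x₁ * d * x₁⁻¹ = h * (e⁻¹ * d * e⁻¹⁻¹) * h⁻¹ by rw [hx₁]; group, E.comm_D _ (inv_mem he) d hdD,
      mul_inv_cancel_right] at h1
  have hdV := key d hdD hdh hda
  rw [inv_eq_of_mul_eq_one_right (by rw [← pow_two]; exact E.ne.sq d hdV : d * d = 1)] at hda
  have hx1x : x₁ * x * x₁⁻¹ = u * x := by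
    rw [show x₁ * x * x₁⁻¹ = h * (e⁻¹ * x * e⁻¹⁻¹) * h⁻¹ by rw [hx₁]; group,
      ← mem_centralizer_iff.mp (inv_mem heC) x E.hx, mul_inv_cancel_right, hhx']
  rcases E.adjust_split (g := x₁) (E.W_imgI (E.fixed_W hdV (mul_inv_eq_iff_eq_mul.mp hda))) with hk | hk
  · rw [← mem_centralizer_iff.mp hk x E.hx, mul_inv_cancel_right] at hx1x
    exact E.u1 (mul_eq_right.mp hx1x.symm)
  · have h1 : x₁ * x * x₁⁻¹ = v * x := by
      rw [show x₁ * x * x₁⁻¹ = a * ((a⁻¹ * x₁) * x * (a⁻¹ * x₁)⁻¹) * a⁻¹ by group,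
        ← mem_centralizer_iff.mp hk x E.hx, mul_inv_cancel_right, hax]
    exact E.vu (mul_right_cancel (h1.symm.trans hx1x))

/-- The count with a maximal normal `2^3`. -/
theorem card_le_of_normal_eight (h : SelfCentEight A) (hV : NormalElementary V) (hV8 : Nat.card V = 8)
    (hmax : ∀ W : Subgroup S, NormalElementary W → V ≤ W → W = V) (H N : Subgroup S) (hsq : ∀ z ∈ H, z ^ 2 ∈ N) :
    Nat.card H ≤ 2 ^ 4 * Nat.card N := by
  have : Fact (Nat.Prime 2) := ⟨Nat.prime_two⟩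
  haveI := hV.normal
  set C := centralizer (V : Set S)
  have hVC : V ≤ C := fun v hv => mem_centralizer_iff.mpr fun w hw => hV.comm w hw v hv
  by_cases hCV : C ≤ V
  · set π := QuotientGroup.mk' C
    have hker : π.ker = V := (QuotientGroup.ker_mk' C).trans (le_antisymm hCV hVC)
    have hN1 : 1 ≤ Nat.card (N.map π) := Nat.card_pos
    have hN1' : 1 ≤ Nat.card (N ⊓ π.ker : Subgroup S) := Nat.card_pos
    by_cases hmove : ∃ t ∈ H, t ∉ C
    · obtain ⟨t, ht, htC⟩ := hmove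
      refine (card_le_parts π (H := H) (N := N) (i := 4) (k := 4) (card_map_le h.p hV.comm hV8 hsq) ?_).trans
        (le_of_eq (by norm_num))
      rw [hker, mul_comm]
      refine (card_le_mul_of_commutator hV.normal hV.comm t (inf_le_right : H ⊓ V ≤ V) (M := N ⊓ V) fun v hv =>
        ⟨commutator_mem_of_sq hsq ht hv.1, comm_mem hV.normal t hv.2⟩).trans ?_
      refine Nat.mul_le_mul_left _ ((card_le_of_le (inf_le_inf_right _ inf_le_right)).trans ?_)
      have := PGroup.mul_card_le_of_lt (p := 2) h.p (lt_of_le_of_ne (inf_le_left : V ⊓ centralizer ({t} : Set S) ≤ V)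
        fun e => htC (mem_centralizer_iff.mpr fun v hv => mem_centralizer_singleton_iff.mp (e.ge hv).2))
      rw [hV8] at this
      omega
    · push Not at hmove
      have := card_le_of_le (fun t ht => hCV (hmove t ht) : H ≤ V)
      rw [hV8] at this
      have : 1 ≤ Nat.card N := Nat.card_pos
      omega
  have hnle : ¬ A ≤ V := fun e => hCV (by
    rw [← PGroup.eq_of_le_of_card_le e (by rw [hV8, h.card])]
    intro c hc
    exact h.cen (centralizer_le (SetLike.coe_subset_coe.mpr e) hc))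
  obtain ⟨B, hVB, hB⟩ := Finite.exists_le_maximal (α := Subgroup S)
    (p := fun K => K.Normal ∧ (∀ a ∈ K, ∀ b ∈ K, a * b = b * a) ∧ (∀ a ∈ K, a ^ 4 = 1)) (a := V)
    ⟨hV.normal, hV.comm, fun a ha => by rw [show 4 = 2 * 2 from rfl, pow_mul, hV.sq a ha, one_pow]⟩
  obtain ⟨hBn, hBc, hB4⟩ := hB.prop
  haveI := hBn
  have homega : ∀ z ∈ B, z ^ 2 = 1 → z ∈ V := by
    let U : Subgroup S :=
      { carrier := {z | z ∈ B ∧ z ^ 2 = 1}
        one_mem' := ⟨one_mem B, one_pow 2⟩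
        mul_mem' := fun {a b} ha hb =>
          ⟨mul_mem ha.1 hb.1, by rw [Commute.mul_pow (hBc a ha.1 b hb.1), ha.2, hb.2, one_mul]⟩
        inv_mem' := fun {a} ha => ⟨inv_mem ha.1, by rw [inv_pow, ha.2, inv_one]⟩ }
    have hU : NormalElementary U := ⟨⟨fun z hz g => ⟨hBn.conj_mem z hz.1 g, by rw [conj_pow, hz.2]; group⟩⟩,
      fun a ha b hb => hBc a ha.1 b hb.1, fun a ha => ha.2⟩
    intro z hz hz2
    rw [← hmax U hU fun v hv => ⟨hVB hv, hV.sq v hv⟩]
    exact ⟨hz, hz2⟩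
  have hbne : ¬ B ≤ V := fun e => by
    obtain ⟨K, hKn, hVK, hKC, hK, -⟩ := PGroup.exists_normal_between (p := 2) h.p
      (lt_of_le_of_ne hVC fun e => hCV e.ge)
    haveI := hKn
    have hlt : V < K := lt_of_le_of_ne hVK fun e' => by rw [← e', hV8] at hK; omega
    have hsqK : ∀ k ∈ K, k ^ 2 ∈ V := fun k hk => by
      by_cases hkV : k ∈ V
      · exact pow_mem hkV 2
      · rw [pow_two]; exact (mul_mem_of_card_le hVK hK.le hk hkV hk hkV).1
    have hp : K.Normal ∧ (∀ a ∈ K, ∀ b ∈ K, a * b = b * a) ∧ ∀ a ∈ K, a ^ 4 = 1 := by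
      refine ⟨hKn, fun k hk l hl => ?_, fun k hk => by rw [show 4 = 2 * 2 from rfl, pow_mul]; exact hV.sq _ (hsqK k hk)⟩
      by_cases hkV : k ∈ V
      · exact mem_centralizer_iff.mp (hKC hl) k hkV
      by_cases hlV : l ∈ V
      · exact (mem_centralizer_iff.mp (hKC hk) l hlV).symm
      have hr := (mul_mem_of_card_le hVK hK.le hk hkV hl hlV).2.2
      have e : l = k * (k⁻¹ * l) := by group
      rw [e]
      exact Commute.mul_right (Commute.refl k) (mem_centralizer_iff.mp (hKC hk) _ hr).symm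
    exact not_le_of_gt hlt ((hB.2 hp (e.trans hVK)).trans e)
  have E : Eight A V B := ⟨h, hV, hV8, hnle, hBn, hBc, hB4, hVB, homega, fun z hz h4 =>
    PGroup.mem_of_maximal_normal_exponent (p := 2) h.p 2 (by norm_num) hBc (fun a ha => by simpa using hB4 a ha)
      (fun K h1 h2 h3 hle => le_antisymm (hB.2 ⟨h1, h2, fun a ha => by simpa using h3 a ha⟩ hle) hle) hz
      (by simpa using h4), hbne⟩
  obtain ⟨u, u1, uc, usq⟩ := E.exists_u
  have EU : EightU A V B u := ⟨E, u1, uc, usq⟩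
  by_cases hu : ∃ a ∈ A, a ∉ V ∧ ∃ z ∈ V, ⁅a, z⁆ = u
  · obtain ⟨a, ha, haV, z, hz, e⟩ := hu
    exact EU.card_le_of_comm_eq_u ha haV hz e hsq
  obtain ⟨a, x, v, y, EV⟩ := EU.exists_data fun a ha haV z hz e => hu ⟨a, ha, haV, z, hz, e⟩
  by_cases hDC : centralizer (V : Set S) ≤ centralizer (B : Set S)
  · exact EV.card_le_of_eq hDC hsq
  · obtain ⟨c, hc, hcD⟩ := SetLike.not_le_iff_exists.mp hDC
    exact EV.card_le_of_ne hc hcD hsq

end Cfsg.Agent.Sectional
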