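import Cfsg.Agent.Lib.Sectional.MacWilliams
import Cfsg.Agent.Lib.Sectional.NormalEight
/-!
# Harada's theorem on a self-centralizing `2^3` (helper5)

`sectionalPRankLE_of_self_centralizing_eight`: a finite `2`-group with a self-centralizing elementary abelian
subgroup of order eight has sectional `2`-rank at most four.
-/

set_option autoImplicit false
set_option linter.style.haveILetI false

open Subgroup

namespace Cfsg.Agent.Sectional

theorem sectionalPRankLE_of_self_centralizing_eight {S : Type*} [Group S] [Finite S] {A : Subgroup S}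
    (h : SelfCentEight A) : Cfsg.SectionalPRankLE 2 4 S := by
  have : Fact (Nat.Prime 2) := ⟨Nat.prime_two⟩
  by_cases hex : ∃ E : Subgroup S, NormalElementary E ∧ 4 < Nat.card E
  swap
  · exact sectionalPRankLE_of_no_normal_eight h.p fun E h1 h2 h3 =>
      not_lt.mp fun hlt => hex ⟨E, ⟨h1, h2, h3⟩, hlt⟩
  obtain ⟨E, hE, hE4⟩ := hex
  obtain ⟨V, hEV, hV⟩ := Finite.exists_le_maximal (α := Subgroup S) (p := NormalElementary) (a := E) hE
  have hV' : NormalElementary V := hV.prop
  have h16 : Nat.card V ≤ 16 := by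
    by_cases hAV : A ≤ V
    · have := card_le_of_le (fun v hv => h.mem_of_commute fun a ha => hV'.comm a (hAV ha) v hv : V ≤ A)
      rw [h.card] at this
      omega
    obtain ⟨a, ha, haV⟩ := SetLike.not_le_iff_exists.mp hAV
    have h4 := h.fixed_le hV' hAV ha haV
    have hsq := card_le_sq_fixed hV'.normal hV'.comm hV'.sq (h.sq a ha) le_rfl fun v hv => comm_mem hV'.normal a hv
    exact hsq.trans ((Nat.mul_le_mul h4 h4).trans (le_of_eq (by norm_num)))
  have h5 : 4 < Nat.card V := hE4.trans_le (card_le_of_le hEV)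
  obtain ⟨k, hk⟩ := IsPGroup.iff_card.mp (h.p.to_subgroup V)
  have hk3 : k = 3 ∨ k = 4 := by
    rw [hk] at h16 h5
    have h1 : k ≤ 4 := (Nat.pow_le_pow_iff_right (by norm_num : 1 < 2)).mp (h16 : 2 ^ k ≤ 2 ^ 4)
    interval_cases k <;> simp_all
  refine sectionalPRankLE_of fun H N _ hsq => ?_
  rcases hk3 with rfl | rfl
  · exact card_le_of_normal_eight h hV' (by rw [hk]; norm_num) (fun W hW hle => le_antisymm (hV.2 hW hle) hle) H N hsq
  · exact h.card_le_of_normal_sixteen hV' (by rw [hk]; norm_num) H N hsq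

end Cfsg.Agent.Sectional
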