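import Cfsg.Agent.Lib.Sectional.Basic
import Cfsg.Agent.Lib.PGroup.NormalAbelian
import Cfsg.Prelude.Def_Transfer
/-!
# The four generator theorem of MacWilliams (helper5)

`sectionalPRankLE_of_no_normal_eight`: a finite 2-group whose normal elementary abelian subgroups have
order at most 4 has sectional rank at most 4.

Proof: let `B` be maximal normal abelian of exponent 4, `C = C(B)`.  Subgroups of `C` have elementary
quotients of order at most 4.  For `B = 4 × 4` the group `C(Ω₁B)/C` is a subspace `L` of the `2 × 2`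
matrices over the field of two elements; the absence of a normal `2³` shows that if `L` has dimension
at least 3 it contains a fixed nilpotent matrix whose lifts square outside the squares of `C`.
-/

set_option autoImplicit false
set_option linter.style.haveILetI false
set_option linter.unusedSectionVars false

open Subgroup
open scoped commutatorElement

namespace Cfsg.Agent.Sectional

variable {S : Type*} [Group S] [Finite S]

/-- The hypothesis data: `B` normal abelian of exponent four with `U = Ω₁(B)` of order four, all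
squares filling `U`, and `B` containing every element of order at most four of its centralizer. -/
structure Homo (B U : Subgroup S) : Prop where
  p : IsPGroup 2 S
  bn : B.Normal
  bc : ∀ a ∈ B, ∀ b ∈ B, a * b = b * a
  b4 : ∀ a ∈ B, a ^ 4 = 1
  memU : ∀ x, x ∈ U ↔ x ∈ B ∧ x ^ 2 = 1
  cardU : Nat.card U = 4
  big : ∀ x ∈ centralizer (B : Set S), x ^ 4 = 1 → x ∈ B
  noE8 : ∀ A : Subgroup S, A.Normal → (∀ a ∈ A, ∀ b ∈ A, a * b = b * a) → (∀ a ∈ A, a ^ 2 = 1) →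
    Nat.card A ≤ 4

/-- A basis of `B` modulo `U`. -/
structure Base (B U : Subgroup S) (b₁ b₂ : S) : Prop where
  h1 : b₁ ∈ B
  h2 : b₂ ∈ B
  n1 : b₁ ^ 2 ≠ 1
  n2 : b₂ ^ 2 ≠ 1
  n12 : b₁ ^ 2 ≠ b₂ ^ 2

variable {B U : Subgroup S} {b₁ b₂ : S}

theorem Homo.u_le (h : Homo B U) : U ≤ B := fun _ hx => ((h.memU _).mp hx).1

theorem Homo.u_sq (h : Homo B U) {x : S} (hx : x ∈ U) : x ^ 2 = 1 := ((h.memU x).mp hx).2

theorem Homo.u_normal (h : Homo B U) : U.Normal :=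
  ⟨fun x hx g => (h.memU _).mpr ⟨h.bn.conj_mem x ((h.memU x).mp hx).1 g, by
    rw [conj_pow, h.u_sq hx]; group⟩⟩

theorem Homo.sq_mem_u (h : Homo B U) {x : S} (hx : x ∈ B) : x ^ 2 ∈ U :=
  (h.memU _).mpr ⟨pow_mem hx 2, by rw [← pow_mul]; exact h.b4 x hx⟩

theorem Homo.centralizer_normal (h : Homo B U) : (centralizer (B : Set S)).Normal :=
  haveI := h.bn
  inferInstance

theorem Homo.mem_centralizer (h : Homo B U) {x : S} (hx : x ∈ B) : x ∈ centralizer (B : Set S) :=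
  mem_centralizer_iff.mpr fun b hb => h.bc b hb x hx

theorem Homo.omega2 (h : Homo B U) : Omega2Central (centralizer (B : Set S)) :=
  fun x hx h4 _ hy => ((mem_centralizer_iff.mp hy) x (h.big x hx h4)).symm

theorem Homo.inv_u (h : Homo B U) {x : S} (hx : x ∈ U) : x * x = 1 := by rw [← pow_two]; exact h.u_sq hx

theorem Homo.swap (hb : Base B U b₁ b₂) : Base B U b₂ b₁ := ⟨hb.h2, hb.h1, hb.n2, hb.n1, hb.n12.symm⟩

theorem Homo.ne12 (h : Homo B U) (hb : Base B U b₁ b₂) : b₁ ^ 2 * b₂ ^ 2 ≠ 1 := fun e => hb.n12 (by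
  calc b₁ ^ 2 = b₁ ^ 2 * (b₂ ^ 2 * b₂ ^ 2) := by rw [h.inv_u (h.sq_mem_u hb.h2), mul_one]
    _ = b₂ ^ 2 := by rw [← mul_assoc, e, one_mul])

theorem Homo.cases_u (h : Homo B U) (hb : Base B U b₁ b₂) {x : S} (hx : x ∈ U) :
    x = 1 ∨ x = b₁ ^ 2 ∨ x = b₂ ^ 2 ∨ x = b₁ ^ 2 * b₂ ^ 2 := by
  classical
  have hu1 := h.sq_mem_u hb.h1
  have hu2 := h.sq_mem_u hb.h2
  by_contra hcon
  push Not at hcon
  obtain ⟨x0, x1, x2, x3⟩ := hcon
  have hsub : (({x, 1, b₁ ^ 2, b₂ ^ 2, b₁ ^ 2 * b₂ ^ 2} : Finset S) : Set S) ⊆ U := by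
    simp [Set.insert_subset_iff, hx, hu1, hu2, mul_mem hu1 hu2]
  have := Set.ncard_le_ncard hsub (Set.toFinite _)
  rw [Set.ncard_coe_finset, ← Nat.card_coe_set_eq] at this
  have hc : Nat.card U = 4 := h.cardU
  have hn1 : b₁ ^ 2 ≠ b₁ ^ 2 * b₂ ^ 2 := fun e => hb.n2 (by simpa using e.symm)
  have hn2 : b₂ ^ 2 ≠ b₁ ^ 2 * b₂ ^ 2 := fun e => hb.n1 (by simpa using e.symm)
  rw [Finset.card_insert_of_notMem (by simp [x0, x1, x2, x3]),
    Finset.card_insert_of_notMem (by simp [hb.n1.symm, hb.n2.symm, (h.ne12 hb).symm]),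
    Finset.card_insert_of_notMem (by simp [hb.n12, hn1]),
    Finset.card_insert_of_notMem (by simp [hn2]), Finset.card_singleton] at this
  simp only [SetLike.coe_sort_coe] at this
  omega

theorem Homo.u_comm (h : Homo B U) {x y : S} (hx : x ∈ U) (hy : y ∈ U) : x * y = y * x :=
  h.bc x (h.u_le hx) y (h.u_le hy)

theorem Homo.comm_mem_u (h : Homo B U) {t b : S} (ht : t ∈ centralizer (U : Set S)) (hb : b ∈ B) :
    ⁅t, b⁆ ∈ U := by
  have hc : t * b * t⁻¹ ∈ B := h.bn.conj_mem b hb t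
  refine (h.memU _).mpr ⟨mul_mem hc (inv_mem hb), ?_⟩
  have e : t * b ^ 2 * t⁻¹ = b ^ 2 := by
    rw [← mem_centralizer_iff.mp ht _ (h.sq_mem_u hb), mul_inv_cancel_right]
  rw [commutatorElement_def, Commute.mul_pow (h.bc _ hc _ (inv_mem hb)), conj_pow, e, inv_pow, mul_inv_cancel]

theorem Homo.comm_mul (h : Homo B U) {t : S} (ht : t ∈ centralizer (U : Set S)) {a b : S} (ha : a ∈ B)
    (hb : b ∈ B) : ⁅t, a * b⁆ = ⁅t, a⁆ * ⁅t, b⁆ := by
  have hk := h.u_le (h.comm_mem_u ht hb)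
  calc ⁅t, a * b⁆ = ⁅t, a⁆ * (a * ⁅t, b⁆ * a⁻¹) := by simp only [commutatorElement_def]; group
    _ = _ := by rw [h.bc a ha _ hk, mul_inv_cancel_right]

theorem Homo.comm_u (h : Homo B U) {t b : S} (ht : t ∈ centralizer (U : Set S)) (hb : b ∈ U) : ⁅t, b⁆ = 1 :=
  commutatorElement_eq_one_iff_mul_comm.mpr (mem_centralizer_iff.mp ht b hb).symm

theorem Homo.comm_eq_of_sq (h : Homo B U) {t : S} (ht : t ∈ centralizer (U : Set S)) {a b : S} (ha : a ∈ B)
    (hb : b ∈ B) (he : a ^ 2 = b ^ 2) : ⁅t, a⁆ = ⁅t, b⁆ := by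
  have hu : b⁻¹ * a ∈ U := (h.memU _).mpr ⟨mul_mem (inv_mem hb) ha, by
    rw [Commute.mul_pow (h.bc _ (inv_mem hb) _ ha), inv_pow, he, inv_mul_cancel]⟩
  conv_lhs => rw [← mul_inv_cancel_left b a]
  rw [h.comm_mul ht hb (h.u_le hu), h.comm_u ht hu, mul_one]

/-- The commutator with `t` as a function of the square. -/
theorem Homo.comm_cases (h : Homo B U) (hb : Base B U b₁ b₂) {t : S} (ht : t ∈ centralizer (U : Set S))
    {b : S} (hbB : b ∈ B) :
    (b ^ 2 = 1 ∧ ⁅t, b⁆ = 1) ∨ (b ^ 2 = b₁ ^ 2 ∧ ⁅t, b⁆ = ⁅t, b₁⁆) ∨ (b ^ 2 = b₂ ^ 2 ∧ ⁅t, b⁆ = ⁅t, b₂⁆) ∨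
      (b ^ 2 = b₁ ^ 2 * b₂ ^ 2 ∧ ⁅t, b⁆ = ⁅t, b₁⁆ * ⁅t, b₂⁆) := by
  rcases h.cases_u hb (h.sq_mem_u hbB) with e | e | e | e
  · exact Or.inl ⟨e, h.comm_u ht ((h.memU b).mpr ⟨hbB, e⟩)⟩
  · exact Or.inr (Or.inl ⟨e, h.comm_eq_of_sq ht hbB hb.h1 e⟩)
  · exact Or.inr (Or.inr (Or.inl ⟨e, h.comm_eq_of_sq ht hbB hb.h2 e⟩))
  · refine Or.inr (Or.inr (Or.inr ⟨e, ?_⟩))
    rw [← h.comm_mul ht hb.h1 hb.h2]
    exact h.comm_eq_of_sq ht hbB (mul_mem hb.h1 hb.h2) (by rw [e, Commute.mul_pow (h.bc _ hb.h1 _ hb.h2)])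

theorem Homo.comm_trans (h : Homo B U) {s t b : S} (ht : t ∈ centralizer (U : Set S))
    (hs : s ∈ centralizer (U : Set S)) (hb : b ∈ B) : ⁅s * t, b⁆ = ⁅s, b⁆ * ⁅t, b⁆ := by
  have hk := h.comm_mem_u ht hb
  calc ⁅s * t, b⁆ = (s * ⁅t, b⁆ * s⁻¹) * ⁅s, b⁆ := by simp only [commutatorElement_def]; group
    _ = _ := by rw [← mem_centralizer_iff.mp hs _ hk, mul_inv_cancel_right, h.u_comm hk (h.comm_mem_u hs hb)]

theorem Homo.centralizes_of_base (h : Homo B U) (hb : Base B U b₁ b₂) {t : S} (ht : t ∈ centralizer (U : Set S))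
    (h1 : ⁅t, b₁⁆ = 1) (h2 : ⁅t, b₂⁆ = 1) : t ∈ centralizer (B : Set S) := by
  refine mem_centralizer_iff.mpr fun b hbB => ?_
  have hk : ⁅t, b⁆ = 1 := by
    rcases h.comm_cases hb ht hbB with ⟨_, e⟩ | ⟨_, e⟩ | ⟨_, e⟩ | ⟨_, e⟩ <;> simp [e, h1, h2]
  exact (commutatorElement_eq_one_iff_mul_comm.mp hk).symm

/-- Abelianness of the action: commutators of `C(U)` centralize `B`. -/
theorem Homo.commutator_mem (h : Homo B U) {s t : S} (hs : s ∈ centralizer (U : Set S))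
    (ht : t ∈ centralizer (U : Set S)) : ⁅s, t⁆ ∈ centralizer (B : Set S) := by
  refine mem_centralizer_iff.mpr fun b hb => ?_
  set c := (t * s)⁻¹ * b * (t * s) with hc
  have hcB : c ∈ B := by simpa [hc] using h.bn.conj_mem b hb (t * s)⁻¹
  have e : ⁅t * s, c⁆ = ⁅s * t, c⁆ := by
    rw [h.comm_trans hs ht hcB, h.comm_trans ht hs hcB, h.u_comm (h.comm_mem_u ht hcB) (h.comm_mem_u hs hcB)]
  have e' : t * s * c * (t * s)⁻¹ = s * t * c * (s * t)⁻¹ := by
    have := congrArg (fun z => z * c) e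
    simpa only [commutatorElement_def, inv_mul_cancel_right] using this
  symm
  calc ⁅s, t⁆ * b = (s * t * c * (s * t)⁻¹) * ⁅s, t⁆ := by simp only [hc, commutatorElement_def]; group
    _ = (t * s * c * (t * s)⁻¹) * ⁅s, t⁆ := by rw [e']
    _ = b * ⁅s, t⁆ := by simp only [hc, commutatorElement_def]; group

/-- If `t` acts without fixed points on `B / U`, elements of `C(B)` commuting with `t` have order at most four. -/
theorem Homo.pow_four_of_fixed (h : Homo B U) {t : S} (hinj : ∀ b ∈ B, ⁅t, b⁆ = 1 → b ^ 2 = 1) :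
    ∀ {c : S}, c ∈ centralizer (B : Set S) → t * c = c * t → c ^ 4 = 1 := by
  intro c
  obtain ⟨j, hj⟩ := h.p c
  induction j generalizing c with
  | zero =>
    intro _ _
    rw [pow_zero, pow_one] at hj
    rw [hj, one_pow]
  | succ j ih =>
    intro hc htc
    have h4 := ih (c := c ^ 2) (by rw [← pow_mul, ← pow_succ']; exact hj) (pow_mem hc 2)
      (Commute.pow_right htc 2)
    have hB : c ^ 2 ∈ B := h.big _ (pow_mem hc 2) h4
    have := hinj _ hB (commutatorElement_eq_one_iff_mul_comm.mpr (Commute.pow_right htc 2))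
    rwa [← pow_mul] at this

/-- A `t` with `t ^ 2 ∈ B` on an element of order at most eight. -/
theorem Homo.step (h : Homo B U) {t x : S} (ht : t ∈ centralizer (U : Set S)) (ht2 : t ^ 2 ∈ B)
    (hx : x ∈ centralizer (B : Set S)) (h8 : x ^ 8 = 1) :
    ⁅t, x⁆ ∈ B ∧ ⁅t, x ^ 2⁆ = ⁅t, x⁆ ^ 2 ∧ ⁅t, ⁅t, x⁆⁆ * ⁅t, x⁆ ^ 2 = 1 := by
  have hxB : x ^ 2 ∈ B := h.big _ (pow_mem hx 2) (by rw [← pow_mul]; exact h8)
  set y := ⁅t, x⁆ with hy
  have hyC : y ∈ centralizer (B : Set S) := by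
    rw [hy, commutatorElement_def]
    exact mul_mem (h.centralizer_normal.conj_mem x hx t) (inv_mem hx)
  have hk : ⁅y, x⁆ ∈ U := by
    have h2 := commutator_sq_eq_one h.p h.omega2 hx h8 hyC
    have hC : ⁅y, x⁆ ∈ centralizer (B : Set S) := by
      rw [commutatorElement_def]
      exact mul_mem (mul_mem (mul_mem hyC hx) (inv_mem hyC)) (inv_mem hx)
    refine (h.memU _).mpr ⟨h.big _ hC ?_, h2⟩
    rw [show 4 = 2 * 2 from rfl, pow_mul, h2, one_pow]
  have hy2 : y ^ 2 ∈ U := by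
    have hK := h.comm_mem_u ht hxB
    have e : ⁅t, x ^ 2⁆ = y * ⁅y, x⁆⁻¹ * y := by
      rw [hy]; simp only [commutatorElement_def, pow_two]; group
    have hc : ⁅y, x⁆⁻¹ * y = y * ⁅y, x⁆⁻¹ :=
      ((mem_centralizer_iff.mp hyC) _ (h.u_le (inv_mem hk)))
    rw [mul_assoc, hc, ← mul_assoc, ← pow_two] at e
    have : y ^ 2 = ⁅t, x ^ 2⁆ * ⁅y, x⁆ := by rw [e, inv_mul_cancel_right]
    rw [this]; exact mul_mem hK hk
  have hyB : y ∈ B := h.big _ hyC (by rw [show 4 = 2 * 2 from rfl, pow_mul, h.u_sq hy2])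
  have hk1 : ⁅y, x⁆ = 1 :=
    commutatorElement_eq_one_iff_mul_comm.mpr ((mem_centralizer_iff.mp hx) y hyB)
  refine ⟨hyB, ?_, ?_⟩
  · rw [hy]; rw [hy] at hk1
    calc ⁅t, x ^ 2⁆ = ⁅t, x⁆ * ⁅⁅t, x⁆, x⁆⁻¹ * ⁅t, x⁆ := by simp only [commutatorElement_def, pow_two]; group
      _ = _ := by rw [hk1, inv_one, mul_one, pow_two]
  · have e : ⁅t ^ 2, x⁆ = ⁅t, y⁆ * y * y := by rw [hy]; simp only [commutatorElement_def, pow_two]; group
    rw [commutatorElement_eq_one_iff_mul_comm.mpr ((mem_centralizer_iff.mp hx) _ ht2)] at e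
    rw [pow_two, ← mul_assoc, ← e]

theorem Homo.table (h : Homo B U) (hb : Base B U b₁ b₂) :
    b₁ ^ 2 * b₁ ^ 2 = 1 ∧ b₂ ^ 2 * b₂ ^ 2 = 1 ∧ b₂ ^ 2 * b₁ ^ 2 = b₁ ^ 2 * b₂ ^ 2 ∧
      b₁ ^ 2 * (b₁ ^ 2 * b₂ ^ 2) = b₂ ^ 2 ∧ b₂ ^ 2 * (b₁ ^ 2 * b₂ ^ 2) = b₁ ^ 2 ∧
      (b₁ ^ 2 * b₂ ^ 2) * b₁ ^ 2 = b₂ ^ 2 ∧ (b₁ ^ 2 * b₂ ^ 2) * b₂ ^ 2 = b₁ ^ 2 ∧
      (b₁ ^ 2 * b₂ ^ 2) * (b₁ ^ 2 * b₂ ^ 2) = 1 := by
  have u1 := h.sq_mem_u hb.h1
  have u2 := h.sq_mem_u hb.h2
  have e1 := h.inv_u u1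
  have e2 := h.inv_u u2
  have ec := h.u_comm u2 u1
  refine ⟨e1, e2, ec, ?_, ?_, ?_, ?_, h.inv_u (mul_mem u1 u2)⟩
  · rw [← mul_assoc, e1, one_mul]
  · rw [← mul_assoc, ec, mul_assoc, e2, mul_one]
  · rw [mul_assoc, ec, ← mul_assoc, e1, one_mul]
  · rw [mul_assoc, e2, mul_one]

/-- There is no involution outside `U` centralizing `U` whose commutators lie in `U`. -/
theorem Homo.no_normal_involution (h : Homo B U) {x : S} (hx2 : x ^ 2 = 1) (hxT : x ∈ centralizer (U : Set S))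
    (hxU : x ∉ U) (hx : ∀ g : S, ⁅g, x⁆ ∈ U) : False := by
  haveI := h.u_normal
  have hc : ∀ a ∈ U, ∀ b ∈ U, a * b = b * a := fun a ha b hb => h.u_comm ha hb
  have hV := PGroup.sup_zpowers_comm hc hxT
  set V := U ⊔ zpowers x
  have hVn : V.Normal := ⟨fun v hv g => by
    have hle : V ≤ V.comap (MulAut.conj g).toMonoidHom := sup_le
      (fun a ha => mem_sup_left (h.u_normal.conj_mem a ha g))
      (zpowers_le.mpr (by
        show g * x * g⁻¹ ∈ V
        rw [show g * x * g⁻¹ = ⁅g, x⁆ * x by simp [commutatorElement_def]]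
        exact mul_mem (mem_sup_left (hx g)) (mem_sup_right (mem_zpowers x))))
    exact hle hv⟩
  have hV2 : ∀ v ∈ V, v ^ 2 = 1 := by
    intro v hv
    obtain ⟨a, ha, u, hu, rfl⟩ := mem_sup_of_normal_left.mp hv
    obtain ⟨j, rfl⟩ := mem_zpowers_iff.mp hu
    rw [Commute.mul_pow (hV _ (mem_sup_left ha) _ (mem_sup_right hu)), h.u_sq ha, one_mul,
      ← zpow_natCast, zpow_comm, zpow_natCast, hx2, one_zpow]
  have h1 := h.noE8 V hVn hV hV2
  have h2 : 2 * Nat.card U ≤ Nat.card V := PGroup.mul_card_le_of_lt (p := 2) h.p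
    (lt_of_le_of_ne le_sup_left fun e => hxU (e ▸ mem_sup_right (mem_zpowers x)))
  rw [h.cardU] at h2
  omega

/-- Conjugates of an involution `x` are `x` times elements of `U`, when `x` inverts the commutator. -/
theorem Homo.commutator_mem_u (h : Homo B U) {x g : S} (hx2 : x ^ 2 = 1)
    (hfix : ∀ b ∈ B, ⁅x, b⁆ * b ^ 2 = 1 → b ^ 2 = 1)
    (hxC : ∀ c ∈ centralizer (B : Set S), ⁅x, c⁆ * c ^ 2 = 1 → c ∈ B)
    (hg : ⁅g, x⁆ ∈ centralizer (B : Set S)) : ⁅g, x⁆ ∈ U := by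
  set c := ⁅g, x⁆ with hc
  have hxi : x⁻¹ = x := inv_eq_of_mul_eq_one_right (by rw [← pow_two, hx2])
  have e : ⁅x, c⁆ * c ^ 2 = 1 := by
    have : x * c * x⁻¹ = c⁻¹ := by
      rw [hc]; simp only [commutatorElement_def, mul_inv_rev, inv_inv, hxi]
      calc x * (g * x * g⁻¹ * x) * x = x * g * x * g⁻¹ * (x * x) := by group
        _ = x * (g * (x * g⁻¹)) := by rw [← pow_two, hx2, mul_one]; group
    rw [commutatorElement_def, this, pow_two, mul_assoc]; group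
  have hcB := hxC c hg e
  exact (h.memU c).mpr ⟨hcB, hfix c hcB e⟩

/-- A lift of a fixed nilpotent element does not square into `sq C`. -/
theorem Homo.nilpotent_lift (h : Homo B U) (hb : Base B U b₁ b₂) {s t : S}
    (hs : s ∈ centralizer (U : Set S)) (ht : t ∈ centralizer (U : Set S))
    (hs1 : ⁅s, b₁⁆ = 1) (hs2 : ⁅s, b₂⁆ = b₁ ^ 2)
    (ht1 : ⁅t, b₁⁆ = b₁ ^ 2) (ht2 : ⁅t, b₂⁆ = b₁ ^ 2 * b₂ ^ 2)
    (hinv : ∀ g : S, ⁅g, s⁆ ∈ centralizer (B : Set S)) :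
    s ^ 2 ∉ sq (centralizer (B : Set S)) := by
  obtain ⟨t11, t22, t21, t1p, t2p, tp1, tp2, tpp⟩ := h.table hb
  set C := centralizer (B : Set S) with hCdef
  have sC : ∀ {r : S}, r ∈ centralizer (U : Set S) → r ^ 2 ∈ C := by
    intro r hr
    refine h.centralizes_of_base hb (pow_mem hr 2) ?_ ?_
    · rw [pow_two, h.comm_trans hr hr hb.h1]; exact h.inv_u (h.comm_mem_u hr hb.h1)
    · rw [pow_two, h.comm_trans hr hr hb.h2]; exact h.inv_u (h.comm_mem_u hr hb.h2)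
  have htinj : ∀ b ∈ B, ⁅t, b⁆ = 1 → b ^ 2 = 1 := by
    intro b hbB e1
    rcases h.comm_cases hb ht hbB with ⟨e, _⟩ | ⟨e, k⟩ | ⟨e, k⟩ | ⟨e, k⟩
    · exact e
    · exact absurd (k.symm.trans e1) (by rw [ht1]; exact hb.n1)
    · exact absurd (k.symm.trans e1) (by rw [ht2]; exact h.ne12 hb)
    · exact absurd (k.symm.trans e1) (by rw [ht1, ht2, t1p]; exact hb.n2)
  have ht2B : t ^ 2 ∈ B := h.big _ (sC ht)
    (h.pow_four_of_fixed htinj (sC ht) (Commute.self_pow t 2))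
  have hab : ∀ x ∈ C, ∀ y ∈ C, x * y = y * x := by
    refine h.omega2.commute_of_top h.p (e := b₁ ^ 2) fun x hx h8 => ?_
    obtain ⟨hyB, k1, k2⟩ := h.step ht ht2B hx h8
    set y := ⁅t, x⁆
    have hxB : x ^ 2 ∈ B := h.big _ (pow_mem hx 2) (by rw [← pow_mul]; exact h8)
    have e4 : x ^ 4 = (x ^ 2) ^ 2 := by rw [← pow_mul]
    rw [e4]
    rcases h.comm_cases hb ht hxB with ⟨e, _⟩ | ⟨e, _⟩ | ⟨e, k⟩ | ⟨e, k⟩
    · exact Or.inl e
    · exact Or.inr e
    · exfalso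
      rw [k1, ht2] at k
      rcases h.comm_cases hb ht hyB with ⟨f, _⟩ | ⟨f, _⟩ | ⟨f, _⟩ | ⟨f, k'⟩ <;> rw [k] at f
      · exact h.ne12 hb f
      · exact hb.n2 (by simpa using f)
      · exact hb.n1 (by simpa using f)
      · rw [k, k', ht1, ht2, t1p, t2p] at k2; exact hb.n1 k2
    · exfalso
      rw [k1, ht1, ht2, t1p] at k
      rcases h.comm_cases hb ht hyB with ⟨f, _⟩ | ⟨f, _⟩ | ⟨f, k'⟩ | ⟨f, _⟩ <;> rw [k] at f
      · exact hb.n2 f
      · exact hb.n12 f.symm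
      · rw [k, k', ht2, tp2] at k2; exact hb.n1 k2
      · exact hb.n1 (by simpa using f.symm)
  have hfix : ∀ b ∈ B, ⁅s, b⁆ * b ^ 2 = 1 → b ^ 2 = 1 := by
    intro b hbB e0
    rcases h.comm_cases hb hs hbB with ⟨e, _⟩ | ⟨e, k⟩ | ⟨e, k⟩ | ⟨e, k⟩
    · exact e
    · rw [e, k, hs1, one_mul] at e0; rw [e, e0]
    · rw [e, k, hs2] at e0; exact absurd e0 (h.ne12 hb)
    · rw [e, k, hs1, hs2, one_mul, t1p] at e0; exact absurd e0 hb.n2
  have htriv : ∀ x ∈ C, ⁅s, x⁆ ∈ U := by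
    intro x
    obtain ⟨j, hj⟩ := h.p x
    induction j generalizing x with
    | zero =>
      intro _
      rw [pow_zero, pow_one] at hj
      rw [hj, commutatorElement_one_right]; exact one_mem U
    | succ j ih =>
      intro hx
      have hyC : ⁅s, x⁆ ∈ C := by
        rw [commutatorElement_def]; exact mul_mem (h.centralizer_normal.conj_mem x hx s) (inv_mem hx)
      have e2 : ⁅s, x ^ 2⁆ = ⁅s, x⁆ ^ 2 := by
        calc ⁅s, x ^ 2⁆ = ⁅s, x⁆ * (x * ⁅s, x⁆ * x⁻¹) := by simp only [commutatorElement_def, pow_two]; group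
          _ = _ := by rw [hab x hx _ hyC, mul_inv_cancel_right, pow_two]
      have hu := ih (x ^ 2) (by rw [← pow_mul, ← pow_succ']; exact hj) (pow_mem hx 2)
      rw [e2] at hu
      have hyB : ⁅s, x⁆ ∈ B := h.big _ hyC (by rw [show 4 = 2 * 2 from rfl, pow_mul, h.u_sq hu])
      refine (h.memU _).mpr ⟨hyB, hfix _ hyB ?_⟩
      have e : ⁅s ^ 2, x⁆ = ⁅s, ⁅s, x⁆⁆ * ⁅s, x⁆ ^ 2 := by simp only [commutatorElement_def, pow_two]; group
      rw [← e]
      exact commutatorElement_eq_one_iff_mul_comm.mpr (hab _ (sC hs) _ hx)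
  intro hsq
  obtain ⟨u, hu, hus⟩ : ∃ u ∈ C, u ^ 2 = s ^ 2 := by
    let K : Subgroup S :=
      { carrier := {z | ∃ u ∈ C, u ^ 2 = z}
        one_mem' := ⟨1, one_mem C, one_pow 2⟩
        mul_mem' := by
          rintro a b ⟨u, hu, rfl⟩ ⟨v, hv, rfl⟩
          exact ⟨u * v, mul_mem hu hv, Commute.mul_pow (hab u hu v hv) 2⟩
        inv_mem' := by
          rintro a ⟨u, hu, rfl⟩
          exact ⟨u⁻¹, inv_mem hu, inv_pow u 2⟩ }
    exact (sq_le_iff (K := K)).mpr (fun z hz => ⟨z, hz, rfl⟩) hsq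
  have hδ : (s * u⁻¹) ^ 2 ∈ U := by
    have : (s * u⁻¹) ^ 2 = ⁅s, u⁻¹⁆ * (u⁻¹ * (s ^ 2) * u⁻¹) := by
      simp only [commutatorElement_def, pow_two]; group
    rw [this, ← hus, show u⁻¹ * u ^ 2 * u⁻¹ = 1 by rw [pow_two]; group, mul_one]
    exact htriv _ (inv_mem hu)
  set x₁ := s * u⁻¹ with hx1
  have huT : u ∈ centralizer (U : Set S) := centralizer_le (SetLike.coe_subset_coe.mpr h.u_le) hu
  have hx1T : x₁ ∈ centralizer (U : Set S) := mul_mem hs (inv_mem huT)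
  have hK : ∀ b ∈ B, ⁅x₁, b⁆ = ⁅s, b⁆ := fun b hbB => by
    rw [h.comm_trans (inv_mem huT) hs hbB,
      commutatorElement_eq_one_iff_mul_comm.mpr ((mem_centralizer_iff.mp (inv_mem hu)) b hbB).symm, mul_one]
  obtain ⟨b, hbB, hbeq⟩ : ∃ b ∈ B, ⁅s, b⁆ * b ^ 2 = x₁ ^ 2 := by
    rcases h.cases_u hb hδ with e | e | e | e <;> rw [e]
    · exact ⟨1, one_mem B, by simp⟩
    · exact ⟨b₁, hb.h1, by rw [hs1, one_mul]⟩
    · refine ⟨b₁ * b₂, mul_mem hb.h1 hb.h2, ?_⟩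
      rw [h.comm_mul hs hb.h1 hb.h2, hs1, hs2, one_mul, Commute.mul_pow (h.bc _ hb.h1 _ hb.h2), t1p]
    · exact ⟨b₂, hb.h2, by rw [hs2]⟩
  set x := x₁ * b with hxdef
  have hbT : b ∈ centralizer (U : Set S) :=
    mem_centralizer_iff.mpr fun v hv => h.bc v (h.u_le hv) b hbB
  have hx2 : x ^ 2 = 1 := by
    have e : x ^ 2 = ⁅x₁, b⁆ * (b * x₁ ^ 2 * b) := by
      simp only [hxdef, commutatorElement_def, pow_two]; group
    rw [e, hK b hbB, h.bc b hbB _ (h.u_le hδ), mul_assoc, ← pow_two, ← mul_assoc,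
      h.u_comm (h.comm_mem_u hs hbB) hδ, mul_assoc, hbeq, h.inv_u hδ]
  have hxT : x ∈ centralizer (U : Set S) := mul_mem hx1T hbT
  have hKx : ∀ a ∈ B, ⁅x, a⁆ = ⁅s, a⁆ := fun a ha => by
    rw [h.comm_trans hbT hx1T ha, hK a ha,
      commutatorElement_eq_one_iff_mul_comm.mpr (h.bc b hbB a ha), mul_one]
  refine h.no_normal_involution hx2 hxT (fun hxU => ?_) fun g => ?_
  · have h2 := hKx b₂ hb.h2
    rw [hs2, commutatorElement_eq_one_iff_mul_comm.mpr (h.bc _ (h.u_le hxU) _ hb.h2)] at h2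
    exact hb.n1 h2.symm
  · have hw : u⁻¹ * b ∈ C := mul_mem (inv_mem hu) (h.mem_centralizer hbB)
    have hxs : x = s * (u⁻¹ * b) := by rw [hxdef, hx1, mul_assoc]
    refine h.commutator_mem_u hx2 (fun a ha e => hfix a ha (by rwa [hKx a ha] at e)) (fun c hc e => ?_) ?_
    · have hkc : ⁅x, c⁆ = ⁅s, c⁆ := by
        rw [hxs]
        calc ⁅s * (u⁻¹ * b), c⁆ = s * ⁅u⁻¹ * b, c⁆ * s⁻¹ * ⁅s, c⁆ := by simp only [commutatorElement_def]; group
          _ = _ := by rw [commutatorElement_eq_one_iff_mul_comm.mpr (hab _ hw _ hc)]; group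
      rw [hkc, mul_eq_one_iff_eq_inv] at e
      have hm : c ^ 2 ∈ U := by
        have := inv_mem (htriv c hc)
        rwa [e, inv_inv] at this
      exact h.big _ hc (by rw [show 4 = 2 * 2 from rfl, pow_mul, h.u_sq hm])
    · have e : ⁅g, s * (u⁻¹ * b)⁆ = ⁅g, s⁆ * (s * ⁅g, u⁻¹ * b⁆ * s⁻¹) := by
        simp only [commutatorElement_def]; group
      rw [hxs, e]
      refine mul_mem (hinv g) (h.centralizer_normal.conj_mem _ ?_ s)
      rw [commutatorElement_def]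
      exact mul_mem (h.centralizer_normal.conj_mem _ hw g) (inv_mem hw)

/-- An element acting without fixed points of order three lifts to an involution. -/
theorem Homo.omega_lift (h : Homo B U) (hb : Base B U b₁ b₂) {x : S} (hx : x ∈ centralizer (U : Set S))
    (hx1 : ⁅x, b₁⁆ = b₂ ^ 2) (hx2 : ⁅x, b₂⁆ = b₁ ^ 2 * b₂ ^ 2) :
    (∀ c ∈ centralizer (B : Set S), c ∈ B) ∧ ∃ y ∈ centralizer (U : Set S), y ^ 2 = 1 ∧
      ⁅y, b₁⁆ = b₂ ^ 2 ∧ ⁅y, b₂⁆ = b₁ ^ 2 * b₂ ^ 2 ∧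
      ∀ g : S, ⁅g, y⁆ ∈ centralizer (B : Set S) → ⁅g, y⁆ ∈ U := by
  obtain ⟨t11, t22, t21, t1p, t2p, tp1, tp2, tpp⟩ := h.table hb
  have hinj : ∀ b ∈ B, ⁅x, b⁆ = 1 → b ^ 2 = 1 := by
    intro b hbB e1
    rcases h.comm_cases hb hx hbB with ⟨e, _⟩ | ⟨e, k⟩ | ⟨e, k⟩ | ⟨e, k⟩
    · exact e
    · exact absurd (k.symm.trans e1) (by rw [hx1]; exact hb.n2)
    · exact absurd (k.symm.trans e1) (by rw [hx2]; exact h.ne12 hb)
    · exact absurd (k.symm.trans e1) (by rw [hx1, hx2, t2p]; exact hb.n1)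
  have hfix : ∀ b ∈ B, ⁅x, b⁆ * b ^ 2 = 1 → b ^ 2 = 1 := by
    intro b hbB e0
    rcases h.comm_cases hb hx hbB with ⟨e, _⟩ | ⟨e, k⟩ | ⟨e, k⟩ | ⟨e, k⟩
    · exact e
    · rw [e, k, hx1, t21] at e0; exact absurd e0 (h.ne12 hb)
    · rw [e, k, hx2, tp2] at e0; exact absurd e0 hb.n1
    · rw [e, k, hx1, hx2, t2p, t1p] at e0; exact absurd e0 hb.n2
  have hxC : x ^ 2 ∈ centralizer (B : Set S) := by
    refine h.centralizes_of_base hb (pow_mem hx 2) ?_ ?_
    · rw [pow_two, h.comm_trans hx hx hb.h1]; exact h.inv_u (h.comm_mem_u hx hb.h1)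
    · rw [pow_two, h.comm_trans hx hx hb.h2]; exact h.inv_u (h.comm_mem_u hx hb.h2)
  have hxB : x ^ 2 ∈ B := h.big _ hxC (h.pow_four_of_fixed hinj hxC (Commute.self_pow x 2))
  have hxU : x ^ 2 ∈ U := (h.memU _).mpr ⟨hxB, hinj _ hxB
    (commutatorElement_eq_one_iff_mul_comm.mpr (Commute.self_pow x 2))⟩
  have hCB : ∀ c ∈ centralizer (B : Set S), c ∈ B := by
    intro c
    obtain ⟨j, hj⟩ := h.p c
    induction j generalizing c with
    | zero =>
      intro _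
      rw [pow_zero, pow_one] at hj
      exact hj ▸ one_mem B
    | succ j ih =>
      intro hc
      have hc2 := ih (c ^ 2) (by rw [← pow_mul, ← pow_succ']; exact hj) (pow_mem hc 2)
      have h8 : c ^ 8 = 1 := by
        have := h.b4 _ hc2
        rwa [← pow_mul] at this
      obtain ⟨hyB, k1, k2⟩ := h.step hx hxB hc h8
      have hy := hfix _ hyB k2
      rw [hy] at k1
      have := hinj _ hc2 k1
      rw [← pow_mul] at this
      exact h.big c hc this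
  refine ⟨hCB, ?_⟩
  obtain ⟨b, hbB, hbeq⟩ : ∃ b ∈ B, ⁅x, b⁆ * b ^ 2 = x ^ 2 := by
    rcases h.cases_u hb hxU with e | e | e | e <;> rw [e]
    · exact ⟨1, one_mem B, by simp⟩
    · exact ⟨b₂, hb.h2, by rw [hx2, tp2]⟩
    · refine ⟨b₁ * b₂, mul_mem hb.h1 hb.h2, ?_⟩
      rw [h.comm_mul hx hb.h1 hb.h2, hx1, hx2, Commute.mul_pow (h.bc _ hb.h1 _ hb.h2), t2p, t1p]
    · exact ⟨b₁, hb.h1, by rw [hx1, t21]⟩
  have hbT : b ∈ centralizer (U : Set S) :=
    mem_centralizer_iff.mpr fun v hv => h.bc v (h.u_le hv) b hbB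
  have hy2 : (x * b) ^ 2 = 1 := by
    have e : (x * b) ^ 2 = ⁅x, b⁆ * (b * x ^ 2 * b) := by simp only [commutatorElement_def, pow_two]; group
    rw [e, h.bc b hbB _ (h.u_le hxU), mul_assoc, ← pow_two, ← mul_assoc,
      h.u_comm (h.comm_mem_u hx hbB) hxU, mul_assoc, hbeq, h.inv_u hxU]
  have hK : ∀ a ∈ B, ⁅x * b, a⁆ = ⁅x, a⁆ := fun a ha => by
    rw [h.comm_trans hbT hx ha, commutatorElement_eq_one_iff_mul_comm.mpr (h.bc b hbB a ha), mul_one]
  refine ⟨x * b, mul_mem hx hbT, hy2, (hK _ hb.h1).trans hx1, (hK _ hb.h2).trans hx2, fun g hg => ?_⟩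
  exact h.commutator_mem_u hy2 (fun a ha e => hfix a ha (by rwa [hK a ha] at e))
    (fun c hc _ => hCB c hc) hg

/-- The action of `C(U)` on `B / U`, as a pair of commutators. -/
def Homo.mu (h : Homo B U) (hb : Base B U b₁ b₂) : centralizer (U : Set S) →* S × S where
  toFun t := (⁅(t : S), b₁⁆, ⁅(t : S), b₂⁆)
  map_one' := by simp
  map_mul' s t := by
    ext
    · exact h.comm_trans t.2 s.2 hb.h1
    · exact h.comm_trans t.2 s.2 hb.h2

/-- The image in the action of the elements of `X`. -/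
def Homo.img (h : Homo B U) (hb : Base B U b₁ b₂) (X : Subgroup S) : Subgroup (S × S) :=
  (X.subgroupOf (centralizer (U : Set S))).map (h.mu hb)

theorem Homo.mem_img {h : Homo B U} {hb : Base B U b₁ b₂} {X : Subgroup S} {w : S × S} :
    w ∈ h.img hb X ↔ ∃ t ∈ X, t ∈ centralizer (U : Set S) ∧ ⁅t, b₁⁆ = w.1 ∧ ⁅t, b₂⁆ = w.2 := by
  constructor
  · rintro ⟨⟨t, ht⟩, htX, rfl⟩
    exact ⟨t, htX, ht, rfl, rfl⟩
  · rintro ⟨t, htX, ht, e1, e2⟩
    exact ⟨⟨t, ht⟩, htX, Prod.ext e1 e2⟩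

theorem Homo.img_le (h : Homo B U) (hb : Base B U b₁ b₂) (X : Subgroup S) : h.img hb X ≤ U.prod U := by
  rintro _ ⟨⟨t, ht⟩, _, rfl⟩
  exact mem_prod.mpr ⟨h.comm_mem_u ht hb.h1, h.comm_mem_u ht hb.h2⟩

theorem Homo.card_prod (h : Homo B U) : Nat.card (U.prod U) = 16 := by
  rw [Nat.card_congr (prodEquiv U U).toEquiv, Nat.card_prod, h.cardU]

theorem Homo.card_img (h : Homo B U) (hb : Base B U b₁ b₂) (X : Subgroup S) :
    Nat.card (h.img hb X) * Nat.card (X ⊓ centralizer (B : Set S) : Subgroup S) =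
      Nat.card (X ⊓ centralizer (U : Set S) : Subgroup S) := by
  set T := centralizer (U : Set S) with hT
  have hCT : centralizer (B : Set S) ≤ T := centralizer_le (SetLike.coe_subset_coe.mpr h.u_le)
  have hker : (h.mu hb).ker = (centralizer (B : Set S)).subgroupOf T := by
    ext ⟨t, ht⟩
    constructor
    · intro e
      have e' : ((⁅t, b₁⁆, ⁅t, b₂⁆) : S × S) = 1 := e
      exact mem_subgroupOf.mpr (h.centralizes_of_base hb ht (congrArg Prod.fst e') (congrArg Prod.snd e'))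
    · intro e
      exact Prod.ext (commutatorElement_eq_one_iff_mul_comm.mpr (mem_centralizer_iff.mp (mem_subgroupOf.mp e) b₁ hb.h1).symm)
        (commutatorElement_eq_one_iff_mul_comm.mpr (mem_centralizer_iff.mp (mem_subgroupOf.mp e) b₂ hb.h2).symm)
  have e1 := card_eq_map_mul (h.mu hb) (X.subgroupOf T)
  have e2 : Nat.card (X.subgroupOf T) = Nat.card (X ⊓ T : Subgroup S) := by
    rw [← card_map_of_injective (K := X.subgroupOf T) T.subtype_injective, subgroupOf_map_subtype]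
  have e3 : Nat.card (X.subgroupOf T ⊓ (h.mu hb).ker : Subgroup T) =
      Nat.card (X ⊓ centralizer (B : Set S) : Subgroup S) := by
    rw [hker, ← card_map_of_injective (K := X.subgroupOf T ⊓ (centralizer (B : Set S)).subgroupOf T) T.subtype_injective,
      map_inf _ _ _ T.subtype_injective, subgroupOf_map_subtype, subgroupOf_map_subtype, inf_inf_inf_comm, inf_idem,
      inf_eq_left.mpr (inf_le_right.trans hCT)]
  rw [e2, e3] at e1
  exact e1

/-- The action of a conjugate. -/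
theorem Homo.comm_conj (h : Homo B U) {s : S} (hs : s ∈ centralizer (U : Set S)) (g : S) {b c : S} (hb : b ∈ B)
    (hc : c ∈ B) (he : g * c ^ 2 * g⁻¹ = b ^ 2) : ⁅g * s * g⁻¹, b⁆ = g * ⁅s, c⁆ * g⁻¹ := by
  have hm : g⁻¹ * b * g ∈ B := by simpa using h.bn.conj_mem b hb g⁻¹
  have e : ⁅s, g⁻¹ * b * g⁆ = ⁅s, c⁆ := h.comm_eq_of_sq hs hm hc (by
    calc (g⁻¹ * b * g) ^ 2 = g⁻¹ * b ^ 2 * g := by simpa using conj_pow (a := g⁻¹) (b := b) (i := 2)
      _ = c ^ 2 := by rw [← he]; group)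
  rw [← e]; simp only [commutatorElement_def]; group

/-- An element with fixed action commutes modulo `C(B)` with everything. -/
theorem Homo.commutator_mem_of_fixed (h : Homo B U) (hb : Base B U b₁ b₂) {s g : S}
    (hs : s ∈ centralizer (U : Set S)) (h1 : ⁅g * s * g⁻¹, b₁⁆ = ⁅s, b₁⁆) (h2 : ⁅g * s * g⁻¹, b₂⁆ = ⁅s, b₂⁆) :
    ⁅g, s⁆ ∈ centralizer (B : Set S) := by
  haveI := h.u_normal
  have hgs : g * s * g⁻¹ ∈ centralizer (U : Set S) := Normal.conj_mem inferInstance s hs g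
  rw [commutatorElement_def]
  refine h.centralizes_of_base hb (mul_mem hgs (inv_mem hs)) ?_ ?_
  · rw [h.comm_trans (inv_mem hs) hgs hb.h1, h1, ← h.comm_trans (inv_mem hs) hs hb.h1, mul_inv_cancel,
      commutatorElement_one_left]
  · rw [h.comm_trans (inv_mem hs) hgs hb.h2, h2, ← h.comm_trans (inv_mem hs) hs hb.h2, mul_inv_cancel,
      commutatorElement_one_left]

theorem Homo.fixed_nilpotent (h : Homo B U) (hb : Base B U b₁ b₂) (hfix : ∀ g : S, g * b₁ ^ 2 * g⁻¹ = b₁ ^ 2)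
    {s : S} (hs : s ∈ centralizer (U : Set S)) (hs1 : ⁅s, b₁⁆ = 1) (hs2 : ⁅s, b₂⁆ = b₁ ^ 2) (g : S) :
    ⁅g, s⁆ ∈ centralizer (B : Set S) := by
  obtain ⟨t11, t22, t21, t1p, t2p, tp1, tp2, tpp⟩ := h.table hb
  refine h.commutator_mem_of_fixed hb hs ?_ ?_
  · rw [h.comm_conj hs g hb.h1 hb.h1 (hfix g), hs1]; group
  · have hu := h.u_normal.conj_mem _ (h.sq_mem_u hb.h2) g⁻¹
    rw [inv_inv] at hu
    rcases h.cases_u hb hu with e | e | e | e
    · exact absurd (show b₂ ^ 2 = 1 by rw [show b₂ ^ 2 = g * (g⁻¹ * b₂ ^ 2 * g) * g⁻¹ by group, e]; group) hb.n2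
    · exact absurd (show b₂ ^ 2 = b₁ ^ 2 by rw [show b₂ ^ 2 = g * (g⁻¹ * b₂ ^ 2 * g) * g⁻¹ by group, e, hfix]) hb.n12.symm
    · rw [h.comm_conj hs g hb.h2 hb.h2 (by nth_rewrite 1 [← e]; group), hs2, hfix]
    · rw [h.comm_conj hs g hb.h2 (mul_mem hb.h1 hb.h2) (by
          rw [Commute.mul_pow (h.bc _ hb.h1 _ hb.h2), ← e]; group),
        h.comm_mul hs hb.h1 hb.h2, hs1, hs2, one_mul, hfix]

/-- Reductions from a nilpotent element and the identity. -/
theorem Homo.reducer (h : Homo B U) (hb : Base B U b₁ b₂) (hfix : ∀ g : S, g * b₁ ^ 2 * g⁻¹ = b₁ ^ 2)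
    {s i : S} (hs : s ∈ centralizer (U : Set S)) (hi : i ∈ centralizer (U : Set S))
    (hs1 : ⁅s, b₁⁆ = 1) (hs2 : ⁅s, b₂⁆ = b₁ ^ 2) (hi1 : ⁅i, b₁⁆ = b₁ ^ 2) (hi2 : ⁅i, b₂⁆ = b₂ ^ 2) :
    s ^ 2 ∉ sq (centralizer (B : Set S)) :=
  h.nilpotent_lift hb hs (mul_mem hs hi) hs1 hs2 (by rw [h.comm_trans hi hs hb.h1, hs1, hi1, one_mul])
    (by rw [h.comm_trans hi hs hb.h2, hs2, hi2]) (h.fixed_nilpotent hb hfix hs hs1 hs2)

theorem Homo.index_two (h : Homo B U) {R : Subgroup (S × S)} (hR : R ≤ U.prod U) (h8 : 8 ≤ Nat.card R)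
    {a b : S × S} (ha : a ∈ U.prod U) (hb : b ∈ U.prod U) (haR : a ∉ R) (hbR : b ∉ R) : a * b ∈ R := by
  have hmul := (R.subgroupOf (U.prod U)).card_mul_index
  rw [h.card_prod, Cores.card_subgroupOf hR] at hmul
  have hne : (R.subgroupOf (U.prod U)).index ≠ 1 := by
    rw [Ne, index_eq_one, subgroupOf_eq_top]
    exact fun hle => haR (hle ha)
  have hidx : (R.subgroupOf (U.prod U)).index = 2 := by
    have h3 : 8 * (R.subgroupOf (U.prod U)).index ≤ 16 := (Nat.mul_le_mul_right _ h8).trans hmul.le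
    have h4 : (R.subgroupOf (U.prod U)).index ≠ 0 := index_ne_zero_of_finite
    omega
  exact (mul_mem_iff_of_index_two hidx (a := ⟨a, ha⟩) (b := ⟨b, hb⟩)).mpr (iff_of_false haR hbR)

/-- Conjugation by an element moving `U`. -/
theorem Homo.img_conj (h : Homo B U) (hb : Base B U b₁ b₂) {g : S} (hfix : g * b₁ ^ 2 * g⁻¹ = b₁ ^ 2)
    (hmove : g * b₂ ^ 2 * g⁻¹ = b₁ ^ 2 * b₂ ^ 2) {X : Subgroup S} (hg : g ∈ X) {w : S × S}
    (hw : w ∈ h.img hb X) : (g * w.1 * g⁻¹, g * (w.1 * w.2) * g⁻¹) ∈ h.img hb X := by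
  obtain ⟨t11, t22, t21, t1p, t2p, tp1, tp2, tpp⟩ := h.table hb
  haveI := h.u_normal
  obtain ⟨s, hsX, hs, e1, e2⟩ := Homo.mem_img.mp hw
  refine Homo.mem_img.mpr ⟨g * s * g⁻¹, mul_mem (mul_mem hg hsX) (inv_mem hg), Normal.conj_mem inferInstance s hs g, ?_, ?_⟩
  · rw [h.comm_conj hs g hb.h1 hb.h1 hfix, e1]
  · rw [h.comm_conj hs g hb.h2 (mul_mem hb.h1 hb.h2) ?_, h.comm_mul hs hb.h1 hb.h2, e1, e2]
    rw [Commute.mul_pow (h.bc _ hb.h1 _ hb.h2), ← conj_mul, hfix, hmove, t1p]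

theorem Homo.nilpotent_fixed_mem (h : Homo B U) (hb : Base B U b₁ b₂) {g : S}
    (hfix : g * b₁ ^ 2 * g⁻¹ = b₁ ^ 2) (hmove : g * b₂ ^ 2 * g⁻¹ = b₁ ^ 2 * b₂ ^ 2) {X : Subgroup S}
    (hg : g ∈ X) (h8 : 8 ≤ Nat.card (h.img hb X)) (hI : (b₁ ^ 2, b₂ ^ 2) ∈ h.img hb X) :
    ((1 : S), b₁ ^ 2) ∈ h.img hb X := by
  obtain ⟨t11, t22, t21, t1p, t2p, tp1, tp2, tpp⟩ := h.table hb
  have u1 := h.sq_mem_u hb.h1
  have u2 := h.sq_mem_u hb.h2
  have up := mul_mem u1 u2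
  set R := h.img hb X
  by_contra hN
  have hgp : g * (b₁ ^ 2 * b₂ ^ 2) * g⁻¹ = b₂ ^ 2 := by rw [← conj_mul, hfix, hmove, t1p]
  have hiff : (b₂ ^ 2, (1 : S)) ∈ R ↔ (b₁ ^ 2 * b₂ ^ 2, b₁ ^ 2 * b₂ ^ 2) ∈ R := by
    constructor
    · intro hw
      have := h.img_conj hb hfix hmove hg hw
      simpa only [mul_one, hmove] using this
    · intro hw
      have := h.img_conj hb hfix hmove hg hw
      simpa only [tpp, hgp, mul_one, mul_inv_cancel] using this
  by_cases hN' : (b₂ ^ 2, (1 : S)) ∈ R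
  · have := mul_mem (mul_mem hI hN') (hiff.mp hN')
    simp only [Prod.mk_mul_mk, mul_one, t2p, tpp] at this
    exact hN this
  · have h1 := h.index_two (h.img_le hb X) h8 (mem_prod.mpr ⟨one_mem U, u1⟩) (mem_prod.mpr ⟨u2, one_mem U⟩) hN hN'
    simp only [Prod.mk_mul_mk, mul_one, one_mul] at h1
    have h2 := mul_mem hI h1
    simp only [Prod.mk_mul_mk, t21] at h2
    exact hN' (hiff.mpr h2)

/-- The action never contains an element of order three when it has at least eight elements. -/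
theorem Homo.no_omega (h : Homo B U) (hb : Base B U b₁ b₂) (hfix : ∀ g : S, g * b₁ ^ 2 * g⁻¹ = b₁ ^ 2)
    (h8 : 8 ≤ Nat.card (h.img hb ⊤)) :
    (b₂ ^ 2, b₁ ^ 2 * b₂ ^ 2) ∉ h.img hb ⊤ ∧ (b₁ ^ 2 * b₂ ^ 2, b₁ ^ 2) ∉ h.img hb ⊤ := by
  obtain ⟨t11, t22, t21, t1p, t2p, tp1, tp2, tpp⟩ := h.table hb
  haveI := h.u_normal
  by_cases hT : ∀ g : S, g ∈ centralizer (U : Set S)
  · refine ⟨fun hw => ?_, fun hw => ?_⟩
    · obtain ⟨x, -, hx, e1, e2⟩ := Homo.mem_img.mp hw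
      obtain ⟨-, y, hy, hy2, hy1, -, hcomm⟩ := h.omega_lift hb hx e1 e2
      refine h.no_normal_involution hy2 hy (fun hyU => ?_) fun g => hcomm g (h.commutator_mem (hT g) hy)
      rw [commutatorElement_eq_one_iff_mul_comm.mpr (h.bc _ (h.u_le hyU) _ hb.h1)] at hy1
      exact hb.n2 hy1.symm
    · obtain ⟨x, -, hx, e1, e2⟩ := Homo.mem_img.mp hw
      obtain ⟨-, y, hy, hy2, hy1, -, hcomm⟩ := h.omega_lift (Homo.swap hb) hx e2 (by rw [e1, t21])
      refine h.no_normal_involution hy2 hy (fun hyU => ?_) fun g => hcomm g (h.commutator_mem (hT g) hy)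
      rw [commutatorElement_eq_one_iff_mul_comm.mpr (h.bc _ (h.u_le hyU) _ hb.h2)] at hy1
      exact hb.n1 hy1.symm
  push Not at hT
  obtain ⟨g, hg⟩ := hT
  have hmove : g * b₂ ^ 2 * g⁻¹ = b₁ ^ 2 * b₂ ^ 2 := by
    rcases h.cases_u hb (h.u_normal.conj_mem _ (h.sq_mem_u hb.h2) g) with e | e | e | e
    · exact absurd (show b₂ ^ 2 = 1 by rw [show b₂ ^ 2 = g⁻¹ * (g * b₂ ^ 2 * g⁻¹) * g by group, e]; group) hb.n2
    · exact absurd (show b₂ ^ 2 = b₁ ^ 2 by
        rw [show b₂ ^ 2 = g⁻¹ * (g * b₂ ^ 2 * g⁻¹) * g by group, e]; nth_rewrite 1 [← hfix g]; group) hb.n12.symm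
    · refine absurd (mem_centralizer_iff.mpr fun v hv => ?_) hg
      have hc : g * v * g⁻¹ = v := by
        rcases h.cases_u hb hv with rfl | rfl | rfl | rfl
        · group
        · exact hfix g
        · exact e
        · rw [← conj_mul, hfix, e]
      exact (mul_inv_eq_iff_eq_mul.mp hc).symm
    · exact e
  suffices key : (b₂ ^ 2, b₁ ^ 2 * b₂ ^ 2) ∉ h.img hb ⊤ by
    refine ⟨key, fun hw => key ?_⟩
    have := h.img_conj hb (hfix g) hmove (mem_top g) hw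
    have hgp : g * (b₁ ^ 2 * b₂ ^ 2) * g⁻¹ = b₂ ^ 2 := by rw [← conj_mul, hfix, hmove, t1p]
    simpa only [tp1, hgp, hmove] using this
  intro hw
  obtain ⟨x, -, hx, e1, e2⟩ := Homo.mem_img.mp hw
  obtain ⟨hCB, y, hy, hy2, hy1, hy2', hcomm⟩ := h.omega_lift hb hx e1 e2
  have hgy : g * y * g⁻¹ ∈ centralizer (U : Set S) := Normal.conj_mem inferInstance y hy g
  set i := y * (g * y * g⁻¹) with hi
  have hiT : i ∈ centralizer (U : Set S) := mul_mem hy hgy
  have hi1 : ⁅i, b₁⁆ = b₁ ^ 2 := by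
    rw [hi, h.comm_trans hgy hy hb.h1, h.comm_conj hy g hb.h1 hb.h1 (hfix g), hy1, hmove, t2p]
  have hi2 : ⁅i, b₂⁆ = b₂ ^ 2 := by
    rw [hi, h.comm_trans hgy hy hb.h2, h.comm_conj hy g hb.h2 (mul_mem hb.h1 hb.h2) ?_,
      h.comm_mul hy hb.h1 hb.h2, hy1, hy2', t2p, hfix, tp1]
    rw [Commute.mul_pow (h.bc _ hb.h1 _ hb.h2), ← conj_mul, hfix, hmove, t1p]
  have hIimg : (b₁ ^ 2, b₂ ^ 2) ∈ h.img hb ⊤ := Homo.mem_img.mpr ⟨i, mem_top i, hiT, hi1, hi2⟩
  obtain ⟨s, -, hs, hs1, hs2⟩ := Homo.mem_img.mp (h.nilpotent_fixed_mem hb (hfix g) hmove (mem_top g) h8 hIimg)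
  refine h.reducer hb hfix hs hiT hs1 hs2 hi1 hi2 ?_
  have hε : ⁅s, i⁆ ∈ U := by
    have h1 : ⁅s, y⁆ ∈ U := hcomm s (h.commutator_mem hs hy)
    have h2 : ⁅g⁻¹ * s * g, y⁆ ∈ U := hcomm _ (h.commutator_mem (by
      simpa using (Normal.conj_mem inferInstance s hs g⁻¹ : g⁻¹ * s * g⁻¹⁻¹ ∈ centralizer (U : Set S))) hy)
    have e : ⁅s, i⁆ = ⁅s, y⁆ * (y * (g * ⁅g⁻¹ * s * g, y⁆ * g⁻¹) * y⁻¹) := by
      rw [hi]; simp only [commutatorElement_def]; group
    rw [e]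
    exact mul_mem h1 (h.u_normal.conj_mem _ (h.u_normal.conj_mem _ h2 g) y)
  have hfixed : ⁅i, s ^ 2⁆ = 1 := by
    rw [← commutatorElement_inv, inv_eq_one]
    have e : ⁅s ^ 2, i⁆ = (s * ⁅s, i⁆ * s⁻¹) * ⁅s, i⁆ := by simp only [commutatorElement_def, pow_two]; group
    rw [e, ← mem_centralizer_iff.mp hs _ hε, mul_inv_cancel_right, h.inv_u hε]
  have hsB : s ^ 2 ∈ B := hCB _ (h.centralizes_of_base hb (pow_mem hs 2)
    (by rw [pow_two, h.comm_trans hs hs hb.h1]; exact h.inv_u (h.comm_mem_u hs hb.h1))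
    (by rw [pow_two, h.comm_trans hs hs hb.h2]; exact h.inv_u (h.comm_mem_u hs hb.h2)))
  have hsq1 : (s ^ 2) ^ 2 = 1 := by
    rcases h.comm_cases hb hiT hsB with ⟨e, _⟩ | ⟨e, k⟩ | ⟨e, k⟩ | ⟨e, k⟩ <;>
      first
        | exact e
        | (rw [hfixed] at k; simp only [hi1, hi2] at k; rw [e, ← k])
  rcases h.cases_u hb ((h.memU _).mpr ⟨hsB, hsq1⟩) with e | e | e | e <;> rw [e]
  · exact one_mem _
  · exact mem_sq (h.mem_centralizer hb.h1)
  · exact mem_sq (h.mem_centralizer hb.h2)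
  · exact mul_mem (mem_sq (h.mem_centralizer hb.h1)) (mem_sq (h.mem_centralizer hb.h2))

/-- The count for `B` homocyclic. -/
theorem Homo.card_le (h : Homo B U) (hsurj : ∀ u ∈ U, ∃ b ∈ B, b ^ 2 = u) (H N : Subgroup S) (hNH : N ≤ H)
    (hsq : ∀ x ∈ H, x ^ 2 ∈ N) : Nat.card H ≤ 2 ^ 4 * Nat.card N := by
  classical
  haveI := h.u_normal
  have : Fact (Nat.Prime 2) := ⟨Nat.prime_two⟩
  -- a basis whose first square is central
  obtain ⟨u, huU, huc, hu1⟩ : ∃ u ∈ U, u ∈ center S ∧ u ≠ 1 := by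
    have hne : U ≠ ⊥ := fun e => by
      have := h.cardU
      rw [e, card_bot] at this
      omega
    have := PGroup.inf_center_ne_bot h.p hne
    obtain ⟨⟨u, hu⟩, hu'⟩ := ne_bot_iff_exists_ne_one.mp this
    exact ⟨u, hu.1, hu.2, fun e => hu' (Subtype.ext e)⟩
  obtain ⟨v, hvU, hv1, hvu⟩ : ∃ v ∈ U, v ≠ 1 ∧ v ≠ u := by
    by_contra hc
    push Not at hc
    have hsub : (U : Set S) ⊆ ({1, u} : Finset S) := fun w hw => by
      simp only [Finset.coe_insert, Finset.coe_singleton, Set.mem_insert_iff, Set.mem_singleton_iff]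
      exact or_iff_not_imp_left.mpr (hc w hw)
    have h1 := Set.ncard_le_ncard hsub (Set.toFinite _)
    rw [Set.ncard_coe_finset, ← Nat.card_coe_set_eq, SetLike.coe_sort_coe, h.cardU] at h1
    exact absurd (h1.trans Finset.card_le_two) (by norm_num)
  obtain ⟨b₁, hb₁, rfl⟩ := hsurj u huU
  obtain ⟨b₂, hb₂, rfl⟩ := hsurj v hvU
  have hb : Base B U b₁ b₂ := ⟨hb₁, hb₂, hu1, hv1, hvu.symm⟩
  have hfix : ∀ g : S, g * b₁ ^ 2 * g⁻¹ = b₁ ^ 2 := fun g => by
    rw [mem_center_iff.mp huc g, mul_inv_cancel_right]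
  obtain ⟨t11, t22, t21, t1p, t2p, tp1, tp2, tpp⟩ := h.table hb
  have u1 := h.sq_mem_u hb.h1
  have u2 := h.sq_mem_u hb.h2
  have up := mul_mem u1 u2
  set T := centralizer (U : Set S)
  set C := centralizer (B : Set S)
  -- counting
  have hk4 : Nat.card (H ⊓ C : Subgroup S) ≤ 4 * Nat.card (sq (H ⊓ C)) := by
    have hc : Omega2Central (H ⊓ C) := fun x hx h4 y hy => h.omega2 x hx.2 h4 y hy.2
    have := hc.card_le h.p (U := U) fun x hx h2 => (h.memU x).mpr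
      ⟨h.big x hx.2 (by rw [show 4 = 2 * 2 from rfl, pow_mul, h2, one_pow]), h2⟩
    rwa [h.cardU] at this
  have hsqle : sq (H ⊓ C) ≤ N ⊓ C := sq_le_iff.mpr fun x hx => ⟨hsq x hx.1, pow_mem hx.2 2⟩
  have hsqc : Nat.card (sq (H ⊓ C)) ≤ Nat.card (N ⊓ C : Subgroup S) := card_le_of_le hsqle
  have hred : ∀ s ∈ H, s ∈ T → s ^ 2 ∉ sq C →
      Nat.card (H ⊓ C : Subgroup S) ≤ 2 * Nat.card (N ⊓ C : Subgroup S) := by
    intro s hsH hsT hs
    have hsC : s ^ 2 ∈ C := h.centralizes_of_base hb (pow_mem hsT 2)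
      (by rw [pow_two, h.comm_trans hsT hsT hb.h1]; exact h.inv_u (h.comm_mem_u hsT hb.h1))
      (by rw [pow_two, h.comm_trans hsT hsT hb.h2]; exact h.inv_u (h.comm_mem_u hsT hb.h2))
    have hlt : sq (H ⊓ C) < N ⊓ C := lt_of_le_of_ne hsqle fun e =>
      hs (sq_mono inf_le_right (e ▸ (⟨hsq s hsH, hsC⟩ : s ^ 2 ∈ N ⊓ C) : s ^ 2 ∈ sq (H ⊓ C)))
    have := PGroup.mul_card_le_of_lt (p := 2) h.p hlt
    omega
  have hT2 : Nat.card H ≤ 2 * Nat.card (H ⊓ T : Subgroup S) := by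
    have h1 : T.index ≤ 2 := by
      have := PGroup.index_centralizer_le (p := 2) h.p 2 U inferInstance (by rw [h.cardU]; norm_num)
      simpa using this
    have hrel : T.relIndex H ≤ T.index :=
      Nat.le_of_dvd (Nat.pos_of_ne_zero index_ne_zero_of_finite) (relIndex_dvd_index_of_normal T H)
    have := (T.subgroupOf H).card_mul_index
    rw [show Nat.card (T.subgroupOf H) = Nat.card (H ⊓ T : Subgroup S) by
      rw [← card_map_of_injective (K := T.subgroupOf H) H.subtype_injective, subgroupOf_map_subtype, inf_comm]] at this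
    rw [← this, mul_comm]
    exact Nat.mul_le_mul_right _ (hrel.trans h1)
  have hN : Nat.card (h.img hb N) * Nat.card (N ⊓ C : Subgroup S) ≤ Nat.card N := by
    rw [h.card_img hb N]; exact card_le_of_le inf_le_left
  have hH : Nat.card (h.img hb H) * Nat.card (H ⊓ C : Subgroup S) = Nat.card (H ⊓ T : Subgroup S) :=
    h.card_img hb H
  have hR16 : Nat.card (h.img hb H) ≤ 16 := (card_le_of_le (h.img_le hb H)).trans h.card_prod.le
  have hR2 : ∀ X : Subgroup S, ∃ a, Nat.card (h.img hb X) = 2 ^ a := fun X => by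
    refine IsPGroup.iff_card.mp (IsPGroup.of_card (n := 4) (G := U.prod U) (by rw [h.card_prod]; norm_num) |>.to_le (h.img_le hb X))
  -- a large action gives a reduction
  have hbig : 8 ≤ Nat.card (h.img hb H) →
      Nat.card (h.img hb H) = 8 ∧ Nat.card (H ⊓ C : Subgroup S) ≤ 2 * Nat.card (N ⊓ C : Subgroup S) := by
    intro h8
    have hle : h.img hb H ≤ h.img hb ⊤ := map_mono (fun x _ => mem_top _)
    have h8' := h8.trans (card_le_of_le hle)
    obtain ⟨hw1, hw2⟩ := h.no_omega hb hfix h8'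
    have hwU1 : (b₂ ^ 2, b₁ ^ 2 * b₂ ^ 2) ∈ U.prod U := mem_prod.mpr ⟨u2, up⟩
    have hwU2 : (b₁ ^ 2 * b₂ ^ 2, b₁ ^ 2) ∈ U.prod U := mem_prod.mpr ⟨up, u1⟩
    refine ⟨?_, ?_⟩
    · obtain ⟨a, ha⟩ := hR2 H
      have hne : Nat.card (h.img hb H) ≠ 16 := fun e => hw1 (hle (by
        rw [PGroup.eq_of_le_of_card_le (h.img_le hb H) (by rw [h.card_prod, e])]; exact hwU1))
      rw [ha] at h8 hR16 hne ⊢
      have h3 : 3 ≤ a := (Nat.pow_le_pow_iff_right (by norm_num : 1 < 2)).mp (h8 : 2 ^ 3 ≤ 2 ^ a)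
      have h4 : a ≤ 4 := (Nat.pow_le_pow_iff_right (by norm_num : 1 < 2)).mp (hR16 : 2 ^ a ≤ 2 ^ 4)
      interval_cases a
      · rfl
      · exact absurd rfl hne
    have hI : (b₁ ^ 2, b₂ ^ 2) ∈ h.img hb H := by
      have := h.index_two (h.img_le hb H) h8 hwU1 hwU2 (fun e => hw1 (hle e)) (fun e => hw2 (hle e))
      simpa only [Prod.mk_mul_mk, t2p, tp1] using this
    obtain ⟨i, -, hiT, hi1, hi2⟩ := Homo.mem_img.mp hI
    by_cases hTop : ∀ g : S, g ∈ T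
    · have hcent : ∀ {w : S}, w ∈ U → ∀ g : S, g * w * g⁻¹ = w := fun {w} hw g => by
        rw [← mem_centralizer_iff.mp (hTop g) w hw, mul_inv_cancel_right]
      by_cases hN1 : ((1 : S), b₁ ^ 2) ∈ h.img hb H
      · obtain ⟨s, hsH, hsT, hs1, hs2⟩ := Homo.mem_img.mp hN1
        exact hred s hsH hsT (h.reducer hb hfix hsT hiT hs1 hs2 hi1 hi2)
      by_cases hN2 : (b₂ ^ 2, (1 : S)) ∈ h.img hb H
      · obtain ⟨s, hsH, hsT, hs1, hs2⟩ := Homo.mem_img.mp hN2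
        exact hred s hsH hsT (h.reducer (Homo.swap hb) (hcent u2) hsT hiT hs2 hs1 hi2 hi1)
      have h1 := h.index_two (h.img_le hb H) h8 (mem_prod.mpr ⟨one_mem U, u1⟩) (mem_prod.mpr ⟨u2, one_mem U⟩) hN1 hN2
      have h2 := mul_mem hI h1
      simp only [Prod.mk_mul_mk, mul_one, one_mul, t21] at h2
      obtain ⟨s, hsH, hsT, hs1, hs2⟩ := Homo.mem_img.mp h2
      have hb' : Base B U (b₁ * b₂) b₂ := by
        have e := Commute.mul_pow (h.bc _ hb.h1 _ hb.h2 : Commute b₁ b₂) 2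
        refine ⟨mul_mem hb.h1 hb.h2, hb.h2, ?_, hb.n2, ?_⟩ <;> rw [e]
        · exact h.ne12 hb
        · exact fun e' => hb.n1 (mul_eq_right.mp e')
      have e := Commute.mul_pow (h.bc _ hb.h1 _ hb.h2 : Commute b₁ b₂) 2
      simp only at hs1 hs2
      exact hred s hsH hsT (h.reducer hb' (fun g => by rw [e]; exact hcent up g) hsT hiT
        (by rw [h.comm_mul hsT hb.h1 hb.h2, hs1, hs2, tpp]) (by rw [hs2, e])
        (by rw [h.comm_mul hiT hb.h1 hb.h2, hi1, hi2, e]) hi2)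
    · push Not at hTop
      obtain ⟨g, hg⟩ := hTop
      have hmove : g * b₂ ^ 2 * g⁻¹ = b₁ ^ 2 * b₂ ^ 2 := by
        rcases h.cases_u hb (h.u_normal.conj_mem _ u2 g) with e | e | e | e
        · exact absurd (show b₂ ^ 2 = 1 by rw [show b₂ ^ 2 = g⁻¹ * (g * b₂ ^ 2 * g⁻¹) * g by group, e]; group) hb.n2
        · exact absurd (show b₂ ^ 2 = b₁ ^ 2 by
            rw [show b₂ ^ 2 = g⁻¹ * (g * b₂ ^ 2 * g⁻¹) * g by group, e]; nth_rewrite 1 [← hfix g]; group) hb.n12.symm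
        · refine absurd (mem_centralizer_iff.mpr fun v hv => ?_) hg
          have hc : g * v * g⁻¹ = v := by
            rcases h.cases_u hb hv with rfl | rfl | rfl | rfl
            · group
            · exact hfix g
            · exact e
            · rw [← conj_mul, hfix, e]
          exact (mul_inv_eq_iff_eq_mul.mp hc).symm
        · exact e
      have hIT : (b₁ ^ 2, b₂ ^ 2) ∈ h.img hb ⊤ := hle hI
      have hNtop := h.nilpotent_fixed_mem hb (hfix g) hmove (mem_top g) h8' hIT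
      -- the action of `H` is everything
      have heq : h.img hb H = h.img hb ⊤ := by
        refine PGroup.eq_of_le_of_card_le hle ?_
        obtain ⟨a, ha⟩ := hR2 ⊤
        have h16 : Nat.card (h.img hb ⊤) ≤ 16 := (card_le_of_le (h.img_le hb ⊤)).trans h.card_prod.le
        have hne : Nat.card (h.img hb ⊤) ≠ 16 := fun e => hw1 (by
          rw [PGroup.eq_of_le_of_card_le (h.img_le hb ⊤) (by rw [h.card_prod, e])]; exact hwU1)
        rw [ha] at h16 hne ⊢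
        have : a ≤ 4 := (Nat.pow_le_pow_iff_right (by norm_num : 1 < 2)).mp (h16 : 2 ^ a ≤ 2 ^ 4)
        interval_cases a <;> first | exact absurd rfl hne | (norm_num; omega)
      obtain ⟨s, hsH, hsT, hs1, hs2⟩ := Homo.mem_img.mp (heq ▸ hNtop)
      exact hred s hsH hsT (h.reducer hb hfix hsT hiT hs1 hs2 hi1 hi2)
  have hHC4 : Nat.card (H ⊓ C : Subgroup S) ≤ 4 * Nat.card (N ⊓ C : Subgroup S) :=
    hk4.trans (Nat.mul_le_mul_left 4 hsqc)
  have hNpos : 1 ≤ Nat.card (h.img hb N) := Nat.card_pos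
  have hNC : Nat.card (N ⊓ C : Subgroup S) ≤ Nat.card N := card_le_of_le inf_le_left
  by_cases hHT : H ≤ T
  · rw [show H ⊓ T = H from inf_eq_left.mpr hHT] at hH
    by_cases h8 : 8 ≤ Nat.card (h.img hb H)
    · obtain ⟨e, k⟩ := hbig h8
      rw [e] at hH
      omega
    · obtain ⟨a, ha⟩ := hR2 H
      have : Nat.card (h.img hb H) ≤ 4 := by
        rw [ha] at h8 ⊢
        have : a ≤ 2 := by
          by_contra hc
          exact h8 (Nat.pow_le_pow_right (by norm_num) (show 3 ≤ a by omega) : 2 ^ 3 ≤ 2 ^ a)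
        exact Nat.pow_le_pow_right (by norm_num) this
      calc Nat.card H = Nat.card (h.img hb H) * Nat.card (H ⊓ C : Subgroup S) := hH.symm
        _ ≤ 4 * (4 * Nat.card (N ⊓ C : Subgroup S)) := Nat.mul_le_mul this hHC4
        _ ≤ _ := by omega
  obtain ⟨g, hgH, hgT⟩ := SetLike.not_le_iff_exists.mp hHT
  have hmove : g * b₂ ^ 2 * g⁻¹ = b₁ ^ 2 * b₂ ^ 2 := by
    rcases h.cases_u hb (h.u_normal.conj_mem _ u2 g) with e | e | e | e
    · exact absurd (show b₂ ^ 2 = 1 by rw [show b₂ ^ 2 = g⁻¹ * (g * b₂ ^ 2 * g⁻¹) * g by group, e]; group) hb.n2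
    · exact absurd (show b₂ ^ 2 = b₁ ^ 2 by
        rw [show b₂ ^ 2 = g⁻¹ * (g * b₂ ^ 2 * g⁻¹) * g by group, e]; nth_rewrite 1 [← hfix g]; group) hb.n12.symm
    · refine absurd (mem_centralizer_iff.mpr fun v hv => ?_) hgT
      have hc : g * v * g⁻¹ = v := by
        rcases h.cases_u hb hv with rfl | rfl | rfl | rfl
        · group
        · exact hfix g
        · exact e
        · rw [← conj_mul, hfix, e]
      exact (mul_inv_eq_iff_eq_mul.mp hc).symm
    · exact e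
  -- either the image of `N` is nontrivial or the action of `H` is fixed
  have hdich : 2 ≤ Nat.card (h.img hb N) ∨
      ∀ w ∈ h.img hb H, g * w.1 * g⁻¹ = w.1 ∧ g * (w.1 * w.2) * g⁻¹ = w.2 := by
    by_cases hN1 : h.img hb N = ⊥
    · right
      intro w hw
      obtain ⟨s, hsH, hsT, e1, e2⟩ := Homo.mem_img.mp hw
      have hgs : g * s * g⁻¹ ∈ T := Normal.conj_mem inferInstance s hsT g
      have hm : (⁅g * s * g⁻¹ * s⁻¹, b₁⁆, ⁅g * s * g⁻¹ * s⁻¹, b₂⁆) ∈ h.img hb N := Homo.mem_img.mpr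
        ⟨_, by simpa only [commutatorElement_def] using commutator_mem_of_sq hsq hgH hsH,
          mul_mem hgs (inv_mem hsT), rfl, rfl⟩
      rw [hN1, mem_bot, Prod.mk_eq_one] at hm
      have hfin : ∀ b ∈ B, ⁅g * s * g⁻¹ * s⁻¹, b⁆ = 1 → ⁅g * s * g⁻¹, b⁆ = ⁅s, b⁆ := fun b hbB hk => by
        have := h.comm_trans hsT (mul_mem hgs (inv_mem hsT)) hbB
        rwa [inv_mul_cancel_right, hk, one_mul] at this
      constructor
      · rw [← e1, ← h.comm_conj hsT g hb.h1 hb.h1 (hfix g)]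
        exact hfin b₁ hb.h1 hm.1
      · rw [← e1, ← e2, ← h.comm_mul hsT hb.h1 hb.h2, ← h.comm_conj hsT g hb.h2 (mul_mem hb.h1 hb.h2) (by
          rw [Commute.mul_pow (h.bc _ hb.h1 _ hb.h2), ← conj_mul, hfix, hmove, t1p])]
        exact hfin b₂ hb.h2 hm.2
    · left
      exact Finite.one_lt_card_iff_nontrivial.mpr (nontrivial_iff_ne_bot _ |>.mpr hN1)
  by_cases h8 : 8 ≤ Nat.card (h.img hb H)
  · obtain ⟨e, k⟩ := hbig h8
    rcases hdich with h2 | hall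
    · have : 2 * Nat.card (N ⊓ C : Subgroup S) ≤ Nat.card N := (Nat.mul_le_mul_right _ h2).trans hN
      rw [e] at hH
      omega
    · exfalso
      -- a fixed set has at most four elements
      have hsub : (h.img hb H : Set (S × S)) ⊆ ({((1 : S), (1 : S)), ((1 : S), b₁ ^ 2), (b₁ ^ 2, b₂ ^ 2),
          (b₁ ^ 2, b₁ ^ 2 * b₂ ^ 2)} : Finset (S × S)) := by
        rintro ⟨w₁, w₂⟩ hw
        obtain ⟨f1, f2⟩ := hall _ hw
        obtain ⟨hw1, hw2⟩ := mem_prod.mp (h.img_le hb H hw)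
        simp only at f1 f2
        rcases h.cases_u hb hw1 with rfl | rfl | rfl | rfl <;> rcases h.cases_u hb hw2 with rfl | rfl | rfl | rfl <;>
          simp [← conj_mul, hfix, hmove, t11, t22, t21, t1p, t2p, tp1, tp2, tpp, hb.n1, hb.n2, hb.n12,
            hb.n1.symm, hb.n2.symm, hb.n12.symm] at f1 f2 ⊢
      have h1 := Set.ncard_le_ncard hsub (Set.toFinite _)
      rw [Set.ncard_coe_finset, ← Nat.card_coe_set_eq, SetLike.coe_sort_coe, e] at h1
      exact absurd (h1.trans Finset.card_le_four) (by norm_num)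
  have hR4 : Nat.card (h.img hb H) ≤ 4 := by
    obtain ⟨a, ha⟩ := hR2 H
    rw [ha] at h8 ⊢
    have : a ≤ 2 := by
      by_contra hc
      exact h8 (Nat.pow_le_pow_right (by norm_num) (show 3 ≤ a by omega) : 2 ^ 3 ≤ 2 ^ a)
    exact Nat.pow_le_pow_right (by norm_num) this
  by_cases hR22 : Nat.card (h.img hb H) ≤ 2
  · have := Nat.mul_le_mul hR22 hHC4
    rw [hH] at this
    omega
  rcases hdich with h2 | hall
  · have h3 : 2 * Nat.card (N ⊓ C : Subgroup S) ≤ Nat.card N := (Nat.mul_le_mul_right _ h2).trans hN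
    have := Nat.mul_le_mul hR4 hHC4
    rw [hH] at this
    omega
  -- the fixed action of order four contains the nilpotent element and the identity
  have hsub : (h.img hb H : Set (S × S)) ⊆ ({((1 : S), (1 : S)), ((1 : S), b₁ ^ 2), (b₁ ^ 2, b₂ ^ 2),
      (b₁ ^ 2, b₁ ^ 2 * b₂ ^ 2)} : Finset (S × S)) := by
    rintro ⟨w₁, w₂⟩ hw
    obtain ⟨f1, f2⟩ := hall _ hw
    obtain ⟨hw1, hw2⟩ := mem_prod.mp (h.img_le hb H hw)
    simp only at f1 f2
    rcases h.cases_u hb hw1 with rfl | rfl | rfl | rfl <;> rcases h.cases_u hb hw2 with rfl | rfl | rfl | rfl <;>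
      simp [← conj_mul, hfix, hmove, t11, t22, t21, t1p, t2p, tp1, tp2, tpp, hb.n1, hb.n2, hb.n12,
        hb.n1.symm, hb.n2.symm, hb.n12.symm] at f1 f2 ⊢
  have hfour : Nat.card (h.img hb H) = 4 := by
    obtain ⟨a, ha⟩ := hR2 H
    rw [ha] at hR4 hR22 ⊢
    have : a ≤ 2 := (Nat.pow_le_pow_iff_right (by norm_num : 1 < 2)).mp (hR4 : 2 ^ a ≤ 2 ^ 2)
    interval_cases a <;> simp_all
  have heq : (h.img hb H : Set (S × S)) = ({((1 : S), (1 : S)), ((1 : S), b₁ ^ 2), (b₁ ^ 2, b₂ ^ 2),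
      (b₁ ^ 2, b₁ ^ 2 * b₂ ^ 2)} : Finset (S × S)) :=
    Set.eq_of_subset_of_ncard_le hsub (by
      rw [Set.ncard_coe_finset, ← Nat.card_coe_set_eq, SetLike.coe_sort_coe, hfour]; exact Finset.card_le_four)
      (Set.toFinite _)
  have m1 : ((1 : S), b₁ ^ 2) ∈ (h.img hb H : Set (S × S)) := by rw [heq]; simp
  have m2 : (b₁ ^ 2, b₂ ^ 2) ∈ (h.img hb H : Set (S × S)) := by rw [heq]; simp
  obtain ⟨s, hsH, hsT, hs1, hs2⟩ := Homo.mem_img.mp m1
  obtain ⟨i, -, hiT, hi1, hi2⟩ := Homo.mem_img.mp m2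
  have k := hred s hsH hsT (h.reducer hb hfix hsT hiT hs1 hs2 hi1 hi2)
  rw [hfour] at hH
  omega

/-- The action on `B` of order eight is not elementary of order eight. -/
theorem not_elementary_action (hS : IsPGroup 2 S) {B U : Subgroup S} [B.Normal] [U.Normal]
    (hBc : ∀ a ∈ B, ∀ b ∈ B, a * b = b * a) (hB4 : ∀ a ∈ B, a ^ 4 = 1)
    (hU : ∀ x, x ∈ U ↔ x ∈ B ∧ x ^ 2 = 1) (hU4 : Nat.card U = 4) (hB8 : Nat.card B = 8)
    (hidx : (centralizer (B : Set S)).index = 8)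
    (hcomm : ∀ g t : S, ⁅g, t⁆ ∈ centralizer (B : Set S)) : False := by
  have : Fact (Nat.Prime 2) := ⟨Nat.prime_two⟩
  set C := centralizer (B : Set S) with hC
  set T := centralizer (U : Set S) with hT
  have hUB : U ≤ B := fun x hx => ((hU x).mp hx).1
  obtain ⟨b, hbB, hbU⟩ := SetLike.exists_of_lt (lt_of_le_of_ne hUB fun e => by rw [e, hB8] at hU4; omega)
  have hBU : U ⊔ zpowers b = B := PGroup.eq_sup_zpowers_of_card (p := 2) hS hUB (by rw [hB8, hU4]) hbB hbU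
  have hCT : C ≤ T := centralizer_le (SetLike.coe_subset_coe.mpr hUB)
  have hsqU : ∀ x ∈ B, x ^ 2 ∈ U := fun x hx => (hU _).mpr ⟨pow_mem hx 2, by rw [← pow_mul]; exact hB4 x hx⟩
  have hk : ∀ t : T, ⁅(t : S), b⁆ ∈ U := fun t => by
    have hc : (t : S) * b * (t : S)⁻¹ ∈ B := Normal.conj_mem inferInstance b hbB _
    refine (hU _).mpr ⟨mul_mem hc (inv_mem hbB), ?_⟩
    rw [commutatorElement_def, Commute.mul_pow (hBc _ hc _ (inv_mem hbB)), conj_pow,
      ← mem_centralizer_iff.mp t.2 _ (hsqU b hbB), mul_inv_cancel_right, inv_pow, mul_inv_cancel]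
  let f : T →* S :=
    { toFun := fun t => ⁅(t : S), b⁆
      map_one' := commutatorElement_one_left b
      map_mul' := fun s t => by
        calc ⁅((s * t : T) : S), b⁆ = ((s : S) * ⁅(t : S), b⁆ * (s : S)⁻¹) * ⁅(s : S), b⁆ := by
              simp only [commutatorElement_def, Subgroup.coe_mul]; group
          _ = _ := by rw [← mem_centralizer_iff.mp s.2 _ (hk t), mul_inv_cancel_right,
                hBc _ (hUB (hk t)) _ (hUB (hk s))] }
  have hrange : f.range ≤ U := by rintro _ ⟨t, rfl⟩; exact hk t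
  have hker : f.ker = C.subgroupOf T := by
    ext t
    constructor
    · intro e
      refine mem_subgroupOf.mpr ?_
      have : B ≤ centralizer ({(t : S)} : Set S) := by
        rw [← hBU]
        refine sup_le (fun u hu => ?_) (zpowers_le.mpr ?_) <;> rw [mem_centralizer_singleton_iff]
        · exact mem_centralizer_iff.mp t.2 u hu
        · exact (commutatorElement_eq_one_iff_mul_comm.mp e).symm
      exact mem_centralizer_iff.mpr fun x hx => mem_centralizer_singleton_iff.mp (this hx)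
    · intro e
      exact commutatorElement_eq_one_iff_mul_comm.mpr (mem_centralizer_iff.mp (mem_subgroupOf.mp e) b hbB).symm
  -- indices
  have hTi : T.index ≤ 2 := by
    have := PGroup.index_centralizer_le (p := 2) hS 2 U inferInstance (by rw [hU4]; norm_num)
    simpa using this
  have hrel : C.relIndex T = Nat.card f.range := by
    rw [← index_ker f, hker]; rfl
  have hmul := relIndex_mul_index hCT
  rw [hidx, hrel] at hmul
  have hr4 : Nat.card f.range ≤ 4 := (card_le_of_le hrange).trans hU4.le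
  have hT2 : T.index = 2 := by
    have : T.index ≠ 0 := index_ne_zero_of_finite
    interval_cases hi : T.index <;> omega
  rw [hT2] at hmul
  have hrU : f.range = U := PGroup.eq_of_le_of_card_le hrange (by omega)
  obtain ⟨g, hg⟩ : ∃ g, g ∉ T := by
    by_contra hall
    push Not at hall
    rw [(eq_top_iff' T).mpr hall, index_top] at hT2
    omega
  obtain ⟨u, huU, hgu⟩ : ∃ u ∈ U, g * u * g⁻¹ ≠ u := by
    by_contra hall
    push Not at hall
    exact hg (mem_centralizer_iff.mpr fun v hv => (mul_inv_eq_iff_eq_mul.mp (hall v hv)).symm)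
  obtain ⟨t, ht⟩ : u ∈ f.range := hrU.symm ▸ huU
  -- `t` and its conjugate act equally
  have hc : ⁅g, (t : S)⁆ ∈ T := hCT (hcomm g t)
  have e1 : f ⟨⁅g, (t : S)⁆, hc⟩ = 1 := MonoidHom.mem_ker.mp (by rw [hker]; exact mem_subgroupOf.mpr (hcomm g t))
  have e2 : ⁅g * (t : S) * g⁻¹, b⁆ = u := by
    have := map_mul f ⟨⁅g, (t : S)⁆, hc⟩ t
    rw [e1, one_mul, ht] at this
    rw [← this]
    show _ = ⁅⁅g, (t : S)⁆ * (t : S), b⁆
    congr 1
    simp only [commutatorElement_def]; group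
  apply hgu
  conv_rhs => rw [← e2]
  -- move `g⁻¹ b g` into `b U`
  have hm : g⁻¹ * b * g ∈ B := by simpa using (Normal.conj_mem inferInstance b hbB g⁻¹ : g⁻¹ * b * g⁻¹⁻¹ ∈ B)
  have hmU : g⁻¹ * b * g ∉ U := fun hh => hbU (by
    have := Normal.conj_mem (H := U) inferInstance _ hh g
    rwa [show g * (g⁻¹ * b * g) * g⁻¹ = b by group] at this)
  have hw : b⁻¹ * (g⁻¹ * b * g) ∈ U := by
    have hidx2 : (U.subgroupOf B).index = 2 := by
      have := (U.subgroupOf B).card_mul_index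
      rw [hB8, Cores.card_subgroupOf hUB, hU4] at this
      omega
    exact (mul_mem_iff_of_index_two hidx2 (a := ⟨b⁻¹, inv_mem hbB⟩) (b := ⟨g⁻¹ * b * g, hm⟩)).mpr
      (iff_of_false (fun hh => hbU (inv_mem_iff.mp (mem_subgroupOf.mp hh))) hmU)
  have ht' : ⁅(t : S), b⁻¹ * (g⁻¹ * b * g)⁆ = 1 :=
    commutatorElement_eq_one_iff_mul_comm.mpr (mem_centralizer_iff.mp t.2 _ hw).symm
  have htb : f t = ⁅(t : S), b⁆ := rfl
  rw [← ht, htb]
  have e3 : ⁅(t : S), g⁻¹ * b * g⁆ = ⁅(t : S), b⁆ := by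
    calc ⁅(t : S), g⁻¹ * b * g⁆ = ⁅(t : S), b⁆ * (b * ⁅(t : S), b⁻¹ * (g⁻¹ * b * g)⁆ * b⁻¹) := by
          simp only [commutatorElement_def]; group
      _ = _ := by rw [ht']; group
  rw [← e3]; simp only [commutatorElement_def]; group

/-- The four generator theorem. -/
theorem sectionalPRankLE_of_no_normal_eight (hS : IsPGroup 2 S)
    (hno : ∀ A : Subgroup S, A.Normal → (∀ a ∈ A, ∀ b ∈ A, a * b = b * a) → (∀ a ∈ A, a ^ 2 = 1) →
      Nat.card A ≤ 4) : Cfsg.SectionalPRankLE 2 4 S := by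
  classical
  have : Fact (Nat.Prime 2) := ⟨Nat.prime_two⟩
  refine sectionalPRankLE_of fun H N hNH hsq => ?_
  obtain ⟨B, -, hmax⟩ := Finite.exists_le_maximal (α := Subgroup S)
    (p := fun A => A.Normal ∧ (∀ a ∈ A, ∀ b ∈ A, a * b = b * a) ∧ (∀ a ∈ A, a ^ 4 = 1))
    (a := ⊥) ⟨inferInstance, by simp, by simp⟩
  obtain ⟨hBn, hBc, hB4⟩ := hmax.prop
  haveI := hBn
  let U : Subgroup S :=
    { carrier := {x | x ∈ B ∧ x ^ 2 = 1}
      one_mem' := ⟨one_mem B, one_pow 2⟩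
      mul_mem' := fun {a b} ha hb =>
        ⟨mul_mem ha.1 hb.1, by rw [Commute.mul_pow (hBc a ha.1 b hb.1), ha.2, hb.2, one_mul]⟩
      inv_mem' := fun {a} ha => ⟨inv_mem ha.1, by rw [inv_pow, ha.2, inv_one]⟩ }
  have hU : ∀ x, x ∈ U ↔ x ∈ B ∧ x ^ 2 = 1 := fun x => Iff.rfl
  haveI hUn : U.Normal := ⟨fun x hx g => (hU _).mpr ⟨hBn.conj_mem x hx.1 g, by rw [conj_pow, hx.2]; group⟩⟩
  have hU4 : Nat.card U ≤ 4 := hno U hUn (fun a ha b hb => hBc a ha.1 b hb.1) fun a ha => ha.2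
  have hbig : ∀ x ∈ centralizer (B : Set S), x ^ 4 = 1 → x ∈ B := fun x hx h4 =>
    PGroup.mem_of_maximal_normal_exponent (p := 2) hS 2 (by norm_num) hBc (fun a ha => by simpa using hB4 a ha)
      (fun A h1 h2 h3 hle => le_antisymm (hmax.2 ⟨h1, h2, fun a ha => by simpa using h3 a ha⟩ hle) hle) hx
      (by simpa using h4)
  set C := centralizer (B : Set S)
  have hcC : Omega2Central C := fun x hx h4 _ hy => ((mem_centralizer_iff.mp hy) x (hbig x hx h4)).symm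
  have hk : Nat.card (H ⊓ C : Subgroup S) ≤ Nat.card U * Nat.card (N ⊓ C : Subgroup S) := by
    have hc : Omega2Central (H ⊓ C) := fun x hx h4 y hy => hcC x hx.2 h4 y hy.2
    refine (hc.card_le hS fun x hx h2 => (hU x).mpr
      ⟨hbig x hx.2 (by rw [show 4 = 2 * 2 from rfl, pow_mul, h2, one_pow]), h2⟩).trans ?_
    exact Nat.mul_le_mul_left _ (card_le_of_le (sq_le_iff.mpr fun x hx => ⟨hsq x hx.1, pow_mem hx.2 2⟩))
  have hHi : Nat.card H ≤ C.index * Nat.card (H ⊓ C : Subgroup S) := by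
    have h1 := (C.subgroupOf H).card_mul_index
    rw [show Nat.card (C.subgroupOf H) = Nat.card (H ⊓ C : Subgroup S) by
      rw [← card_map_of_injective (K := C.subgroupOf H) H.subtype_injective, subgroupOf_map_subtype, inf_comm]] at h1
    rw [← h1, mul_comm]
    exact Nat.mul_le_mul_right _ (Nat.le_of_dvd (Nat.pos_of_ne_zero index_ne_zero_of_finite)
      (relIndex_dvd_index_of_normal C H))
  have hsmall : C.index * Nat.card U ≤ 16 → Nat.card H ≤ 2 ^ 4 * Nat.card N := fun h16 => by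
    calc Nat.card H ≤ C.index * (Nat.card U * Nat.card (N ⊓ C : Subgroup S)) :=
          hHi.trans (Nat.mul_le_mul_left _ hk)
      _ ≤ C.index * (Nat.card U * Nat.card N) := Nat.mul_le_mul_left _ (Nat.mul_le_mul_left _ (card_le_of_le inf_le_left))
      _ ≤ _ := by rw [← mul_assoc]; exact Nat.mul_le_mul_right _ (h16.trans (by norm_num))
  -- squaring on `B`
  let sB : B →* S :=
    { toFun := fun x => (x : S) ^ 2
      map_one' := by simp
      map_mul' := fun x y => by rw [Subgroup.coe_mul]; exact Commute.mul_pow (hBc x x.2 y y.2) 2 }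
  have hsrange : sB.range ≤ U := by
    rintro _ ⟨x, rfl⟩
    exact (hU _).mpr ⟨pow_mem x.2 2, by show ((x : S) ^ 2) ^ 2 = 1; rw [← pow_mul]; exact hB4 x x.2⟩
  have hUB : U ≤ B := fun x hx => hx.1
  have hBcard : Nat.card B = Nat.card U * Nat.card sB.range := by
    rw [← sB.ker.card_mul_index, index_ker]
    congr 1
    rw [← Cores.card_subgroupOf hUB]
    congr 2
    ext x
    exact ⟨fun e => mem_subgroupOf.mpr ((hU _).mpr ⟨x.2, e⟩), fun e => ((hU _).mp (mem_subgroupOf.mp e)).2⟩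
  obtain ⟨a, ha⟩ := IsPGroup.iff_card.mp (hS.to_subgroup U)
  obtain ⟨c, hc⟩ := IsPGroup.iff_card.mp (hS.to_subgroup sB.range)
  have hca : c ≤ a := by
    have := card_le_of_le hsrange
    rw [hc, ha] at this
    exact (Nat.pow_le_pow_iff_right (by norm_num : 1 < 2)).mp this
  have ha2 : a ≤ 2 := by
    rw [ha] at hU4
    exact (Nat.pow_le_pow_iff_right (by norm_num : 1 < 2)).mp (hU4 : 2 ^ a ≤ 2 ^ 2)
  have hCi : C.index ≤ 2 ^ ((a + c) * (a + c - 1) / 2) :=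
    PGroup.index_centralizer_le (p := 2) hS (a + c) B inferInstance (by rw [hBcard, ha, hc, pow_add])
  obtain ⟨a', ha'⟩ := IsPGroup.iff_card.mp (hS.to_quotient C)
  interval_cases a
  · interval_cases c
    exact hsmall (by rw [ha]; simp at hCi ⊢; omega)
  · interval_cases c
    · exact hsmall (by rw [ha]; simp at hCi ⊢; omega)
    · exact hsmall (by rw [ha]; simp at hCi ⊢; omega)
  interval_cases c
  · exact hsmall (by rw [ha]; simp at hCi ⊢; omega)
  · -- `|B| = 8`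
    have hB8 : Nat.card B = 8 := by rw [hBcard, ha, hc]; norm_num
    have hCi8 : C.index ≤ 8 := by simpa using hCi
    by_cases hC4 : C.index ≤ 4
    · exact hsmall (by rw [ha]; omega)
    rw [← index_eq_card] at ha'
    have hC8 : C.index = 8 := by
      have : a' ≤ 3 := by
        rw [ha'] at hCi8
        exact (Nat.pow_le_pow_iff_right (by norm_num : 1 < 2)).mp (hCi8 : 2 ^ a' ≤ 2 ^ 3)
      rw [ha'] at hC4 ⊢
      interval_cases a' <;> first | rfl | exact absurd (by norm_num) hC4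
    set π := QuotientGroup.mk' C
    have hkerπ : π.ker = C := QuotientGroup.ker_mk' C
    have hQ : Nat.card (S ⧸ C) = 8 := (index_eq_card C).symm.trans hC8
    have hHπ : Nat.card (H.map π) ≤ 8 := (Subgroup.card_le_card_group _).trans hQ.le
    have hk' : Nat.card (H ⊓ π.ker : Subgroup S) ≤ 4 * Nat.card (N ⊓ π.ker : Subgroup S) := by
      rw [hkerπ]; rwa [ha] at hk
    by_cases hcase : Nat.card (H.map π) ≤ 4 * Nat.card (N.map π)
    · exact (card_le_parts (i := 4) (k := 4) π hcase hk').trans (le_of_eq (by norm_num))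
    exfalso
    have hNpos : 1 ≤ Nat.card (N.map π) := Nat.card_pos
    obtain ⟨i, hi⟩ := IsPGroup.iff_card.mp ((hS.to_quotient C).to_subgroup (H.map π))
    obtain ⟨j, hj⟩ := IsPGroup.iff_card.mp ((hS.to_quotient C).to_subgroup (N.map π))
    have hi3 : i ≤ 3 := by
      rw [hi] at hHπ
      exact (Nat.pow_le_pow_iff_right (by norm_num : 1 < 2)).mp (hHπ : 2 ^ i ≤ 2 ^ 3)
    rw [hi, hj] at hcase
    have hj0 : j = 0 := by
      by_contra hne
      exact hcase ((Nat.pow_le_pow_right (by norm_num) hi3 : 2 ^ i ≤ 2 ^ 3).trans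
        (Nat.mul_le_mul_left 4 (Nat.pow_le_pow_right (by norm_num) (show 1 ≤ j by omega) : 2 ^ 1 ≤ 2 ^ j)))
    have hNbot : N.map π = ⊥ := eq_bot_of_card_eq _ (by rw [hj, hj0, pow_zero])
    have hHtop : H.map π = ⊤ := by
      refine PGroup.eq_of_le_of_card_le le_top ?_
      rw [card_top, hQ, hi]
      rw [hj0, pow_zero, mul_one] at hcase
      interval_cases i <;> first | (norm_num; done) | exact absurd (by norm_num) hcase
    refine not_elementary_action hS hBc hB4 hU (by rw [ha]; norm_num) hB8 hC8 fun g t => ?_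
    obtain ⟨g', hg', eg⟩ : π g ∈ H.map π := hHtop ▸ mem_top _
    obtain ⟨t', ht', et⟩ : π t ∈ H.map π := hHtop ▸ mem_top _
    show ⁅g, t⁆ ∈ C
    rw [← hkerπ, MonoidHom.mem_ker, map_commutatorElement, ← eg, ← et, ← map_commutatorElement]
    have : π ⁅g', t'⁆ ∈ N.map π := mem_map_of_mem π (commutator_mem_of_sq hsq hg' ht')
    rwa [hNbot, mem_bot] at this
  · have hU4' : Nat.card U = 4 := by rw [ha]; norm_num
    refine Homo.card_le ⟨hS, hBn, hBc, hB4, hU, hU4', hbig, hno⟩ ?_ H N hNH hsq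
    intro u hu
    have : sB.range = U := PGroup.eq_of_le_of_card_le hsrange (by rw [hc, ha])
    obtain ⟨x, rfl⟩ := this.ge hu
    exact ⟨x, x.2, rfl⟩

end Cfsg.Agent.Sectional
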