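import Cfsg.Agent.Lib.Sectional.Basic
import Cfsg.Agent.Lib.PGroup.NormalAbelian
/-!
# Action on small normal elementary abelian subgroups (helper5)

* `commHom`, `card_image_mul`, `card_le_mul_of_commutator`, `fixed_of_involution`, `card_le_sq_fixed`
* `pow_four_centralizes`: on a normal `2^4` every fourth power acts trivially
* `small_of_selfCentralizing_four`: exponent four and a self-centralizing subgroup of order four
* `not_abelian_action`: `S / C(V)` is not abelian of order eight for a normal `2^3`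
-/

set_option autoImplicit false
set_option linter.style.haveILetI false
set_option linter.unusedSectionVars false

open Subgroup
open scoped commutatorElement

namespace Cfsg.Agent.Sectional

variable {S : Type*} [Group S] [Finite S] {V : Subgroup S}

/-- Commutation with `x` on an abelian normal subgroup. -/
def commHom (hVn : V.Normal) (hVc : ∀ a ∈ V, ∀ b ∈ V, a * b = b * a) (x : S) : V →* S where
  toFun v := ⁅x, (v : S)⁆
  map_one' := commutatorElement_one_right x
  map_mul' v w := by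
    have hw : ⁅x, (w : S)⁆ ∈ V := mul_mem (hVn.conj_mem _ w.2 x) (inv_mem w.2)
    calc ⁅x, ((v * w : V) : S)⁆ = ⁅x, (v : S)⁆ * ((v : S) * ⁅x, (w : S)⁆ * (v : S)⁻¹) := by
          simp only [commutatorElement_def, Subgroup.coe_mul]; group
      _ = _ := by rw [hVc _ v.2 _ hw, mul_inv_cancel_right]

/-- The image of `X` under commutation with `x`. -/
def commImage (hVn : V.Normal) (hVc : ∀ a ∈ V, ∀ b ∈ V, a * b = b * a) (x : S) (X : Subgroup S) :
    Subgroup S :=
  (X.subgroupOf V).map (commHom hVn hVc x)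

theorem mem_commImage {hVn : V.Normal} {hVc : ∀ a ∈ V, ∀ b ∈ V, a * b = b * a} {x : S} {X : Subgroup S}
    (hX : X ≤ V) {w : S} : w ∈ commImage hVn hVc x X ↔ ∃ v ∈ X, ⁅x, v⁆ = w := by
  constructor
  · rintro ⟨v, hv, rfl⟩; exact ⟨v, hv, rfl⟩
  · rintro ⟨v, hv, rfl⟩; exact ⟨⟨v, hX hv⟩, hv, rfl⟩

theorem card_image_mul (hVn : V.Normal) (hVc : ∀ a ∈ V, ∀ b ∈ V, a * b = b * a) (x : S) {X : Subgroup S}
    (hX : X ≤ V) :
    Nat.card (commImage hVn hVc x X) * Nat.card (X ⊓ centralizer ({x} : Set S) : Subgroup S) = Nat.card X := by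
  have e := card_eq_map_mul (commHom hVn hVc x) (X.subgroupOf V)
  rw [Cores.card_subgroupOf hX] at e
  rw [← e]
  congr 1
  rw [← card_map_of_injective (K := X.subgroupOf V ⊓ (commHom hVn hVc x).ker) V.subtype_injective]
  congr 2
  ext w
  constructor
  · rintro ⟨hwX, hwc⟩
    exact ⟨⟨w, hX hwX⟩, ⟨hwX, commutatorElement_eq_one_iff_mul_comm.mpr
      (mem_centralizer_singleton_iff.mp hwc).symm⟩, rfl⟩
  · rintro ⟨v, ⟨hv, hk⟩, rfl⟩
    exact ⟨hv, mem_centralizer_singleton_iff.mpr (commutatorElement_eq_one_iff_mul_comm.mp hk).symm⟩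

theorem card_le_mul_of_commutator (hVn : V.Normal) (hVc : ∀ a ∈ V, ∀ b ∈ V, a * b = b * a) (x : S)
    {X M : Subgroup S} (hX : X ≤ V) (hM : ∀ v ∈ X, ⁅x, v⁆ ∈ M) :
    Nat.card X ≤ Nat.card M * Nat.card (X ⊓ centralizer ({x} : Set S) : Subgroup S) := by
  rw [← card_image_mul hVn hVc x hX]
  refine Nat.mul_le_mul_right _ (card_le_of_le fun w hw => ?_)
  obtain ⟨v, hv, rfl⟩ := (mem_commImage hX).mp hw
  exact hM v hv

theorem fixed_of_involution (hVn : V.Normal) (hV2 : ∀ a ∈ V, a ^ 2 = 1) {x : S} (hx : x ^ 2 = 1) {v : S}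
    (hv : v ∈ V) : ⁅x, v⁆ * x = x * ⁅x, v⁆ := by
  have hw : ⁅x, v⁆ ∈ V := mul_mem (hVn.conj_mem v hv x) (inv_mem hv)
  have hinv : ⁅x, v⁆⁻¹ = ⁅x, v⁆ := inv_eq_of_mul_eq_one_right (by rw [← pow_two]; exact hV2 _ hw)
  have hxi : x⁻¹ = x := inv_eq_of_mul_eq_one_right (by rw [← pow_two, hx])
  nth_rewrite 1 [← hinv]
  simp only [commutatorElement_def, mul_inv_rev, inv_inv, hxi]
  calc v * (x * (v⁻¹ * x)) * x = v * x * v⁻¹ * (x * x) := by group
    _ = x * (x * v * x * v⁻¹) := by
        rw [← pow_two, hx, mul_one]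
        have hvi : v⁻¹ = v := inv_eq_of_mul_eq_one_right (by rw [← pow_two]; exact hV2 v hv)
        have h2 : (x * v * x) * v = v * (x * v * x) := by
          have hc : x * v * x ∈ V := by
            have := hVn.conj_mem v hv x
            rwa [hxi] at this
          have hcomm : ∀ a ∈ V, ∀ b ∈ V, a * b = b * a := fun a ha b hb => by
            have hab := hV2 _ (mul_mem ha hb)
            have ha' : a⁻¹ = a := inv_eq_of_mul_eq_one_right (by rw [← pow_two]; exact hV2 a ha)
            have hb' : b⁻¹ = b := inv_eq_of_mul_eq_one_right (by rw [← pow_two]; exact hV2 b hb)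
            have := inv_eq_of_mul_eq_one_right (by rw [← pow_two]; exact hab : (a * b) * (a * b) = 1)
            rw [mul_inv_rev, ha', hb'] at this
            exact this.symm
          exact hcomm _ hc _ hv
        rw [hvi]
        calc v * x * v = (x * x) * (v * x * v) := by rw [← pow_two, hx, one_mul]
          _ = x * ((x * v * x) * v) := by group
          _ = x * (x * v * x * v) := by group

theorem card_le_sq_fixed (hVn : V.Normal) (hVc : ∀ a ∈ V, ∀ b ∈ V, a * b = b * a) (hV2 : ∀ a ∈ V, a ^ 2 = 1)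
    {x : S} (hx : x ^ 2 = 1) {X : Subgroup S} (hX : X ≤ V) (hinv : ∀ v ∈ X, ⁅x, v⁆ ∈ X) :
    Nat.card X ≤ Nat.card (X ⊓ centralizer ({x} : Set S) : Subgroup S) *
      Nat.card (X ⊓ centralizer ({x} : Set S) : Subgroup S) :=
  card_le_mul_of_commutator hVn hVc x hX fun v hv =>
    ⟨hinv v hv, mem_centralizer_singleton_iff.mpr (fixed_of_involution hVn hV2 hx (hX hv))⟩

theorem commutator_sq_left (hVn : V.Normal) (hV2 : ∀ a ∈ V, a ^ 2 = 1) (x : S) {v : S} (hv : v ∈ V) :
    ⁅x ^ 2, v⁆ = ⁅x, ⁅x, v⁆⁆ := by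
  have hw : ⁅x, v⁆ ∈ V := mul_mem (hVn.conj_mem v hv x) (inv_mem hv)
  calc ⁅x ^ 2, v⁆ = ⁅x, ⁅x, v⁆⁆ * ⁅x, v⁆ ^ 2 := by simp only [commutatorElement_def, pow_two]; group
    _ = _ := by rw [hV2 _ hw, mul_one]

theorem iterate_commutator_eq_one (hS : IsPGroup 2 S) (x : S) :
    ∀ (a : ℕ) (M : Subgroup S), M.Normal → Nat.card M = 2 ^ a → ∀ v ∈ M, (fun w => ⁅x, w⁆)^[a] v = 1 := by
  intro a
  induction a with
  | zero =>
    intro M _ hM v hv
    rw [eq_bot_of_card_eq M (by simpa using hM), mem_bot] at hv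
    exact hv
  | succ a ih =>
    intro M hMn hM v hv
    haveI := hMn
    obtain ⟨M', hM'n, hle, hM'⟩ := PGroup.exists_normal_le_card (p := 2) hS hM a (Nat.le_succ a)
    haveI := hM'n
    have hlt : M' < M := lt_of_le_of_ne hle fun e => by
      rw [e, hM, pow_succ] at hM'
      have := Nat.one_le_two_pow (n := a)
      omega
    rw [Function.iterate_succ_apply]
    exact ih M' hM'n hM' _ (PGroup.commutator_mem_of_card (p := 2) hS hlt (by rw [hM, hM', pow_succ']) hv x)

theorem pow_four_centralizes (hS : IsPGroup 2 S) (hVn : V.Normal) (hV2 : ∀ a ∈ V, a ^ 2 = 1)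
    (hV : Nat.card V ≤ 16) (x : S) : x ^ 4 ∈ centralizer (V : Set S) := by
  refine mem_centralizer_iff.mpr fun v hv => ?_
  obtain ⟨a, ha⟩ := IsPGroup.iff_card.mp (hS.to_subgroup V)
  have ha4 : a ≤ 4 := by
    rw [ha] at hV
    exact (Nat.pow_le_pow_iff_right (by norm_num : 1 < 2)).mp (hV : 2 ^ a ≤ 2 ^ 4)
  have h4 : (fun w => ⁅x, w⁆)^[4] v = 1 := by
    rw [show 4 = (4 - a) + a by omega, Function.iterate_add_apply, iterate_commutator_eq_one hS x a V hVn ha v hv]
    exact Function.iterate_fixed (commutatorElement_one_right x) _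
  have hw : ⁅x, v⁆ ∈ V := mul_mem (hVn.conj_mem v hv x) (inv_mem hv)
  have hw2 : ⁅x, ⁅x, v⁆⁆ ∈ V := mul_mem (hVn.conj_mem _ hw x) (inv_mem hw)
  have e : ⁅(x ^ 2) ^ 2, v⁆ = 1 := by
    rw [commutator_sq_left hVn hV2 (x ^ 2) hv, commutator_sq_left hVn hV2 x hv, commutator_sq_left hVn hV2 x hw2]
    exact h4
  rw [← pow_mul] at e
  exact (commutatorElement_eq_one_iff_mul_comm.mp e).symm

/-- A group of exponent four with a self-centralizing subgroup of order four has order at most eight,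
and is not abelian if it has order eight. -/
theorem small_of_selfCentralizing_four {P : Type*} [Group P] [Finite P] (hP : IsPGroup 2 P)
    (h4 : ∀ x : P, x ^ 4 = 1) (D : Subgroup P) (hD : Nat.card D = 4)
    (hC : centralizer (D : Set P) ≤ D) :
    Nat.card P ≤ 8 ∧ (Nat.card P = 8 → ∃ g h : P, g * h ≠ h * g) := by
  have : Fact (Nat.Prime 2) := ⟨Nat.prime_two⟩
  have hnc : 8 ≤ Nat.card P → ∃ g h : P, g * h ≠ h * g := by
    intro h8
    by_contra hc
    push Not at hc
    have htop : centralizer (D : Set P) = ⊤ := (eq_top_iff' _).mpr fun g => mem_centralizer_iff.mpr fun d _ => hc d g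
    have := card_le_of_le (htop ▸ hC : (⊤ : Subgroup P) ≤ D)
    rw [card_top, hD] at this
    omega
  refine ⟨?_, fun h8 => hnc h8.ge⟩
  by_contra hlt
  push Not at hlt
  obtain ⟨n, hn⟩ := IsPGroup.iff_card.mp hP
  have hn4 : 4 ≤ n := by
    by_contra h
    rw [hn] at hlt
    have := Nat.pow_le_pow_right (show 0 < 2 by norm_num) (show n ≤ 3 by omega)
    omega
  obtain ⟨R1, hR1, hDR1⟩ := Sylow.exists_subgroup_card_pow_succ (p := 2) (n := 2)
    (hn ▸ pow_dvd_pow 2 (show 3 ≤ n by omega)) (H := D) (by rw [hD]; norm_num)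
  obtain ⟨R, hR, hR1R⟩ := Sylow.exists_subgroup_card_pow_succ (p := 2) (n := 3)
    (hn ▸ pow_dvd_pow 2 (show 4 ≤ n by omega)) (H := R1) hR1
  have hDR := hDR1.trans hR1R
  have hR16 : Nat.card R = 16 := by rw [hR]; norm_num
  have hRp : IsPGroup 2 R := hP.to_subgroup R
  haveI : Nontrivial R := Finite.one_lt_card_iff_nontrivial.mp (by omega)
  set D' := D.subgroupOf R
  have hD' : Nat.card D' = 4 := by rw [Cores.card_subgroupOf hDR, hD]
  have hC' : centralizer (D' : Set R) ≤ D' := fun x hx => mem_subgroupOf.mpr (hC (mem_centralizer_iff.mpr fun d hd =>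
    congrArg Subtype.val (mem_centralizer_iff.mp hx ⟨d, hDR hd⟩ hd)))
  set Z := center R
  have hZD : Z ≤ D' := fun z hz => hC' (mem_centralizer_iff.mpr fun d _ => mem_center_iff.mp hz d)
  have hDn : ¬ D'.Normal := by
    intro hn'
    have h1 := PGroup.index_centralizer_le (p := 2) hRp 2 D' hn' (by rw [hD']; norm_num)
    have h2 := (centralizer (D' : Set R)).card_mul_index
    have h3 := Nat.mul_le_mul (card_le_of_le hC') h1
    rw [h2, hR16, hD'] at h3
    norm_num at h3
  haveI := hRp.center_nontrivial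
  have hZ2 : Nat.card Z = 2 := by
    obtain ⟨k, hk⟩ := IsPGroup.iff_card.mp (hRp.to_subgroup Z)
    have h1 : 1 < Nat.card Z := Finite.one_lt_card
    have h2 := card_le_of_le hZD
    have h3 : Nat.card Z ≠ 4 := fun e => hDn (by
      rw [← PGroup.eq_of_le_of_card_le hZD (by rw [hD', e])]; exact inferInstanceAs (center R).Normal)
    rw [hD', hk] at h2
    rw [hk] at h1 h3 ⊢
    have : k ≤ 2 := (Nat.pow_le_pow_iff_right (by norm_num : 1 < 2)).mp (h2 : 2 ^ k ≤ 2 ^ 2)
    interval_cases k <;> simp_all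
  -- an element whose square is not central
  obtain ⟨x, hx⟩ : ∃ x : R, x ^ 2 ∉ Z := by
    by_contra hc
    push Not at hc
    refine hDn ⟨fun d hd g => ?_⟩
    have := commutator_mem_of_sq (H := (⊤ : Subgroup R)) (N := Z) (fun r _ => hc r) (mem_top g) (mem_top d)
    have h2 := mul_mem (hZD this) hd
    rwa [commutatorElement_def, inv_mul_cancel_right] at h2
  have hx4 : x ^ 4 = 1 := Subtype.ext (by simpa using h4 (x : P))
  have hZc : ∀ z ∈ Z, ∀ g : R, g * z = z * g := fun z hz g => mem_center_iff.mp hz g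
  set Q := zpowers x ⊔ Z
  have hox : orderOf x = 4 := by
    refine (orderOf_eq_prime_pow (p := 2) (n := 1) ?_ ?_).trans (by norm_num)
    · rw [pow_one]; exact fun e => hx (e ▸ one_mem Z)
    · exact hx4
  have hinf : zpowers x ⊓ Z = ⊥ := by
    rw [eq_bot_iff]
    rintro y ⟨⟨j, rfl⟩, hy⟩
    rw [mem_bot]
    have hy' : x ^ j ∈ Z := hy
    show x ^ j = 1
    rw [← zpow_mod_orderOf, hox] at hy' ⊢
    have h0 := Int.emod_nonneg j (show (4 : ℤ) ≠ 0 by norm_num)
    have h1 := Int.emod_lt_of_pos j (show (0 : ℤ) < 4 by norm_num)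
    push_cast at hy' ⊢
    interval_cases hj : (j % 4)
    · simp
    · rw [zpow_one] at hy'; exact absurd (pow_mem hy' 2) hx
    · exact absurd (by exact_mod_cast hy') hx
    · refine absurd ?_ hx
      have := pow_mem hy' 2
      rwa [← zpow_natCast, ← zpow_mul, show (3 : ℤ) * ((2 : ℕ) : ℤ) = (4 : ℕ) + (2 : ℕ) by norm_num,
        zpow_add, zpow_natCast, zpow_natCast, hx4, one_mul] at this
  have hQ8 : Nat.card Q = 8 := by
    have hcompl := Nat.card_congr (Equiv.Set.univ ↥Q).symm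
    have h := card_eq_map_mul (QuotientGroup.mk' Z) Q
    have h' := card_eq_map_mul (QuotientGroup.mk' Z) (zpowers x)
    rw [QuotientGroup.ker_mk'] at h h'
    rw [hinf, card_bot, mul_one, Nat.card_zpowers, hox] at h'
    rw [inf_eq_right.mpr (le_sup_right : Z ≤ Q), hZ2, Subgroup.map_sup,
      (map_eq_bot_iff Z).mpr (by rw [QuotientGroup.ker_mk']), sup_bot_eq, h'] at h
    exact h.symm
  haveI hQn : Q.Normal := normal_of_index_eq_two (by
    have := Q.card_mul_index
    rw [hQ8, hR16] at this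
    omega)
  have hsqQ : ∀ q ∈ Q, q ^ 2 = 1 ∨ q ^ 2 = x ^ 2 := by
    intro q hq
    obtain ⟨w, ⟨j, rfl⟩, z, hz, rfl⟩ := mem_sup_of_normal_right.mp hq
    show (x ^ j * z) ^ 2 = 1 ∨ _
    have hz2 : z ^ 2 = 1 := by
      have : orderOf (⟨z, hz⟩ : Z) ∣ 2 := hZ2 ▸ orderOf_dvd_natCard _
      simpa using congrArg Subtype.val (orderOf_dvd_iff_pow_eq_one.mp this)
    rw [Commute.mul_pow (hZc z hz (x ^ j)), hz2, mul_one, ← zpow_natCast, ← zpow_mul, mul_comm, zpow_mul,
      zpow_natCast]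
    rcases Int.even_or_odd j with ⟨i, rfl⟩ | ⟨i, rfl⟩
    · left
      rw [← two_mul, zpow_mul, show ((x ^ 2) ^ (2 : ℤ)) = x ^ 4 by
        rw [show (2 : ℤ) = ((2 : ℕ) : ℤ) from rfl, zpow_natCast, ← pow_mul], hx4, one_zpow]
    · right
      rw [zpow_add, zpow_mul, show ((x ^ 2) ^ (2 : ℤ)) = x ^ 4 by
        rw [show (2 : ℤ) = ((2 : ℕ) : ℤ) from rfl, zpow_natCast, ← pow_mul], hx4, one_zpow, one_mul, zpow_one]
  refine hx (mem_center_iff.mpr fun g => ?_)
  rcases hsqQ _ (hQn.conj_mem x (mem_sup_left (mem_zpowers x)) g) with e | e <;> rw [conj_pow] at e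
  · exact absurd (show x ^ 2 = 1 by rw [show x ^ 2 = g⁻¹ * (g * x ^ 2 * g⁻¹) * g by group, e]; group)
      fun e' => hx (e' ▸ one_mem Z)
  · exact mul_inv_eq_iff_eq_mul.mp e

/-- For a normal `2^3` the group induced on it is not abelian of order eight. -/
theorem not_abelian_action (hS : IsPGroup 2 S) [V.Normal] (hVc : ∀ a ∈ V, ∀ b ∈ V, a * b = b * a)
    (hV8 : Nat.card V = 8) (hidx : (centralizer (V : Set S)).index = 8)
    (hcomm : ∀ g t : S, ⁅g, t⁆ ∈ centralizer (V : Set S)) : False := by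
  have : Fact (Nat.Prime 2) := ⟨Nat.prime_two⟩
  obtain ⟨U, hUn, hUV, hU4⟩ := PGroup.exists_normal_le_card (p := 2) hS (show Nat.card V = 2 ^ 3 by rw [hV8]; norm_num) 2 (by norm_num)
  haveI := hUn
  have hU4' : Nat.card U = 4 := by rw [hU4]; norm_num
  set C := centralizer (V : Set S) with hC
  set T := centralizer (U : Set S) with hT
  have hlt : U < V := lt_of_le_of_ne hUV fun e => by rw [e, hV8] at hU4'; omega
  obtain ⟨b, hbV, hbU⟩ := SetLike.exists_of_lt hlt
  have hBU : U ⊔ zpowers b = V := PGroup.eq_sup_zpowers_of_card (p := 2) hS hUV (by rw [hV8, hU4']) hbV hbU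
  have hCT : C ≤ T := centralizer_le (SetLike.coe_subset_coe.mpr hUV)
  have hk : ∀ (t : S) (x : S), x ∈ V → ⁅t, x⁆ ∈ U := fun t x hx =>
    PGroup.commutator_mem_of_card (p := 2) hS hlt (by rw [hV8, hU4']) hx t
  let f : T →* S :=
    { toFun := fun t => ⁅(t : S), b⁆
      map_one' := commutatorElement_one_left b
      map_mul' := fun s t => by
        calc ⁅((s * t : T) : S), b⁆ = ((s : S) * ⁅(t : S), b⁆ * (s : S)⁻¹) * ⁅(s : S), b⁆ := by
              simp only [commutatorElement_def, Subgroup.coe_mul]; group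
          _ = _ := by rw [← mem_centralizer_iff.mp s.2 _ (hk t b hbV), mul_inv_cancel_right,
                hVc _ (hUV (hk t b hbV)) _ (hUV (hk s b hbV))] }
  have hrange : f.range ≤ U := by rintro _ ⟨t, rfl⟩; exact hk t b hbV
  have hker : f.ker = C.subgroupOf T := by
    ext t
    constructor
    · intro e
      have : V ≤ centralizer ({(t : S)} : Set S) := by
        rw [← hBU]
        refine sup_le (fun u hu => ?_) (zpowers_le.mpr ?_) <;> rw [mem_centralizer_singleton_iff]
        · exact mem_centralizer_iff.mp t.2 u hu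
        · exact (commutatorElement_eq_one_iff_mul_comm.mp e).symm
      exact mem_subgroupOf.mpr (mem_centralizer_iff.mpr fun x hx => mem_centralizer_singleton_iff.mp (this hx))
    · intro e
      exact commutatorElement_eq_one_iff_mul_comm.mpr (mem_centralizer_iff.mp (mem_subgroupOf.mp e) b hbV).symm
  have hTi : T.index ≤ 2 := by
    have := PGroup.index_centralizer_le (p := 2) hS 2 U inferInstance hU4
    simpa using this
  have hrel : C.relIndex T = Nat.card f.range := by
    rw [← index_ker f, hker]; rfl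
  have hmul := relIndex_mul_index hCT
  rw [hidx, hrel] at hmul
  have hr4 : Nat.card f.range ≤ 4 := (card_le_of_le hrange).trans hU4'.le
  have hT2 : T.index = 2 := by
    have : T.index ≠ 0 := index_ne_zero_of_finite
    interval_cases hi : T.index <;> omega
  rw [hT2] at hmul
  have hrU : f.range = U := PGroup.eq_of_le_of_card_le hrange (by omega)
  obtain ⟨g, hg⟩ : ∃ g, g ∉ T := by
    by_contra hall
    push Not at hall
    rw [(eq_top_iff' T).mpr hall, index_top] at hT2
    omega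
  obtain ⟨u, huU, hgu⟩ : ∃ u ∈ U, g * u * g⁻¹ ≠ u := by
    by_contra hall
    push Not at hall
    exact hg (mem_centralizer_iff.mpr fun v hv => (mul_inv_eq_iff_eq_mul.mp (hall v hv)).symm)
  obtain ⟨t, ht⟩ : u ∈ f.range := hrU.symm ▸ huU
  have htb : ⁅(t : S), b⁆ = u := ht
  set c := ⁅g, (t : S)⁆ with hc
  have hcb : ⁅c, b⁆ = 1 :=
    commutatorElement_eq_one_iff_mul_comm.mpr (mem_centralizer_iff.mp (hcomm g t) b hbV).symm
  have e2 : ⁅g * (t : S) * g⁻¹, b⁆ = u := by
    calc ⁅g * (t : S) * g⁻¹, b⁆ = (c * ⁅(t : S), b⁆ * c⁻¹) * ⁅c, b⁆ := by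
          simp only [hc, commutatorElement_def]; group
      _ = u := by rw [hcb, mul_one, htb, ← mem_centralizer_iff.mp (hcomm g t) _ (hUV huU), mul_inv_cancel_right]
  have hm : g⁻¹ * b * g ∈ V := by simpa using (Normal.conj_mem inferInstance b hbV g⁻¹ : g⁻¹ * b * g⁻¹⁻¹ ∈ V)
  have hw : b⁻¹ * (g⁻¹ * b * g) ∈ U := by
    have h1 := Normal.conj_mem (H := U) inferInstance _ (hk g⁻¹ b hbV) b⁻¹
    have e : b⁻¹ * (g⁻¹ * b * g) = b⁻¹ * ⁅g⁻¹, b⁆ * b⁻¹⁻¹ := by simp only [commutatorElement_def]; group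
    rw [e]; exact h1
  have ht' : ⁅(t : S), b⁻¹ * (g⁻¹ * b * g)⁆ = 1 :=
    commutatorElement_eq_one_iff_mul_comm.mpr (mem_centralizer_iff.mp t.2 _ hw).symm
  have e3 : ⁅(t : S), g⁻¹ * b * g⁆ = ⁅(t : S), b⁆ := by
    calc ⁅(t : S), g⁻¹ * b * g⁆ = ⁅(t : S), b⁆ * (b * ⁅(t : S), b⁻¹ * (g⁻¹ * b * g)⁆ * b⁻¹) := by
          simp only [commutatorElement_def]; group
      _ = _ := by rw [ht']; group
  apply hgu
  conv_rhs => rw [← e2]
  rw [← htb, ← e3]; simp only [commutatorElement_def]; group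

end Cfsg.Agent.Sectional
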