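import Cfsg.Agent.Lib.PGroup.Basic
import Cfsg.Agent.Lib.Cores.Basic
import Cfsg.Prelude.Def_CaseTheorems
/-!
# Sectional 2-rank: generalities (helper5)

* `sq X`: the subgroup generated by the squares of `X`; `sq_le_iff`, `mem_sq`, `commutator_mem_of_sq`
* `sectionalPRankLE_of`: criterion by elementary quotients `H / N`
* `card_le_parts`: counting along a homomorphism
* `Omega2Central X`: elements of order at most 4 are central in `X`
* `Omega2Central.card_le`: then `|X| ≤ |Ω₁ X| |sq X|` (the four generator step)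
* `Omega2Central.commute_of_top`: a criterion for `X` to be abelian
-/

set_option autoImplicit false
set_option linter.style.haveILetI false
set_option linter.unusedSectionVars false

open Subgroup
open scoped commutatorElement

namespace Cfsg.Agent.Sectional

universe u

variable {S : Type u} [Group S]

/-- The subgroup generated by the squares of elements of `X`. -/
def sq (X : Subgroup S) : Subgroup S := closure ((fun x : S => x ^ 2) '' (X : Set S))

theorem mem_sq {X : Subgroup S} {x : S} (hx : x ∈ X) : x ^ 2 ∈ sq X := subset_closure ⟨x, hx, rfl⟩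

theorem sq_le_iff {X K : Subgroup S} : sq X ≤ K ↔ ∀ x ∈ X, x ^ 2 ∈ K := by
  rw [sq, closure_le]
  exact ⟨fun h x hx => h ⟨x, hx, rfl⟩, fun h => by rintro _ ⟨x, hx, rfl⟩; exact h x hx⟩

theorem sq_le_self (X : Subgroup S) : sq X ≤ X := sq_le_iff.mpr fun _ hx => pow_mem hx 2

theorem sq_mono {X Y : Subgroup S} (h : X ≤ Y) : sq X ≤ sq Y :=
  sq_le_iff.mpr fun _ hx => mem_sq (h hx)

theorem sq_map {Q : Type*} [Group Q] (f : S →* Q) (X : Subgroup S) : (sq X).map f = sq (X.map f) := by
  rw [sq, sq, MonoidHom.map_closure]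
  congr 1
  ext q
  constructor
  · rintro ⟨_, ⟨x, hx, rfl⟩, rfl⟩; exact ⟨f x, ⟨x, hx, rfl⟩, (map_pow f x 2).symm⟩
  · rintro ⟨_, ⟨x, hx, rfl⟩, rfl⟩; exact ⟨x ^ 2, ⟨x, hx, rfl⟩, map_pow f x 2⟩

theorem commutator_mem_of_sq {H N : Subgroup S} (hsq : ∀ h ∈ H, h ^ 2 ∈ N) {g h : S} (hg : g ∈ H)
    (hh : h ∈ H) : ⁅g, h⁆ ∈ N := by
  have e : ⁅g, h⁆ = (g * h) ^ 2 * (h⁻¹ * g⁻¹ * h) ^ 2 * (h⁻¹) ^ 2 := by
    simp only [commutatorElement_def, pow_two]; group
  rw [e]
  exact mul_mem (mul_mem (hsq _ (mul_mem hg hh)) (hsq _ (mul_mem (mul_mem (inv_mem hh) (inv_mem hg)) hh)))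
    (hsq _ (inv_mem hh))

theorem card_eq_map_mul {Q : Type*} [Group Q] (f : S →* Q) (H : Subgroup S) :
    Nat.card (H.map f) * Nat.card (H ⊓ f.ker : Subgroup S) = Nat.card H := by
  rw [← (f.comp H.subtype).ker.card_mul_index, index_ker, mul_comm]
  congr 1
  · rw [← card_map_of_injective H.subtype_injective]
    congr 2
    ext x
    constructor
    · rintro ⟨hx, hk⟩; exact ⟨⟨x, hx⟩, hk, rfl⟩
    · rintro ⟨y, hy, rfl⟩; exact ⟨y.2, hy⟩
  · rw [MonoidHom.range_comp, range_subtype]

theorem card_le_parts {Q : Type*} [Group Q] (f : S →* Q) {H N : Subgroup S} {i k : ℕ}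
    (h1 : Nat.card (H.map f) ≤ i * Nat.card (N.map f))
    (h2 : Nat.card (H ⊓ f.ker : Subgroup S) ≤ k * Nat.card (N ⊓ f.ker : Subgroup S)) :
    Nat.card H ≤ i * k * Nat.card N := by
  rw [← card_eq_map_mul f H, ← card_eq_map_mul f N]
  calc Nat.card (H.map f) * Nat.card (H ⊓ f.ker : Subgroup S)
      ≤ (i * Nat.card (N.map f)) * (k * Nat.card (N ⊓ f.ker : Subgroup S)) := Nat.mul_le_mul h1 h2
    _ = _ := by ring

theorem sectionalPRankLE_of {k : ℕ}
    (h : ∀ H N : Subgroup S, N ≤ H → (∀ x ∈ H, x ^ 2 ∈ N) → Nat.card H ≤ 2 ^ k * Nat.card N) [Finite S] :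
    Cfsg.SectionalPRankLE 2 k S := by
  intro H M _ A _ hA2
  set H' : Subgroup S := (A.comap (QuotientGroup.mk' M)).map H.subtype
  set N' : Subgroup S := M.map H.subtype
  have hle : M ≤ A.comap (QuotientGroup.mk' M) := fun x hx => by
    rw [mem_comap, show QuotientGroup.mk' M x = 1 from (QuotientGroup.eq_one_iff x).mpr hx]
    exact one_mem A
  have h1 := h H' N' (map_mono hle) (by
    rintro _ ⟨x, hx, rfl⟩
    refine ⟨x ^ 2, (QuotientGroup.eq_one_iff _).mp ?_, map_pow _ _ _⟩
    exact (map_pow (QuotientGroup.mk' M) x 2).trans (hA2 _ hx))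
  rw [card_map_of_injective H.subtype_injective, card_map_of_injective H.subtype_injective,
    ← Cores.card_map_mul_ker (QuotientGroup.mk' M) (A.comap (QuotientGroup.mk' M)) (ker_le_comap _ _),
    map_comap_eq_self_of_surjective (QuotientGroup.mk'_surjective M), QuotientGroup.ker_mk'] at h1
  exact Nat.le_of_mul_le_mul_right h1 Nat.card_pos

/-- Elements of order at most four are central. -/
def Omega2Central (X : Subgroup S) : Prop := ∀ x ∈ X, x ^ 4 = 1 → ∀ y ∈ X, y * x = x * y

/-- An element inverted by conjugation has order at most two, when elements of order four are central. -/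
theorem sq_eq_one_of_inverted (hS : IsPGroup 2 S) {X : Subgroup S} (hc : Omega2Central X) {x v : S}
    (hx : x ∈ X) (hv : v ∈ X) (h : x * v * x⁻¹ = v⁻¹) : v ^ 2 = 1 := by
  obtain ⟨j, hj⟩ := hS v
  induction j generalizing v with
  | zero => rw [pow_zero, pow_one] at hj; rw [hj, one_pow]
  | succ j ih =>
    have h2 := ih (v := v ^ 2) (pow_mem hv 2) (by rw [← conj_pow, h, inv_pow]) (by rw [← pow_mul, ← pow_succ']; exact hj)
    have h4 : v ^ 4 = 1 := by rw [← h2, ← pow_mul]
    have hcomm := hc v hv h4 x hx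
    rw [hcomm, mul_inv_cancel_right] at h
    rw [pow_two]
    calc v * v = v * v⁻¹ := by rw [← h]
      _ = 1 := mul_inv_cancel v

/-- Two elements with equal squares differ by an element of order at most two. -/
theorem mul_inv_sq_eq_one (hS : IsPGroup 2 S) {X : Subgroup S} (hc : Omega2Central X) {u x : S}
    (hu : u ∈ X) (hx : x ∈ X) (h : u ^ 2 = x ^ 2) : (u * x⁻¹) ^ 2 = 1 := by
  refine sq_eq_one_of_inverted hS hc hx (mul_mem hu (inv_mem hx)) ?_
  rw [eq_inv_iff_mul_eq_one]
  calc x * (u * x⁻¹) * x⁻¹ * (u * x⁻¹) = x * u * (x ^ 2)⁻¹ * u * x⁻¹ := by rw [pow_two]; group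
    _ = x * u * (u ^ 2)⁻¹ * u * x⁻¹ := by rw [h]
    _ = 1 := by rw [pow_two]; group

theorem commutator_sq_eq_one (hS : IsPGroup 2 S) {X : Subgroup S} (hc : Omega2Central X) {x y : S}
    (hx : x ∈ X) (h8 : x ^ 8 = 1) (hy : y ∈ X) : ⁅y, x⁆ ^ 2 = 1 := by
  rw [commutatorElement_def]
  refine mul_inv_sq_eq_one hS hc (mul_mem (mul_mem hy hx) (inv_mem hy)) hx ?_
  rw [conj_pow, hc _ (pow_mem hx 2) (by rw [← pow_mul]; exact h8) y hy, mul_inv_cancel_right]

section Groups

variable {P : Type u} [Group P]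

/-- In a group where elements of order at most four are central, the elements of order at most `2` form
a subgroup. -/
def omegaOne (hc : Omega2Central (⊤ : Subgroup P)) : Subgroup P where
  carrier := {x | x ^ 2 = 1}
  one_mem' := one_pow 2
  mul_mem' := fun {a b} ha hb => by
    have ha4 : a ^ 4 = 1 := by rw [show 4 = 2 * 2 from rfl, pow_mul, Set.mem_ofPred_eq.mp ha, one_pow]
    show (a * b) ^ 2 = 1
    rw [Commute.mul_pow (hc a (mem_top a) ha4 b (mem_top b)).symm, Set.mem_ofPred_eq.mp ha, Set.mem_ofPred_eq.mp hb,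
      one_mul]
  inv_mem' := fun {a} ha => by show a⁻¹ ^ 2 = 1; rw [inv_pow, Set.mem_ofPred_eq.mp ha, inv_one]

theorem mem_omegaOne {hc : Omega2Central (⊤ : Subgroup P)} {x : P} : x ∈ omegaOne hc ↔ x ^ 2 = 1 := Iff.rfl

theorem omegaOne_normal (hc : Omega2Central (⊤ : Subgroup P)) : (omegaOne hc).Normal :=
  ⟨fun x hx g => by rw [mem_omegaOne] at hx ⊢; rw [conj_pow, hx]; group⟩

theorem quotient_omegaOne (hP : IsPGroup 2 P) (hc : Omega2Central (⊤ : Subgroup P))
    [(omegaOne hc).Normal] : Omega2Central (⊤ : Subgroup (P ⧸ omegaOne hc)) := by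
  intro q _ hq r _
  obtain ⟨x, rfl⟩ := QuotientGroup.mk_surjective q
  obtain ⟨y, rfl⟩ := QuotientGroup.mk_surjective r
  rw [← QuotientGroup.mk_pow, QuotientGroup.eq_one_iff, mem_omegaOne, ← pow_mul] at hq
  have h := commutator_sq_eq_one hP hc (mem_top x) hq (mem_top y)
  rw [← commutatorElement_eq_one_iff_mul_comm, show ⁅(y : P ⧸ omegaOne hc), (x : P ⧸ omegaOne hc)⁆ =
    ((⁅y, x⁆ : P) : P ⧸ omegaOne hc) from (map_commutatorElement (QuotientGroup.mk' _) y x).symm,
    QuotientGroup.eq_one_iff, mem_omegaOne]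
  exact h

/-- The four generator step. -/
theorem card_le_omega_mul_sq : ∀ (n : ℕ) (P : Type u) [Group P] [Finite P], Nat.card P = n →
    IsPGroup 2 P → ∀ hc : Omega2Central (⊤ : Subgroup P),
    Nat.card P ≤ Nat.card (omegaOne hc) * Nat.card (sq (⊤ : Subgroup P)) := by
  intro n
  induction n using Nat.strong_induction_on with
  | _ n ih =>
    intro P _ _ hn hP hc
    haveI := omegaOne_normal hc
    rcases subsingleton_or_nontrivial P with hs | hs
    · rw [Nat.card_of_subsingleton (1 : P)]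
      exact Nat.one_le_iff_ne_zero.mpr (Nat.mul_ne_zero Nat.card_pos.ne' Nat.card_pos.ne')
    set U := omegaOne hc
    have hU1 : 1 < Nat.card U := by
      obtain ⟨k, hk⟩ := IsPGroup.iff_card.mp hP
      have h2 : 2 ∣ Nat.card P := by
        have := Finite.one_lt_card (α := P)
        rw [hk] at this ⊢
        exact dvd_pow_self 2 (fun h0 => by rw [h0] at this; simp at this)
      obtain ⟨x, hx⟩ := exists_prime_orderOf_dvd_card' 2 h2
      refine Finite.one_lt_card_iff_nontrivial.mpr ⟨⟨x, ?_⟩, 1, ?_⟩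
      · rw [mem_omegaOne, ← hx, pow_orderOf_eq_one]
      · intro h
        have h' : x = 1 := congrArg Subtype.val h
        rw [h', orderOf_one] at hx
        omega
    have hPU := U.card_eq_card_quotient_mul_card_subgroup
    have hQc := quotient_omegaOne hP hc
    have hlt : Nat.card (P ⧸ U) < n := by
      rw [← hn, hPU]
      exact lt_mul_of_one_lt_right Nat.card_pos hU1
    have h1 := ih _ hlt (P ⧸ U) rfl (hP.to_quotient U) hQc
    set f := QuotientGroup.mk' U
    have h2 : Nat.card (omegaOne hQc) ≤ Nat.card (U ⊓ sq (⊤ : Subgroup P) : Subgroup P) := by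
      refine Nat.card_le_card_of_injective (fun q => ⟨(q.1.out : P) ^ 2, ?_, mem_sq (mem_top _)⟩) ?_
      · have := q.2
        rw [mem_omegaOne, ← QuotientGroup.out_eq' q.1, ← QuotientGroup.mk_pow, QuotientGroup.eq_one_iff] at this
        exact this
      · intro a b hab
        have h := mul_inv_sq_eq_one hP hc (mem_top _) (mem_top _) (congrArg Subtype.val hab)
        refine Subtype.ext ?_
        rw [← QuotientGroup.out_eq' a.1, ← QuotientGroup.out_eq' b.1, ← mul_inv_eq_one, ← QuotientGroup.mk_inv,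
          ← QuotientGroup.mk_mul, QuotientGroup.eq_one_iff, mem_omegaOne]
        exact h
    have h3 : Nat.card (sq (⊤ : Subgroup (P ⧸ U))) * Nat.card (U ⊓ sq (⊤ : Subgroup P) : Subgroup P) =
        Nat.card (sq (⊤ : Subgroup P)) := by
      have := card_eq_map_mul f (sq (⊤ : Subgroup P))
      rwa [sq_map, map_top_of_surjective f (QuotientGroup.mk'_surjective U), QuotientGroup.ker_mk', inf_comm] at this
    rw [hPU, ← h3]
    calc Nat.card (P ⧸ U) * Nat.card U
        ≤ Nat.card (U ⊓ sq (⊤ : Subgroup P) : Subgroup P) * Nat.card (sq (⊤ : Subgroup (P ⧸ U))) * Nat.card U :=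
          Nat.mul_le_mul_right _ (h1.trans (Nat.mul_le_mul_right _ h2))
      _ = _ := by ring

end Groups

variable [Finite S]

theorem Omega2Central.top_subgroup {X : Subgroup S} (hc : Omega2Central X) : Omega2Central (⊤ : Subgroup X) :=
  fun x _ hx y _ => Subtype.ext (hc x x.2 (by rw [← SubmonoidClass.coe_pow, hx, OneMemClass.coe_one]) y y.2)

/-- `|X| ≤ |U| |sq X|` whenever `U` contains the involutions of `X`. -/
theorem Omega2Central.card_le (hS : IsPGroup 2 S) {X U : Subgroup S} (hc : Omega2Central X)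
    (hU : ∀ x ∈ X, x ^ 2 = 1 → x ∈ U) : Nat.card X ≤ Nat.card U * Nat.card (sq X) := by
  have h := card_le_omega_mul_sq _ X rfl (hS.to_subgroup X) hc.top_subgroup
  have e1 : Nat.card (sq (⊤ : Subgroup X)) = Nat.card (sq X) := by
    rw [← card_map_of_injective (K := sq (⊤ : Subgroup X)) X.subtype_injective, sq_map, ← MonoidHom.range_eq_map, range_subtype]
  have e2 : Nat.card (omegaOne hc.top_subgroup) ≤ Nat.card U := by
    refine Nat.card_le_card_of_injective (fun x => ⟨x.1.1, hU _ x.1.2 ?_⟩) fun a b h => ?_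
    · rw [← SubmonoidClass.coe_pow, mem_omegaOne.mp x.2, OneMemClass.coe_one]
    · exact Subtype.ext (Subtype.ext (congrArg (fun z : U => (z : S)) h))
  rw [e1] at h
  exact h.trans (Nat.mul_le_mul_right _ e2)

/-- If the fourth powers of elements of order at most eight lie in a group of order two, `X` is abelian. -/
theorem Omega2Central.commute_of_top (hS : IsPGroup 2 S) {X : Subgroup S} (hc : Omega2Central X) {e : S}
    (he : ∀ x ∈ X, x ^ 8 = 1 → x ^ 4 = 1 ∨ x ^ 4 = e) : ∀ x ∈ X, ∀ y ∈ X, x * y = y * x := by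
  have hP : IsPGroup 2 X := hS.to_subgroup X
  have hcT := hc.top_subgroup
  haveI := omegaOne_normal hcT
  have hQc := quotient_omegaOne hP hcT
  let B : Subgroup X :=
    { carrier := {x | x ^ 4 = 1}
      one_mem' := one_pow 4
      mul_mem' := fun {a b} ha hb => by
        show (a * b) ^ 4 = 1
        rw [Commute.mul_pow (hcT a (mem_top a) ha b (mem_top b)).symm, Set.mem_ofPred_eq.mp ha,
          Set.mem_ofPred_eq.mp hb, one_mul]
      inv_mem' := fun {a} ha => by show a⁻¹ ^ 4 = 1; rw [inv_pow, Set.mem_ofPred_eq.mp ha, inv_one] }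
  have hB : ∀ x, x ∈ B ↔ x ^ 4 = 1 := fun x => Iff.rfl
  have hBc : B ≤ center X := fun b hb => mem_center_iff.mpr fun g => hcT b (mem_top b) hb g (mem_top g)
  haveI : B.Normal := ⟨fun b hb g => by rw [hB] at hb ⊢; rw [conj_pow, hb]; group⟩
  set Q := X ⧸ B
  have hcQ : Omega2Central (⊤ : Subgroup Q) := by
    intro q _ hq r _
    obtain ⟨x, rfl⟩ := QuotientGroup.mk_surjective q
    obtain ⟨y, rfl⟩ := QuotientGroup.mk_surjective r
    rw [← QuotientGroup.mk_pow, QuotientGroup.eq_one_iff, hB, ← pow_mul] at hq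
    have h := commutator_sq_eq_one (hP.to_quotient (omegaOne hcT)) hQc (mem_top (x : X ⧸ omegaOne hcT))
      (by rw [← QuotientGroup.mk_pow, QuotientGroup.eq_one_iff, mem_omegaOne, ← pow_mul]; exact hq)
      (mem_top (y : X ⧸ omegaOne hcT))
    rw [show ⁅(y : X ⧸ omegaOne hcT), (x : X ⧸ omegaOne hcT)⁆ = ((⁅y, x⁆ : X) : X ⧸ omegaOne hcT) from
      (map_commutatorElement (QuotientGroup.mk' _) y x).symm, ← QuotientGroup.mk_pow, QuotientGroup.eq_one_iff,
      mem_omegaOne, ← pow_mul] at h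
    rw [← commutatorElement_eq_one_iff_mul_comm, show ⁅(y : Q), (x : Q)⁆ = ((⁅y, x⁆ : X) : Q) from
      (map_commutatorElement (QuotientGroup.mk' _) y x).symm, QuotientGroup.eq_one_iff, hB]
    exact h
  have hU : Nat.card (omegaOne hcQ) ≤ 2 := by
    classical
    let g : omegaOne hcQ → Bool := fun q => decide (q = 1)
    have hkey : ∀ a b : omegaOne hcQ, a ≠ 1 → b ≠ 1 → a = b := by
      intro a b ha hb
      have out : ∀ c : omegaOne hcQ, ((c.1.out : X) ^ 2) ^ 4 = 1 := fun c => by
        have := c.2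
        rw [mem_omegaOne, ← QuotientGroup.out_eq' c.1, ← QuotientGroup.mk_pow, QuotientGroup.eq_one_iff, hB] at this
        exact this
      have top : ∀ c : omegaOne hcQ, c ≠ 1 → ((c.1.out : X) ^ 4 : X).1 = e := fun c hc1 => by
        have h8 : ((c.1.out : X) : S) ^ 8 = 1 := by
          have := congrArg (fun z : X => (z : S)) (out c)
          simpa [← pow_mul] using this
        rcases he _ (c.1.out : X).2 h8 with h | h
        · refine absurd (Subtype.ext ?_) hc1
          rw [OneMemClass.coe_one, ← QuotientGroup.out_eq' c.1, QuotientGroup.eq_one_iff, hB]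
          exact Subtype.ext (by simpa using h)
        · simpa using h
      set x := (a.1.out : X)
      set y := (b.1.out : X)
      have h8 : x ^ 8 = 1 := by rw [← out a, ← pow_mul]
      have hy4 : (y ^ 2) ^ 4 = 1 := out b
      have hcomm : Commute (x ^ 2) (y⁻¹) :=
        (hcT (x ^ 2) (mem_top _) (by rw [← pow_mul]; exact h8) y⁻¹ (mem_top _)).symm
      have hk := commutator_sq_eq_one hP hcT (mem_top x) h8 (mem_top y⁻¹)
      have hk4 : ⁅y⁻¹, x⁆ ^ 4 = 1 := by rw [show 4 = 2 * 2 from rfl, pow_mul, hk, one_pow]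
      have hkc : ∀ z : X, z * ⁅y⁻¹, x⁆ = ⁅y⁻¹, x⁆ * z := fun z => hcT _ (mem_top _) hk4 z (mem_top z)
      have hyc : ∀ z : X, z * (y⁻¹) ^ 2 = (y⁻¹) ^ 2 * z := fun z =>
        hcT _ (mem_top _) (by rw [← pow_mul, inv_pow, inv_eq_one]; rw [← pow_mul] at hy4; exact hy4) z (mem_top z)
      have e2 : (x * y⁻¹) ^ 2 = x ^ 2 * (y⁻¹) ^ 2 * ⁅y⁻¹, x⁆ := by
        calc (x * y⁻¹) ^ 2 = x * ⁅y⁻¹, x⁆ * x * (y⁻¹) ^ 2 := by
              simp only [commutatorElement_def, pow_two]; group
          _ = x * x * ⁅y⁻¹, x⁆ * (y⁻¹) ^ 2 := by rw [mul_assoc x ⁅y⁻¹, x⁆, ← hkc x, ← mul_assoc]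
          _ = _ := by rw [← pow_two, mul_assoc (x ^ 2), hyc, ← mul_assoc]
      refine Subtype.ext ?_
      rw [← QuotientGroup.out_eq' a.1, ← QuotientGroup.out_eq' b.1, ← mul_inv_eq_one, ← QuotientGroup.mk_inv,
        ← QuotientGroup.mk_mul, QuotientGroup.eq_one_iff, hB, show 4 = 2 * 2 from rfl, pow_mul, e2,
        Commute.mul_pow (hkc _), hk, mul_one, Commute.mul_pow (hyc _), ← pow_mul, ← pow_mul, inv_pow, mul_inv_eq_one]
      exact Subtype.ext ((top a ha).trans (top b hb).symm)
    rw [← Fintype.card_bool, ← Nat.card_eq_fintype_card]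
    refine Nat.card_le_card_of_injective g fun a b h => ?_
    by_cases ha : a = 1
    · subst ha; simpa [g, eq_comm] using h
    · exact hkey a b ha (fun hb => ha (by simpa [g, hb] using h))
  haveI : IsCyclic Q := by
    have h := card_le_omega_mul_sq _ Q rfl (hP.to_quotient B) hcQ
    by_cases htop : sq (⊤ : Subgroup Q) = ⊤
    · have hF : frattini Q = ⊤ := top_le_iff.mp (htop ▸ sq_le_iff.mpr fun x _ => PGroup.pow_mem_frattini (hP.to_quotient B) x)
      exact PGroup.isCyclic_of_sup_frattini (x := 1) (by rw [hF, sup_top_eq])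
    obtain ⟨x, hx⟩ : ∃ x, x ∉ sq (⊤ : Subgroup Q) := by
      by_contra hall; push Not at hall; exact htop (eq_top_iff' _ |>.mpr hall)
    refine PGroup.isCyclic_of_sup_frattini (x := x) (top_le_iff.mp ?_)
    have hF : sq (⊤ : Subgroup Q) ≤ frattini Q :=
      sq_le_iff.mpr fun y _ => PGroup.pow_mem_frattini (hP.to_quotient B) y
    refine le_trans ?_ (sup_le_sup_left hF _)
    have hlt : sq (⊤ : Subgroup Q) < zpowers x ⊔ sq ⊤ :=
      lt_of_le_of_ne le_sup_right fun he => hx (he ▸ mem_sup_left (mem_zpowers x))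
    refine (PGroup.eq_of_le_of_card_le le_top ?_).ge
    have k1 := PGroup.mul_card_le_of_lt (hP.to_quotient B) hlt
    have k2 := h.trans (Nat.mul_le_mul_right _ hU)
    rw [card_top]
    exact k2.trans k1
  intro x hx y hy
  have := commutative_of_cyclic_center_quotient (QuotientGroup.mk' B) (by rw [QuotientGroup.ker_mk']; exact hBc) (⟨x, hx⟩ : X) ⟨y, hy⟩
  exact congrArg Subtype.val this

end Cfsg.Agent.Sectional
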