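import Cfsg.Agent.Lib.Sectional.NormalSixteen
/-!
# A self-centralizing `2^3` and a maximal normal `2^3`: structure (helper5)

`V` is a maximal normal elementary abelian subgroup, of order eight; `B` is a maximal normal abelian
subgroup of exponent four containing it.

* `Eight.fixed_mem`: an element of `A` outside `V` fixes only elements of `V` in `B`
* `Eight.exists_u`: `|B| = 16` and `B` has a central square `u`
* `EightU.comm_D`: `C(B)` is abelian
-/

set_option autoImplicit false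
set_option linter.style.haveILetI false
set_option linter.unusedSectionVars false

open Subgroup
open scoped commutatorElement

namespace Cfsg.Agent.Sectional

variable {S : Type*} [Group S] [Finite S]

theorem comm_mul_right {M : Subgroup S} (hn : M.Normal) (hc : ∀ a ∈ M, ∀ b ∈ M, a * b = b * a) (x : S) {b c : S}
    (hb : b ∈ M) (hc' : c ∈ M) : ⁅x, b * c⁆ = ⁅x, b⁆ * ⁅x, c⁆ :=
  map_mul (commHom hn hc x) ⟨b, hb⟩ ⟨c, hc'⟩

theorem comm_pow_right {M : Subgroup S} (hn : M.Normal) (hc : ∀ a ∈ M, ∀ b ∈ M, a * b = b * a) (x : S) {b : S}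
    (hb : b ∈ M) (n : ℕ) : ⁅x, b ^ n⁆ = ⁅x, b⁆ ^ n :=
  map_pow (commHom hn hc x) ⟨b, hb⟩ n

theorem comm_inv_right {M : Subgroup S} (hn : M.Normal) (hc : ∀ a ∈ M, ∀ b ∈ M, a * b = b * a) (x : S) {b : S}
    (hb : b ∈ M) : ⁅x, b⁻¹⁆ = ⁅x, b⁆⁻¹ :=
  map_inv (commHom hn hc x) ⟨b, hb⟩

theorem comm_mem {M : Subgroup S} (hn : M.Normal) (x : S) {b : S} (hb : b ∈ M) : ⁅x, b⁆ ∈ M :=
  mul_mem (hn.conj_mem b hb x) (inv_mem hb)

theorem comm_mem_left {M : Subgroup S} (hn : M.Normal) {x : S} (g : S) (hx : x ∈ M) : ⁅x, g⁆ ∈ M := by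
  rw [← commutatorElement_inv]; exact inv_mem (comm_mem hn g hx)

theorem conj_commutator_left {a b : S} (ha : a * a = 1) : a * ⁅a, b⁆ * a⁻¹ = ⁅a, b⁆⁻¹ := by
  have hai : a⁻¹ = a := inv_eq_of_mul_eq_one_right ha
  calc a * ⁅a, b⁆ * a⁻¹ = (a * a) * b * a⁻¹ * b⁻¹ * a⁻¹ := by simp only [commutatorElement_def]; group
    _ = b * a * b⁻¹ * a⁻¹ := by rw [ha, one_mul, hai]
    _ = _ := by simp only [commutatorElement_def]; group

theorem conj_commutator_right {a c : S} (ha : a * a = 1) : a * ⁅c, a⁆ * a⁻¹ = ⁅c, a⁆⁻¹ := by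
  conv_rhs => rw [← commutatorElement_inv a c, inv_inv]
  conv_lhs => rw [← commutatorElement_inv a c]
  rw [← conj_inv, conj_commutator_left ha, inv_inv]

/-- An element inverted by `a` has commutator with `a` equal to its inverse square. -/
theorem comm_of_inverted {a d : S} (h : a * d * a⁻¹ = d⁻¹) : ⁅a, d⁆ = (d ^ 2)⁻¹ := by
  rw [commutatorElement_def, h, pow_two, mul_inv_rev]

theorem mul_mem_of_card_le {K L : Subgroup S} (hKL : K ≤ L) (hc : Nat.card L ≤ 2 * Nat.card K) {b b' : S}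
    (hb : b ∈ L) (hbK : b ∉ K) (hb' : b' ∈ L) (hbK' : b' ∉ K) : b * b' ∈ K ∧ b * b'⁻¹ ∈ K ∧ b⁻¹ * b' ∈ K := by
  have h2 : (K.subgroupOf L).index = 2 := by
    have h1 := (K.subgroupOf L).card_mul_index
    rw [Cores.card_subgroupOf hKL] at h1
    have hne : (K.subgroupOf L).index ≠ 1 := fun e => hbK (mem_subgroupOf.mp (index_eq_one.mp e ▸ mem_top (⟨b, hb⟩ : L)))
    have h0 : (K.subgroupOf L).index ≠ 0 := index_ne_zero_of_finite
    have : (K.subgroupOf L).index ≤ 2 := Nat.le_of_mul_le_mul_left (by rw [h1]; linarith) (Nat.card_pos (α := K))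
    omega
  have key : ∀ {x y : S}, x ∈ L → x ∉ K → y ∈ L → y ∉ K → x * y ∈ K := fun {x y} hx hxK hy hyK => by
    have := (mul_mem_iff_of_index_two h2 (a := ⟨x, hx⟩) (b := ⟨y, hy⟩)).mpr
      (iff_of_false (fun e => hxK (mem_subgroupOf.mp e)) (fun e => hyK (mem_subgroupOf.mp e)))
    exact mem_subgroupOf.mp this
  exact ⟨key hb hbK hb' hbK', key hb hbK (inv_mem hb') (fun e => hbK' (inv_mem_iff.mp e)),
    key (inv_mem hb) (fun e => hbK (inv_mem_iff.mp e)) hb' hbK'⟩

theorem eq_or_of_mem_zpowers' {S : Type*} [Group S] {w t : S} (hw : w * w = 1) (ht : t ∈ zpowers w) : t = 1 ∨ t = w := by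
  obtain ⟨j, rfl⟩ := ht
  rcases Int.even_or_odd j with ⟨m, rfl⟩ | ⟨m, rfl⟩
  · exact Or.inl (show w ^ (m + m) = 1 by rw [zpow_add, ← (Commute.refl w).mul_zpow, hw, one_zpow])
  · exact Or.inr (show w ^ (2 * m + 1) = w by
      rw [zpow_add, zpow_mul, show w ^ (2 : ℤ) = 1 by rw [zpow_two, hw], one_zpow, one_mul, zpow_one])

/-- The hypotheses. -/
structure Eight (A V B : Subgroup S) : Prop where
  sc : SelfCentEight A
  ne : NormalElementary V
  cardV : Nat.card V = 8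
  nle : ¬ A ≤ V
  bn : B.Normal
  bc : ∀ a ∈ B, ∀ b ∈ B, a * b = b * a
  b4 : ∀ a ∈ B, a ^ 4 = 1
  vle : V ≤ B
  omega : ∀ x ∈ B, x ^ 2 = 1 → x ∈ V
  big : ∀ x ∈ centralizer (B : Set S), x ^ 4 = 1 → x ∈ B
  bne : ¬ B ≤ V

variable {A V B : Subgroup S}

theorem Eight.mul_self (E : Eight A V B) {a : S} (ha : a ∈ A) : a * a = 1 := by rw [← pow_two]; exact E.sc.sq a ha

theorem Eight.inf_cases (E : Eight A V B) :
    Nat.card (A ⊓ V : Subgroup S) = 2 ∨ Nat.card (A ⊓ V : Subgroup S) = 4 := by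
  have : Fact (Nat.Prime 2) := ⟨Nat.prime_two⟩
  have h1 := E.sc.one_lt_inf E.ne (fun e => by have := E.cardV; rw [e, card_bot] at this; omega)
  have h2 := PGroup.mul_card_le_of_lt (p := 2) E.sc.p
    (lt_of_le_of_ne (inf_le_left : A ⊓ V ≤ A) fun e => E.nle (inf_eq_left.mp e))
  rw [E.sc.card] at h2
  obtain ⟨k, hk⟩ := IsPGroup.iff_card.mp (E.sc.p.to_subgroup (A ⊓ V))
  rw [hk] at h1 h2 ⊢
  have : k ≤ 2 := by
    by_contra hc
    have := Nat.pow_le_pow_right (show 0 < 2 by norm_num) (show 3 ≤ k by omega)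
    omega
  interval_cases k <;> simp_all

theorem Eight.mem_V_of_centralizer (E : Eight A V B) {b : S} (hb : b ∈ A) (hc : b ∈ centralizer (V : Set S)) :
    b ∈ V := by
  by_contra hbV
  have := E.sc.fixed_le E.ne E.nle hb hbV
  rw [inf_eq_left.mpr (fun v hv => mem_centralizer_singleton_iff.mpr (mem_centralizer_iff.mp hc v hv)), E.cardV] at this
  omega

theorem Eight.card_fixed (E : Eight A V B) {a : S} (ha : a ∈ A) (haV : a ∉ V) :
    Nat.card (V ⊓ centralizer ({a} : Set S) : Subgroup S) = 4 := by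
  have h4 := E.sc.fixed_le E.ne E.nle ha haV
  have hsq := card_le_sq_fixed E.ne.normal E.ne.comm E.ne.sq (E.sc.sq a ha) le_rfl fun v hv => comm_mem E.ne.normal a hv
  obtain ⟨k, hk⟩ := IsPGroup.iff_card.mp (E.sc.p.to_subgroup (V ⊓ centralizer ({a} : Set S) : Subgroup S))
  rw [E.cardV, hk] at hsq
  rw [hk] at h4 ⊢
  have : k ≤ 2 := (Nat.pow_le_pow_iff_right (by norm_num : 1 < 2)).mp (h4 : 2 ^ k ≤ 2 ^ 2)
  interval_cases k <;> simp_all

theorem Eight.mem_A_four (E : Eight A V B) (hW : Nat.card (A ⊓ V : Subgroup S) = 4) {x a : S} (ha : a ∈ A)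
    (haV : a ∉ V) (hxa : a * x = x * a) (hx : ∀ w ∈ A ⊓ V, w * x = x * w) : x ∈ A :=
  E.sc.commute_all E.ne (mem_centralizer_iff.mpr hx) hxa ha haV hW.ge

/-- A second generator when `|A ⊓ V| = 2`. -/
theorem Eight.second (E : Eight A V B) (hW : Nat.card (A ⊓ V : Subgroup S) = 2) {a : S} (ha : a ∈ A) (haV : a ∉ V) :
    ∃ b ∈ A, b ∉ V ∧ ∃ p ∈ V, a * p = p * a ∧ ⁅b, p⁆ ≠ 1 ∧ ⁅b, p⁆ ∈ A ⊓ V ∧
      ∀ x : S, a * x = x * a → b * x = x * b → (∀ w ∈ A ⊓ V, w * x = x * w) → x ∈ A := by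
  set P := V ⊓ centralizer ({a} : Set S) with hP
  obtain ⟨b, hb, p, hp, hne⟩ : ∃ b ∈ A, ∃ v ∈ P, b * v ≠ v * b := by
    by_contra hc
    push Not at hc
    have := card_le_of_le (show P ≤ A ⊓ V from fun v hv => E.sc.fixed_le_inf E.ne hv.1 fun b hb => hc b hb v hv)
    rw [E.card_fixed ha haV, hW] at this
    omega
  have hpa : a * p = p * a := (mem_centralizer_singleton_iff.mp hp.2).symm
  have hbW : b ∉ (A ⊓ V) ⊔ zpowers a := fun hbm => hne (by
    have : (A ⊓ V) ⊔ zpowers a ≤ centralizer ({p} : Set S) :=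
      sup_le (fun w hw => mem_centralizer_singleton_iff.mpr (E.ne.comm w hw.2 p hp.1))
        (zpowers_le.mpr (mem_centralizer_singleton_iff.mpr hpa))
    exact mem_centralizer_singleton_iff.mp (this hbm))
  have hgen := E.sc.eq_sup_two inf_le_left hW.ge ha hb (fun e => haV e.2) hbW
  have hcen : ∀ x : S, a * x = x * a → b * x = x * b → (∀ w ∈ A ⊓ V, w * x = x * w) → x ∈ A := by
    intro x h1 h2 h3
    refine E.sc.mem_of_commute fun c hc => ?_
    have : A ≤ centralizer ({x} : Set S) := by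
      rw [← hgen]
      refine sup_le (sup_le (fun w hw => mem_centralizer_singleton_iff.mpr (h3 w hw)) ?_) ?_
      · exact zpowers_le.mpr (mem_centralizer_singleton_iff.mpr h1)
      · exact zpowers_le.mpr (mem_centralizer_singleton_iff.mpr h2)
    exact mem_centralizer_singleton_iff.mp (this hc)
  refine ⟨b, hb, fun e => hne (E.ne.comm b e p hp.1), p, hp.1, hpa,
    fun e => hne (commutatorElement_eq_one_iff_mul_comm.mp e), ⟨hcen _ ?_ ?_ ?_, comm_mem E.ne.normal b hp.1⟩, hcen⟩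
  · have c1 : Commute a p := hpa
    have c2 : Commute a b := E.sc.comm a ha b hb
    rw [commutatorElement_def]
    exact (((c2.mul_right c1).mul_right c2.inv_right).mul_right c1.inv_right).eq
  · exact (fixed_of_involution E.ne.normal E.ne.sq (E.sc.sq b hb) hp.1).symm
  · exact fun w hw => E.ne.comm w hw.2 _ (comm_mem E.ne.normal b hp.1)

/-- An element of `A` outside `V` fixes only elements of `V` in `B`. -/
theorem Eight.fixed_mem (E : Eight A V B) {a b : S} (ha : a ∈ A) (haV : a ∉ V) (hb : b ∈ B)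
    (hab : a * b = b * a) : b ∈ V := by
  have hWc : ∀ x ∈ B, ∀ w ∈ A ⊓ V, w * x = x * w := fun x hx w hw => E.bc w (E.vle hw.2) x hx
  rcases E.inf_cases with hW | hW
  · obtain ⟨c, hc, -, p, hp, hap, hne, hmem, hcen⟩ := E.second hW ha haV
    by_contra hbV
    -- a fixed element whose square is the central involution
    obtain ⟨r, hr, har, hr1, hrW⟩ : ∃ r ∈ B, a * r = r * a ∧ r ^ 2 ≠ 1 ∧ r ^ 2 ∈ A ⊓ V := by
      have hb1 : b ^ 2 ≠ 1 := fun e => hbV (E.omega b hb e)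
      have hb2V : b ^ 2 ∈ V := E.omega _ (pow_mem hb 2) (by rw [← pow_mul]; exact E.b4 b hb)
      have hab2 : a * b ^ 2 = b ^ 2 * a := Commute.pow_right hab 2
      by_cases hcb : c * b ^ 2 = b ^ 2 * c
      · exact ⟨b, hb, hab, hb1, hcen _ hab2 hcb (hWc _ (pow_mem hb 2)), hb2V⟩
      · have c1 : Commute a b := hab
        have c2 : Commute a c := E.sc.comm a ha c hc
        refine ⟨⁅c, b⁆, comm_mem E.bn c hb, ?_, ?_, ?_⟩
        · rw [commutatorElement_def]
          exact (((c2.mul_right c1).mul_right c2.inv_right).mul_right c1.inv_right).eq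
        · rw [← comm_pow_right E.bn E.bc c hb 2]
          exact fun e => hcb (commutatorElement_eq_one_iff_mul_comm.mp e)
        · rw [← comm_pow_right E.bn E.bc c hb 2]
          refine ⟨hcen _ ?_ (fixed_of_involution E.ne.normal E.ne.sq (E.sc.sq c hc) hb2V).symm
            (hWc _ (comm_mem E.bn c (pow_mem hb 2))), comm_mem E.ne.normal c hb2V⟩
          have c3 : Commute a (b ^ 2) := hab2
          rw [commutatorElement_def]
          exact (((c2.mul_right c3).mul_right c2.inv_right).mul_right c3.inv_right).eq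
    set t := ⁅c, r⁆ with ht
    have ht1 : t ^ 2 = 1 := by
      rw [ht, ← comm_pow_right E.bn E.bc c hr 2]
      exact commutatorElement_eq_one_iff_mul_comm.mpr (E.sc.comm c hc _ hrW.1)
    have htV : t ∈ V := E.omega t (comm_mem E.bn c hr) ht1
    have hct : c * t = t * c := by
      have h1 := conj_commutator_left (b := r) (E.mul_self hc)
      rw [← ht, inv_eq_of_mul_eq_one_right (by rw [← pow_two]; exact ht1 : t * t = 1)] at h1
      exact mul_inv_eq_iff_eq_mul.mp h1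
    have htW : t ∈ A ⊓ V := by
      refine ⟨hcen t ?_ hct (hWc t (E.vle htV)), htV⟩
      have c1 : Commute a r := har
      have c2 : Commute a c := E.sc.comm a ha c hc
      rw [ht, commutatorElement_def]
      exact (((c2.mul_right c1).mul_right c2.inv_right).mul_right c1.inv_right).eq
    have hfix : ∀ r' ∈ B, a * r' = r' * a → ⁅c, r'⁆ = 1 → r' ^ 2 = 1 := fun r' h1 h2 h3 =>
      E.sc.sq r' (hcen r' h2 (commutatorElement_eq_one_iff_mul_comm.mp h3) (hWc r' h1))
    by_cases ht0 : t = 1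
    · exact hr1 (hfix r hr har (ht ▸ ht0))
    have heq : ⁅c, p⁆ = t := by
      by_contra hneq
      classical
      have hsub : (({1, t, ⁅c, p⁆} : Finset S) : Set S) ⊆ ((A ⊓ V : Subgroup S) : Set S) := by
        intro w hw
        simp only [Finset.coe_insert, Finset.coe_singleton, Set.mem_insert_iff, Set.mem_singleton_iff] at hw
        rcases hw with rfl | rfl | rfl
        · exact one_mem _
        · exact htW
        · exact hmem
      have := Set.ncard_le_ncard hsub (Set.toFinite _)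
      rw [Set.ncard_coe_finset, ← Nat.card_coe_set_eq, SetLike.coe_sort_coe, hW,
        Finset.card_eq_three.mpr ⟨1, t, ⁅c, p⁆, Ne.symm ht0, hne.symm, Ne.symm hneq, rfl⟩] at this
      omega
    have h2 := hfix (r * p) (mul_mem hr (E.vle hp)) (Commute.mul_right har hap)
      (by rw [comm_mul_right E.bn E.bc c hr (E.vle hp), heq, ← ht, ← pow_two]; exact ht1)
    rw [Commute.mul_pow (E.bc r hr p (E.vle hp)), E.ne.sq p hp, mul_one] at h2
    exact hr1 h2
  · exact E.omega b hb (E.sc.sq b (E.mem_A_four hW ha haV hab (hWc b hb)))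

theorem Eight.mem_of_comm_eq (E : Eight A V B) {a b r : S} (ha : a ∈ A) (haV : a ∉ V) (hb : b ∈ B) (hr : r ∈ V)
    (e : ⁅a, b⁆ = ⁅a, r⁆) : b ∈ V := by
  have h1 : ⁅a, b * r⁻¹⁆ = 1 := by
    rw [comm_mul_right E.bn E.bc a hb (inv_mem (E.vle hr)), comm_inv_right E.bn E.bc a (E.vle hr), e, mul_inv_cancel]
  have := E.fixed_mem ha haV (mul_mem hb (inv_mem (E.vle hr))) (commutatorElement_eq_one_iff_mul_comm.mp h1)
  have := mul_mem this hr
  rwa [inv_mul_cancel_right] at this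

theorem Eight.sq_fixed (E : Eight A V B) {a b : S} (ha : a ∈ A) (hb : b ∈ B) : a * b ^ 2 = b ^ 2 * a := by
  have hb2V : b ^ 2 ∈ V := E.omega _ (pow_mem hb 2) (by rw [← pow_mul]; exact E.b4 b hb)
  by_cases haV : a ∈ V
  · exact E.ne.comm a haV _ hb2V
  have hcB := comm_mem E.bn a hb
  have h1 := comm_of_inverted (conj_commutator_left (b := b) (E.mul_self ha))
  have h4 : (⁅a, b⁆ ^ 2)⁻¹ = ⁅a, b⁆ ^ 2 :=
    inv_eq_of_mul_eq_one_right (by rw [← pow_add]; exact E.b4 _ hcB)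
  rw [h4, ← comm_pow_right E.bn E.bc a hb 2] at h1
  have h2 := E.ne.sq _ (E.mem_of_comm_eq ha haV hcB hb2V h1)
  rw [← comm_pow_right E.bn E.bc a hb 2] at h2
  exact commutatorElement_eq_one_iff_mul_comm.mp h2

theorem Eight.comm_fixed (E : Eight A V B) {a b : S} (ha : a ∈ A) (hb : b ∈ B) :
    ⁅a, b⁆ ∈ V ∧ a * ⁅a, b⁆ = ⁅a, b⁆ * a := by
  have h2 : ⁅a, b⁆ ^ 2 = 1 := by
    rw [← comm_pow_right E.bn E.bc a hb 2]
    exact commutatorElement_eq_one_iff_mul_comm.mpr (E.sq_fixed ha hb)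
  refine ⟨E.omega _ (comm_mem E.bn a hb) h2, ?_⟩
  have h1 := conj_commutator_left (b := b) (E.mul_self ha)
  rw [inv_eq_of_mul_eq_one_right (by rw [← pow_two]; exact h2 : ⁅a, b⁆ * ⁅a, b⁆ = 1)] at h1
  exact mul_inv_eq_iff_eq_mul.mp h1

theorem Eight.card_comm (E : Eight A V B) {a : S} (ha : a ∈ A) (haV : a ∉ V) :
    Nat.card B = 16 ∧ commImage E.bn E.bc a B = V ⊓ centralizer ({a} : Set S) := by
  have : Fact (Nat.Prime 2) := ⟨Nat.prime_two⟩
  have hle : commImage E.bn E.bc a B ≤ V ⊓ centralizer ({a} : Set S) := fun w hw => by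
    obtain ⟨b, hb, rfl⟩ := (mem_commImage le_rfl).mp hw
    exact ⟨(E.comm_fixed ha hb).1, mem_centralizer_singleton_iff.mpr (E.comm_fixed ha hb).2.symm⟩
  have hfix : B ⊓ centralizer ({a} : Set S) = V ⊓ centralizer ({a} : Set S) :=
    le_antisymm (fun b hb => ⟨E.fixed_mem ha haV hb.1 (mem_centralizer_singleton_iff.mp hb.2).symm, hb.2⟩)
      (inf_le_inf_right _ E.vle)
  have h := card_image_mul E.bn E.bc a (le_refl B)
  rw [hfix, E.card_fixed ha haV] at h
  have h16 : 16 ≤ Nat.card B := by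
    have := PGroup.mul_card_le_of_lt (p := 2) E.sc.p (lt_of_le_of_ne E.vle fun e => E.bne e.ge)
    rw [E.cardV] at this
    omega
  have h4 := card_le_of_le hle
  rw [E.card_fixed ha haV] at h4
  exact ⟨by omega, PGroup.eq_of_le_of_card_le hle (by rw [E.card_fixed ha haV]; omega)⟩

theorem Eight.exists_comm (E : Eight A V B) {a p : S} (ha : a ∈ A) (haV : a ∉ V) (hp : p ∈ V)
    (hap : a * p = p * a) : ∃ b ∈ B, ⁅a, b⁆ = p :=
  (mem_commImage le_rfl).mp ((E.card_comm ha haV).2.ge ⟨hp, mem_centralizer_singleton_iff.mpr hap.symm⟩)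

theorem Eight.card_B (E : Eight A V B) : Nat.card B = 16 := by
  obtain ⟨a, ha, haV⟩ := SetLike.not_le_iff_exists.mp E.nle
  exact (E.card_comm ha haV).1

theorem Eight.mul_mem_V (E : Eight A V B) {b b' : S} (hb : b ∈ B) (hbV : b ∉ V) (hb' : b' ∈ B) (hb'V : b' ∉ V) :
    b * b' ∈ V ∧ b * b'⁻¹ ∈ V ∧ b⁻¹ * b' ∈ V :=
  mul_mem_of_card_le E.vle (by rw [E.card_B, E.cardV]) hb hbV hb' hb'V

theorem Eight.exists_u (E : Eight A V B) :
    ∃ u : S, u ≠ 1 ∧ u ∈ center S ∧ ∀ b ∈ B, b ∉ V → b ^ 2 = u := by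
  obtain ⟨y, hy, hyV⟩ := SetLike.not_le_iff_exists.mp E.bne
  have hsq : ∀ b ∈ B, b ∉ V → b ^ 2 = y ^ 2 := fun b hb hbV => by
    have hr := (E.mul_mem_V hy hyV hb hbV).2.2
    have e : b = y * (y⁻¹ * b) := by group
    rw [e, Commute.mul_pow (E.bc y hy _ (E.vle hr)), E.ne.sq _ hr, mul_one]
  refine ⟨y ^ 2, fun e => hyV (E.omega y hy e), mem_center_iff.mpr fun g => ?_, hsq⟩
  have h1 := hsq (g * y * g⁻¹) (E.bn.conj_mem y hy g) fun e => hyV (by
    have := E.ne.normal.conj_mem _ e g⁻¹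
    rwa [show g⁻¹ * (g * y * g⁻¹) * g⁻¹⁻¹ = y by group] at this)
  rw [conj_pow] at h1
  exact mul_inv_eq_iff_eq_mul.mp h1

/-- With the central involution `u`. -/
structure EightU (A V B : Subgroup S) (u : S) : Prop extends Eight A V B where
  u1 : u ≠ 1
  uc : u ∈ center S
  usq : ∀ b ∈ B, b ∉ V → b ^ 2 = u

variable {u : S}

theorem EightU.sq_cases (E : EightU A V B u) {b : S} (hb : b ∈ B) : b ^ 2 = 1 ∨ b ^ 2 = u :=
  (em (b ∈ V)).imp (E.ne.sq b) (E.usq b hb)

theorem EightU.u_mem (E : EightU A V B u) : u ∈ A ⊓ V := by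
  obtain ⟨y, hy, hyV⟩ := SetLike.not_le_iff_exists.mp E.bne
  have huV : u ∈ V := by
    rw [← E.usq y hy hyV]
    exact E.omega _ (pow_mem hy 2) (by rw [← pow_mul]; exact E.b4 y hy)
  exact E.sc.fixed_le_inf E.ne huV fun a _ => mem_center_iff.mp E.uc a

theorem EightU.u_sq (E : EightU A V B u) : u * u = 1 := by rw [← pow_two]; exact E.ne.sq u E.u_mem.2

theorem EightU.D_normal (E : EightU A V B u) : (centralizer (B : Set S)).Normal :=
  haveI := E.bn
  inferInstance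

theorem EightU.B_le (E : EightU A V B u) : B ≤ centralizer (B : Set S) :=
  fun b hb => mem_centralizer_iff.mpr fun c hc => E.bc c hc b hb

theorem EightU.V_le (E : EightU A V B u) : V ≤ centralizer (B : Set S) := E.vle.trans E.B_le

theorem EightU.D_le_C (E : EightU A V B u) : centralizer (B : Set S) ≤ centralizer (V : Set S) :=
  centralizer_le (SetLike.coe_subset_coe.mpr E.vle)

theorem EightU.omega2_D (E : EightU A V B u) : Omega2Central (centralizer (B : Set S)) :=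
  fun x hx h4 _ hy => ((mem_centralizer_iff.mp hy) x (E.big x hx h4)).symm

theorem EightU.omega_D (E : EightU A V B u) {x : S} (hx : x ∈ centralizer (B : Set S)) (h2 : x ^ 2 = 1) : x ∈ V :=
  E.omega x (E.big x hx (by rw [show 4 = 2 * 2 from rfl, pow_mul, h2, one_pow])) h2

theorem EightU.comm_D (E : EightU A V B u) :
    ∀ x ∈ centralizer (B : Set S), ∀ y ∈ centralizer (B : Set S), x * y = y * x := by
  refine E.omega2_D.commute_of_top E.sc.p (e := u) fun x hx h8 => ?_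
  have hB : x ^ 2 ∈ B := E.big _ (pow_mem hx 2) (by rw [← pow_mul]; exact h8)
  rcases E.sq_cases hB with e | e <;> rw [← pow_mul] at e
  · exact Or.inl e
  · exact Or.inr e

theorem EightU.comm_mul_D (E : EightU A V B u) (g : S) {b c : S} (hb : b ∈ centralizer (B : Set S))
    (hc : c ∈ centralizer (B : Set S)) : ⁅g, b * c⁆ = ⁅g, b⁆ * ⁅g, c⁆ :=
  comm_mul_right E.D_normal E.comm_D g hb hc

/-- A power in `B` outside `V`. -/
theorem EightU.exists_four (E : EightU A V B u) {x : S} (hx : x ∈ centralizer (B : Set S)) (hx2 : x ^ 2 ≠ 1) :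
    ∃ k : ℕ, x ^ 2 ^ k ∈ B ∧ x ^ 2 ^ k ∉ V := by
  obtain ⟨j, hj⟩ := E.sc.p x
  induction j generalizing x with
  | zero => rw [pow_zero, pow_one] at hj; exact absurd (by rw [hj, one_pow]) hx2
  | succ j ih =>
    by_cases h4 : x ^ 4 = 1
    · refine ⟨0, ?_, ?_⟩ <;> rw [pow_zero, pow_one]
      · exact E.big x hx h4
      · exact fun e => hx2 (E.ne.sq x e)
    · obtain ⟨k, hk⟩ := ih (x := x ^ 2) (pow_mem hx 2) (by rwa [← pow_mul])
        (by rw [← pow_mul, ← pow_succ']; exact hj)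
      refine ⟨k + 1, ?_⟩
      rwa [← pow_mul, ← pow_succ'] at hk

/-- A square root in `C(B)` of an element of `B` outside `V`. -/
theorem EightU.exists_eight (E : EightU A V B u) {x : S} (hx : x ∈ centralizer (B : Set S)) (hxB : x ∉ B) :
    ∃ z ∈ centralizer (B : Set S), z ∉ B ∧ z ^ 2 ∈ B ∧ z ^ 2 ∉ V := by
  obtain ⟨k, hk, hkV⟩ := E.exists_four hx fun e => hxB (E.big x hx (by rw [show 4 = 2 * 2 from rfl, pow_mul, e, one_pow]))
  cases k with
  | zero => rw [pow_zero, pow_one] at hk; exact absurd hk hxB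
  | succ k =>
    rw [pow_succ, pow_mul] at hk hkV
    exact ⟨x ^ 2 ^ k, pow_mem hx _, fun e => hkV (E.omega _ hk (by rw [← pow_mul]; exact E.b4 _ e)), hk, hkV⟩

theorem EightU.sq_inter (E : EightU A V B u) {e : S} (he : e ∈ centralizer (B : Set S)) (hV : e ^ 2 ∈ V) :
    e ^ 2 = 1 ∨ e ^ 2 = u :=
  E.sq_cases (E.big e he (by rw [show 4 = 2 * 2 from rfl, pow_mul]; exact E.ne.sq _ hV))

theorem EightU.exists_sq (E : EightU A V B u) {w : S} (hw : w ∈ sq (centralizer (B : Set S))) :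
    ∃ e ∈ centralizer (B : Set S), e ^ 2 = w := by
  induction hw using closure_induction with
  | mem w hw => obtain ⟨e, he, rfl⟩ := hw; exact ⟨e, he, rfl⟩
  | one => exact ⟨1, one_mem _, one_pow 2⟩
  | mul w w' _ _ h h' =>
    obtain ⟨e, he, rfl⟩ := h
    obtain ⟨e', he', rfl⟩ := h'
    exact ⟨e * e', mul_mem he he', Commute.mul_pow (E.comm_D e he e' he') 2⟩
  | inv w _ h =>
    obtain ⟨e, he, rfl⟩ := h
    exact ⟨e⁻¹, inv_mem he, inv_pow e 2⟩

/-- The bound on `C(B)`. -/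
theorem EightU.card_le_eight (E : EightU A V B u) {H N : Subgroup S} (hsq : ∀ x ∈ H, x ^ 2 ∈ N) :
    Nat.card (H ⊓ centralizer (B : Set S) : Subgroup S) ≤ 8 * Nat.card (N ⊓ centralizer (B : Set S) : Subgroup S) := by
  have hc : Omega2Central (H ⊓ centralizer (B : Set S) : Subgroup S) := fun x hx h4 y hy => E.omega2_D x hx.2 h4 y hy.2
  refine (hc.card_le E.sc.p (U := V) fun x hx h2 => E.omega_D hx.2 h2).trans ?_
  rw [E.cardV]
  exact Nat.mul_le_mul_left _ (card_le_of_le (sq_le_iff.mpr fun x hx => ⟨hsq x hx.1, pow_mem hx.2 2⟩))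

/-- The improved bound on `C(B)`. -/
theorem EightU.card_le_four (E : EightU A V B u) {H N : Subgroup S} (hsq : ∀ x ∈ H, x ^ 2 ∈ N)
    (hred : ¬ V ≤ H ∨ ∃ w ∈ N, w ∈ centralizer (B : Set S) ∧ w ∉ sq (H ⊓ centralizer (B : Set S))) :
    Nat.card (H ⊓ centralizer (B : Set S) : Subgroup S) ≤ 4 * Nat.card (N ⊓ centralizer (B : Set S) : Subgroup S) := by
  have : Fact (Nat.Prime 2) := ⟨Nat.prime_two⟩
  set D := centralizer (B : Set S)
  have hc : Omega2Central (H ⊓ D : Subgroup S) := fun x hx h4 y hy => E.omega2_D x hx.2 h4 y hy.2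
  have hsqle : sq (H ⊓ D) ≤ N ⊓ D := sq_le_iff.mpr fun x hx => ⟨hsq x hx.1, pow_mem hx.2 2⟩
  rcases hred with hVH | ⟨w, hwN, hwD, hw⟩
  · refine (hc.card_le E.sc.p (U := V ⊓ H) fun x hx h2 => ⟨E.omega_D hx.2 h2, hx.1⟩).trans
      (Nat.mul_le_mul ?_ (card_le_of_le hsqle))
    have := PGroup.mul_card_le_of_lt (p := 2) E.sc.p
      (lt_of_le_of_ne (inf_le_left : V ⊓ H ≤ V) fun e => hVH (inf_eq_left.mp e))
    rw [E.cardV] at this
    omega
  · refine (hc.card_le E.sc.p (U := V) fun x hx h2 => E.omega_D hx.2 h2).trans ?_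
    have := PGroup.mul_card_le_of_lt (p := 2) E.sc.p
      (lt_of_le_of_ne hsqle fun e => hw (e.ge ⟨hwN, hwD⟩))
    rw [E.cardV]
    omega

end Cfsg.Agent.Sectional
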