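import Cfsg.Agent.Lib.Sectional.MacWilliams
import Cfsg.Agent.Lib.Sectional.NormalEightBase
import Cfsg.Agent.Lib.PGroup.Basic
import Cfsg.Agent.Lib.AlperinFamily.Basic

/-!
# A four-group `B` whose involutions all have centralizer `T` (helper23)

`S` is a finite 2-group, `T` an elementary abelian subgroup of order sixteen, `B ≤ T` a four-group
such that `C_S(b) = T` for `b ∈ B`, `b ≠ 1` (`Four T B`).

* `Four.fixed`: an element of `N(T)` outside `T`, with square in `T`, fixes exactly four elements of `T`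
* `Four.elem_bound`: a subgroup of `N(T)` over `T` with all squares in `T` has order at most `64`
* `Four.sectional`: `S` has sectional rank at most four
-/

set_option autoImplicit false
set_option linter.style.haveILetI false
set_option linter.unusedSectionVars false

open Subgroup
open scoped commutatorElement Pointwise

namespace Cfsg.Agent.Sectional.FourDirect

variable {S : Type*} [Group S]

/-- The hypotheses. -/
structure Four (T B : Subgroup S) : Prop where
  sq : ∀ t ∈ T, t ^ 2 = 1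
  card : Nat.card T = 16
  le : B ≤ T
  cardB : Nat.card B = 4
  cent : ∀ b ∈ B, b ≠ 1 → ∀ s : S, s * b = b * s → s ∈ T

theorem conj_mem {T : Subgroup S} {y t : S} (hy : y ∈ normalizer (T : Set S)) (ht : t ∈ T) :
    y * t * y⁻¹ ∈ T := (mem_normalizer_iff.1 hy t).1 ht

/-- Counting by a function whose fibres lie in cosets of `T`. -/
theorem card_le_of_cosets [Finite S] (T X : Subgroup S) {β : Type*} [Finite β] (f : X → β)
    (h : ∀ x x' : X, f x = f x' → (x : S)⁻¹ * x' ∈ T) : Nat.card X ≤ Nat.card β * Nat.card T := by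
  classical
  let r : β → S := fun b => if hb : ∃ x : X, f x = b then (hb.choose : S) else 1
  have hr : ∀ x : X, (r (f x))⁻¹ * (x : S) ∈ T := by
    intro x
    have hb : ∃ x' : X, f x' = f x := ⟨x, rfl⟩
    simp only [r, dif_pos hb]
    exact h _ _ hb.choose_spec
  rw [← Nat.card_prod]
  refine Nat.card_le_card_of_injective (fun x : X => (f x, (⟨_, hr x⟩ : T))) fun x y hxy => ?_
  simp only [Prod.mk.injEq, Subtype.mk.injEq] at hxy
  obtain ⟨h1, h2⟩ := hxy
  rw [h1] at h2
  exact Subtype.ext (mul_left_cancel h2)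

/-- In a 2-group an element outside `T` has a power outside `T` with square in `T`. -/
theorem exists_pow_sq (hS : IsPGroup 2 S) {T : Subgroup S} {x : S} (hx : x ∉ T) :
    ∃ k : ℕ, x ^ k ∉ T ∧ (x ^ k) ^ 2 ∈ T := by
  classical
  obtain ⟨n, hn⟩ := hS x
  have hex : ∃ j, x ^ 2 ^ j ∈ T := ⟨n, by rw [hn]; exact one_mem T⟩
  have h0 : Nat.find hex ≠ 0 := fun e => hx (by simpa [e] using Nat.find_spec hex)
  obtain ⟨j, hj⟩ := Nat.exists_eq_succ_of_ne_zero h0
  refine ⟨2 ^ j, Nat.find_min hex (by omega), ?_⟩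
  rw [← pow_mul, ← pow_succ]
  have := Nat.find_spec hex
  rwa [hj] at this

variable {T B : Subgroup S}

theorem Four.inv_eq (h : Four T B) {t : S} (ht : t ∈ T) : t⁻¹ = t :=
  inv_eq_of_mul_eq_one_right (by rw [← pow_two]; exact h.sq t ht)

theorem Four.comm (h : Four T B) {a b : S} (ha : a ∈ T) (hb : b ∈ T) : a * b = b * a := by
  rw [← h.inv_eq (mul_mem ha hb), _root_.mul_inv_rev, h.inv_eq ha, h.inv_eq hb]

theorem Four.mem_norm (h : Four T B) {t : S} (ht : t ∈ T) : t ∈ normalizer (T : Set S) :=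
  Subgroup.le_normalizer ht

theorem Four.fixed_card_le [Finite S] (h : Four T B) {y : S} (hy : y ∉ T) :
    Nat.card (T ⊓ centralizer ({y} : Set S) : Subgroup S) ≤ 4 := by
  set F := T ⊓ centralizer ({y} : Set S) with hF
  have hle : Nat.card (F × B) ≤ Nat.card T := by
    refine Nat.card_le_card_of_injective (fun z => (⟨(z.1 : S) * z.2, mul_mem z.1.2.1 (h.le z.2.2)⟩ : T)) ?_
    rintro ⟨⟨f, hf⟩, ⟨b, hb⟩⟩ ⟨⟨f', hf'⟩, ⟨b', hb'⟩⟩ e
    simp only [Subtype.mk.injEq] at e
    have e2 : f'⁻¹ * f = b' * b⁻¹ := by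
      calc f'⁻¹ * f = f'⁻¹ * (f * b) * b⁻¹ := by group
        _ = f'⁻¹ * (f' * b') * b⁻¹ := by rw [e]
        _ = _ := by group
    have h1 : b' * b⁻¹ ∈ F := e2 ▸ mul_mem (inv_mem hf') hf
    have h2 : b' * b⁻¹ = 1 := by
      by_contra hne
      exact hy (h.cent _ (mul_mem hb' (inv_mem hb)) hne y (mem_centralizer_singleton_iff.1 h1.2).symm)
    rw [h2, inv_mul_eq_one] at e2
    rw [mul_inv_eq_one] at h2
    simp only [Prod.mk.injEq, Subtype.mk.injEq]
    exact ⟨e2.symm, h2.symm⟩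
  rw [Nat.card_prod, h.cardB, h.card] at hle
  omega

/-- `t ↦ ⁅t, y⁆` on `T`. -/
def Four.commHom (h : Four T B) {y : S} (hy : y ∈ normalizer (T : Set S)) : T →* T where
  toFun t := ⟨⁅(t : S), y⁆, by
    rw [show ⁅(t : S), y⁆ = (t : S) * (y * (t : S)⁻¹ * y⁻¹) by rw [commutatorElement_def]; group]
    exact mul_mem t.2 (conj_mem hy (inv_mem t.2))⟩
  map_one' := Subtype.ext (by simp)
  map_mul' := by
    rintro ⟨t, ht⟩ ⟨t', ht'⟩
    refine Subtype.ext ?_
    show ⁅t * t', y⁆ = ⁅t, y⁆ * ⁅t', y⁆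
    have hc := conj_mem hy (inv_mem ht)
    have hc' := conj_mem hy (inv_mem ht')
    calc ⁅t * t', y⁆ = t * (t' * (y * t'⁻¹ * y⁻¹) * (y * t⁻¹ * y⁻¹)) := by
          rw [commutatorElement_def]; group
      _ = t * ((y * t⁻¹ * y⁻¹) * (t' * (y * t'⁻¹ * y⁻¹))) := by rw [h.comm (mul_mem ht' hc') hc]
      _ = _ := by simp only [commutatorElement_def]; group

theorem Four.commutator_fixed (h : Four T B) {y : S} (hy : y ∈ normalizer (T : Set S)) (hy2 : y ^ 2 ∈ T)
    {t : S} (ht : t ∈ T) : ⁅t, y⁆ ∈ T ⊓ centralizer ({y} : Set S) := by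
  have hc : ⁅t, y⁆ ∈ T := (h.commHom hy ⟨t, ht⟩).2
  refine ⟨hc, mem_centralizer_singleton_iff.2 ?_⟩
  have h2 : y * ⁅t, y⁆ * y⁻¹ = ⁅t, y⁆⁻¹ := by
    calc y * ⁅t, y⁆ * y⁻¹ = (y * t * y⁻¹) * (y ^ 2 * t⁻¹ * (y ^ 2)⁻¹) := by
          rw [commutatorElement_def, pow_two]; group
      _ = (y * t * y⁻¹) * t⁻¹ := by rw [h.comm hy2 (inv_mem ht), mul_inv_cancel_right]
      _ = _ := by rw [commutatorElement_def]; group
  rw [h.inv_eq hc, mul_inv_eq_iff_eq_mul] at h2
  exact h2.symm

/-- An element of `N(T)` outside `T` fixes exactly four elements of `T`. -/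
theorem Four.fixed [Finite S] (h : Four T B) {y : S} (hy : y ∈ normalizer (T : Set S)) (hyT : y ∉ T)
    (hy2 : y ^ 2 ∈ T) : Nat.card (T ⊓ centralizer ({y} : Set S) : Subgroup S) = 4 ∧
      ∀ f ∈ T ⊓ centralizer ({y} : Set S), ∃ t ∈ T, ⁅t, y⁆ = f := by
  set F := T ⊓ centralizer ({y} : Set S) with hF
  have h4 := h.fixed_card_le hyT
  set φ := h.commHom hy
  have hker : Nat.card φ.ker ≤ Nat.card F := by
    refine Nat.card_le_card_of_injective (fun x => (⟨(x.1 : S), x.1.2, mem_centralizer_singleton_iff.2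
      (commutatorElement_eq_one_iff_mul_comm.1 (congrArg Subtype.val x.2))⟩ : F)) fun x x' e => ?_
    exact Subtype.ext (Subtype.ext (congrArg Subtype.val e :))
  let ι : φ.range → F := fun x => ⟨(x.1 : S), by
    obtain ⟨t, ht⟩ := x.2
    rw [← ht]
    exact h.commutator_fixed hy hy2 t.2⟩
  have hι : Function.Injective ι := fun x x' e => by
    simp only [ι, Subtype.mk.injEq] at e
    exact Subtype.ext (Subtype.ext e)
  have hran := Nat.card_le_card_of_injective ι hι
  have hmul := φ.ker.card_mul_index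
  rw [index_ker, h.card] at hmul
  have h16 : 16 ≤ Nat.card F * Nat.card F := by rw [← hmul]; exact Nat.mul_le_mul hker hran
  rw [← hF] at h4
  have hF4 : Nat.card F = 4 := by nlinarith
  refine ⟨hF4, fun f hf => ?_⟩
  have h' : Nat.card F ≤ Nat.card φ.range := by
    rw [hF4]
    by_contra hlt
    have := Nat.mul_le_mul (hker.trans h4) (show Nat.card φ.range ≤ 3 by omega)
    omega
  obtain ⟨⟨x, ⟨t, rfl⟩⟩, hx⟩ := ((Nat.bijective_iff_injective_and_card ι).2 ⟨hι, le_antisymm hran h'⟩).2 ⟨f, hf⟩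
  exact ⟨t, t.2, congrArg Subtype.val hx⟩

theorem Four.fixed_eq [Finite S] (h : Four T B) {y : S} (hy : y ∈ normalizer (T : Set S)) (hyT : y ∉ T)
    (hy2 : y ^ 2 ∈ T) {W : Subgroup S} (hWT : W ≤ T) (hW : ∀ w ∈ W, y * w = w * y) (hW4 : 4 ≤ Nat.card W) :
    T ⊓ centralizer ({y} : Set S) = W :=
  (Subgroup.eq_of_le_of_card_ge (le_inf hWT fun w hw => mem_centralizer_singleton_iff.2 (hW w hw).symm)
    (by rw [(h.fixed hy hyT hy2).1]; exact hW4)).symm


theorem Four.exists_ne_one [Finite S] (h : Four T B) : ∃ b ∈ B, b ≠ 1 := by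
  by_contra hc
  push Not at hc
  have : B = ⊥ := (Subgroup.eq_bot_iff_forall B).2 hc
  have h4 := h.cardB
  rw [this, Subgroup.card_bot] at h4
  omega

/-- A subgroup of `N(T)` over `T` all of whose squares lie in `T` has order at most `64`. -/
theorem Four.elem_bound [Finite S] (h : Four T B) {E : Subgroup S} (hTE : T ≤ E)
    (hEN : E ≤ normalizer (T : Set S)) (hsq : ∀ e ∈ E, e ^ 2 ∈ T) : Nat.card E ≤ 64 := by
  classical
  by_cases hET : E ≤ T
  · have := card_le_of_le hET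
    rw [h.card] at this
    omega
  obtain ⟨y, hyE, hyT⟩ := SetLike.not_le_iff_exists.1 hET
  obtain ⟨hF4, -⟩ := h.fixed (hEN hyE) hyT (hsq y hyE)
  set F := T ⊓ centralizer ({y} : Set S) with hF
  have hcom : ∀ {a b : S}, a ∈ E → b ∈ E → ⁅a, b⁆ ∈ T := fun ha hb => commutator_mem_of_sq hsq ha hb
  -- elements of `E` permute the fixed points of one another
  have hperm : ∀ {a e f : S}, a ∈ E → e ∈ E → f ∈ T → f * a = a * f →
      e * f * e⁻¹ ∈ T ∧ (e * f * e⁻¹) * a = a * (e * f * e⁻¹) := by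
    intro a e f ha he hf hfa
    have hfe := conj_mem (hEN he) hf
    refine ⟨hfe, ?_⟩
    have hc : ⁅e⁻¹, a⁆ ∈ T := hcom (inv_mem he) ha
    have k : f * ⁅e⁻¹, a⁆ = ⁅e⁻¹, a⁆ * f := h.comm hf hc
    calc e * f * e⁻¹ * a = e * (f * ⁅e⁻¹, a⁆) * a * e⁻¹ := by rw [commutatorElement_def]; group
      _ = e * ⁅e⁻¹, a⁆ * (f * a) * e⁻¹ := by rw [k]; group
      _ = e * ⁅e⁻¹, a⁆ * (a * f) * e⁻¹ := by rw [hfa]
      _ = _ := by rw [commutatorElement_def]; group
  have hperm' : ∀ {e f : S}, e ∈ E → f ∈ F → e * f * e⁻¹ ∈ F := fun he hf => by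
    obtain ⟨h1, h2⟩ := hperm hyE he hf.1 (mem_centralizer_singleton_iff.1 hf.2)
    exact ⟨h1, mem_centralizer_singleton_iff.2 h2⟩
  set E0 := E ⊓ centralizer (F : Set S) with hE0
  obtain ⟨b, hbB, hb1⟩ := h.exists_ne_one
  have hfix0 : ∀ {e : S}, e ∈ E0 → e ∉ T → T ⊓ centralizer ({e} : Set S) = F := fun {e} he heT =>
    h.fixed_eq (hEN he.1) heT (hsq e he.1) inf_le_left (fun w hw => (mem_centralizer_iff.1 he.2 w hw).symm) hF4.ge
  have hb0 : ∀ {e : S}, e ∈ E0 → ⁅b, e⁆ ∈ F := fun {e} he => by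
    by_cases heT : e ∈ T
    · rw [commutatorElement_eq_one_iff_mul_comm.2 (h.comm (h.le hbB) heT)]
      exact one_mem F
    · rw [← hfix0 he heT]
      exact h.commutator_fixed (hEN he.1) (hsq e he.1) (h.le hbB)
  have hA : Nat.card E0 ≤ 64 := by
    have := card_le_of_cosets T E0 (fun e => (⟨_, hb0 e.2⟩ : F)) fun x x' hxx => by
      have e1 : ⁅b, (x : S)⁆ = ⁅b, (x' : S)⁆ := congrArg Subtype.val hxx
      refine h.cent b hbB hb1 _ ?_
      have e2 : (x : S) * b⁻¹ * (x : S)⁻¹ = (x' : S) * b⁻¹ * (x' : S)⁻¹ := by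
        simpa [commutatorElement_def, mul_assoc] using e1
      have e3 : (x : S)⁻¹ * x' * b⁻¹ = b⁻¹ * ((x : S)⁻¹ * x') := by
        calc (x : S)⁻¹ * x' * b⁻¹ = (x : S)⁻¹ * ((x' : S) * b⁻¹ * (x' : S)⁻¹) * x' := by group
          _ = (x : S)⁻¹ * ((x : S) * b⁻¹ * (x : S)⁻¹) * x' := by rw [e2]
          _ = _ := by group
      rwa [h.inv_eq (h.le hbB)] at e3
    rw [hF4, h.card] at this
    exact this
  by_cases hall : E ≤ centralizer (F : Set S)
  · rwa [hE0, inf_eq_left.2 hall] at hA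
  obtain ⟨e, he, hne⟩ := SetLike.not_le_iff_exists.1 hall
  obtain ⟨g, hg, hge⟩ : ∃ g ∈ F, g * e ≠ e * g := by
    by_contra hc
    push Not at hc
    exact hne (mem_centralizer_iff.2 hc)
  have heT : e ∉ T := fun heT => hge (h.comm hg.1 heT)
  set z := ⁅g, e⁆ with hz
  have hz1 : z ≠ 1 := fun e' => hge (commutatorElement_eq_one_iff_mul_comm.1 e')
  have hzC := h.commutator_fixed (hEN he) (hsq e he) hg.1
  rw [← hz] at hzC
  have hze : z * e = e * z := mem_centralizer_singleton_iff.1 hzC.2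
  have hzF : z ∈ F := by
    rw [hz, show ⁅g, e⁆ = g * (e * g⁻¹ * e⁻¹) by rw [commutatorElement_def]; group]
    exact mul_mem hg (hperm' he (inv_mem hg))
  have hfour : ∀ w ∈ F, w = 1 ∨ w = z ∨ w = g ∨ w = g * z := by
    have hg1 : g ≠ 1 := fun e' => hge (by rw [e', one_mul, mul_one])
    have hgz : g ≠ z := fun e' => hge (by rw [e']; exact hze)
    have hgz1 : g * z ≠ 1 := fun e' => hgz ((eq_inv_of_mul_eq_one_left e').trans (h.inv_eq hzC.1))
    have hcard4 : ({1, z, g, g * z} : Finset S).card = 4 := by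
      rw [Finset.card_insert_of_notMem (by simp [hz1.symm, hg1.symm, hgz1.symm]),
        Finset.card_insert_of_notMem (by simp [hgz.symm, hg1]), Finset.card_pair (by simp [hz1])]
    have hsub : (({1, z, g, g * z} : Finset S) : Set S) ⊆ (F : Set S) := by
      intro w hw
      simp only [Finset.coe_insert, Finset.coe_singleton, Set.mem_insert_iff, Set.mem_singleton_iff] at hw
      rcases hw with rfl | rfl | rfl | rfl
      exacts [one_mem F, hzF, hg, mul_mem hg hzF]
    have heq := Set.eq_of_subset_of_ncard_le hsub (by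
      rw [Set.ncard_coe_finset, hcard4, ← Nat.card_coe_set_eq, SetLike.coe_sort_coe, hF4])
    intro w hw
    have : w ∈ (({1, z, g, g * z} : Finset S) : Set S) := heq ▸ hw
    simpa using this
  have hgzne : (g * z) * e ≠ e * (g * z) := fun h' => hge (by
    have k := Commute.mul_left (show Commute (g * z) e from h') (show Commute z⁻¹ e from Commute.inv_left hze)
    rwa [mul_inv_cancel_right] at k)
  have hfixz : ∀ w ∈ F, w * e = e * w → w = 1 ∨ w = z := by
    intro w hw hwe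
    rcases hfour w hw with h' | h' | h' | h'
    · exact Or.inl h'
    · exact Or.inr h'
    · exact absurd (h' ▸ hwe) hge
    · exact absurd (h' ▸ hwe) hgzne
  have hzfix : ∀ a ∈ E, a * z * a⁻¹ = z := by
    intro a ha
    rcases hfixz _ (hperm' ha hzF) (hperm he ha hzC.1 hze).2 with h' | h'
    · exact absurd (conj_eq_one_iff.1 h') hz1
    · exact h'
  have hgim : ∀ a ∈ E, a * g * a⁻¹ = g ∨ a * g * a⁻¹ = g * z := by
    intro a ha
    rcases hfour _ (hperm' ha hg) with h' | h' | h' | h'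
    · exact absurd (conj_eq_one_iff.1 h') (fun e' => hge (by rw [e', one_mul, mul_one]))
    · exfalso
      have e2 : a * g * a⁻¹ = a * z * a⁻¹ := h'.trans (hzfix a ha).symm
      have e3 := mul_right_cancel e2
      exact hge (mul_left_cancel e3 ▸ hze)
    · exact Or.inl h'
    · exact Or.inr h'
  have hegz : e * g * e⁻¹ = g * z := (hgim e he).resolve_left fun h' => hge (mul_inv_eq_iff_eq_mul.1 h').symm
  -- membership of `E0`
  have hmem0 : ∀ a ∈ E, a * g * a⁻¹ = g → a ∈ E0 := by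
    intro a ha hag
    refine ⟨ha, mem_centralizer_iff.2 fun w hw => ?_⟩
    have k1 : Commute a g := mul_inv_eq_iff_eq_mul.1 hag
    have k2 : Commute a z := mul_inv_eq_iff_eq_mul.1 (hzfix a ha)
    rcases hfour w hw with rfl | rfl | rfl | rfl
    · rw [one_mul, mul_one]
    · exact k2.eq.symm
    · exact k1.eq.symm
    · exact (k1.mul_right k2).eq.symm
  have hcov : ∀ a ∈ E, a ∈ E0 ∨ e⁻¹ * a ∈ E0 := by
    intro a ha
    rcases hgim a ha with h' | h'
    · exact Or.inl (hmem0 a ha h')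
    · refine Or.inr (hmem0 _ (mul_mem (inv_mem he) ha) ?_)
      calc e⁻¹ * a * g * (e⁻¹ * a)⁻¹ = e⁻¹ * (a * g * a⁻¹) * e := by group
        _ = e⁻¹ * (e * g * e⁻¹) * e := by rw [h', hegz]
        _ = g := by group
  have h2 : Nat.card E ≤ 2 * Nat.card E0 := by
    have hcard : Nat.card E ≤ Nat.card (E0 ⊕ E0) := by
      refine Nat.card_le_card_of_injective
        (fun a : E => if ha : (a : S) ∈ E0 then Sum.inl ⟨_, ha⟩ else Sum.inr ⟨_, (hcov a a.2).resolve_left ha⟩)
        fun a a' haa => ?_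
      dsimp only at haa
      split_ifs at haa with k1 k2 k2 <;>
        simp only [Sum.inl.injEq, Sum.inr.injEq, Subtype.mk.injEq, reduceCtorEq] at haa
      · exact Subtype.ext haa
      · exact Subtype.ext (mul_left_cancel haa)
    rw [Nat.card_sum] at hcard
    omega
  -- two independent elements of `E0` are incompatible with `e`
  by_cases htwo : ∃ k₁ ∈ E0, k₁ ∉ T ∧ ∃ k₂ ∈ E0, k₂ ∉ T ∧ k₁⁻¹ * k₂ ∉ T
  · exfalso
    obtain ⟨k₁, hk₁, hk₁T, k₂, hk₂, hk₂T, hk⟩ := htwo
    have hCe := h.fixed (hEN he) heT (hsq e he)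
    obtain ⟨t, ht, htF⟩ : ∃ t ∈ T ⊓ centralizer ({e} : Set S), t ∉ F := by
      by_contra hc
      push Not at hc
      have := Subgroup.eq_of_le_of_card_ge (show T ⊓ centralizer ({e} : Set S) ≤ F from hc)
        (by rw [hCe.1, hF4])
      exact hge (mem_centralizer_singleton_iff.1 ((this.symm ▸ hg : g ∈ T ⊓ centralizer ({e} : Set S))).2)
    have hte : t * e = e * t := mem_centralizer_singleton_iff.1 ht.2
    have hval : ∀ k ∈ E0, k ∉ T → k * t * k⁻¹ = z * t := by
      intro k hk hkT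
      have haF : ⁅t, k⁆ ∈ F := by
        rw [← hfix0 hk hkT]; exact h.commutator_fixed (hEN hk.1) (hsq k hk.1) ht.1
      set c := ⁅e, k⁆ with hc
      have hcT : c ∈ T := hcom he hk.1
      have hm : k * t⁻¹ * k⁻¹ ∈ T := conj_mem (hEN hk.1) (inv_mem ht.1)
      have hfix : e * ⁅t, k⁆ * e⁻¹ = ⁅t, k⁆ := by
        calc e * ⁅t, k⁆ * e⁻¹ = (e * t * e⁻¹) * (c * k * (e * t⁻¹ * e⁻¹) * k⁻¹ * c⁻¹) := by
              rw [hc]; simp only [commutatorElement_def]; group
          _ = t * (c * (k * t⁻¹ * k⁻¹) * c⁻¹) := by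
              rw [← conj_inv, ← hte, mul_inv_cancel_right]; group
          _ = t * (k * t⁻¹ * k⁻¹) := by rw [h.comm hcT hm, mul_inv_cancel_right]
          _ = _ := by rw [commutatorElement_def]; group
      rcases hfixz _ haF (mul_inv_eq_iff_eq_mul.1 hfix).symm with h' | h'
      · refine absurd ?_ htF
        rw [← hfix0 hk hkT]
        exact ⟨ht.1, mem_centralizer_singleton_iff.2 (commutatorElement_eq_one_iff_mul_comm.1 h')⟩
      · have e2 : (k * t * k⁻¹)⁻¹ = t⁻¹ * z := by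
          rw [← h', commutatorElement_def]; group
        rw [h.inv_eq (conj_mem (hEN hk.1) ht.1), h.inv_eq ht.1] at e2
        rw [e2, h.comm ht.1 hzC.1]
    have heq : (k₁⁻¹ * k₂) * t = t * (k₁⁻¹ * k₂) := by
      calc (k₁⁻¹ * k₂) * t = k₁⁻¹ * (k₂ * t * k₂⁻¹) * k₂ := by group
        _ = k₁⁻¹ * (k₁ * t * k₁⁻¹) * k₂ := by rw [hval k₁ hk₁ hk₁T, hval k₂ hk₂ hk₂T]
        _ = _ := by group
    apply htF
    rw [← hfix0 (mul_mem (inv_mem hk₁) hk₂) hk]
    exact ⟨ht.1, mem_centralizer_singleton_iff.2 heq.symm⟩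
  · push Not at htwo
    have : Nat.card E0 ≤ 32 := by
      have h2' := card_le_of_cosets T E0 (fun a => decide ((a : S) ∈ T)) fun x x' hxx => by
        simp only [decide_eq_decide] at hxx
        by_cases hxT : (x : S) ∈ T
        · exact mul_mem (inv_mem hxT) (hxx.1 hxT)
        · exact htwo x x.2 hxT x' x'.2 (fun h' => hxT (hxx.2 h'))
      rw [h.card, Nat.card_eq_fintype_card (α := Bool), Fintype.card_bool] at h2'
      exact h2'
    omega

theorem Four.card_normalizer_le [Finite S] (hS : IsPGroup 2 S) (h : Four T B) :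
    Nat.card (normalizer (T : Set S)) ≤ 128 := by
  classical
  have : Fact (Nat.Prime 2) := ⟨Nat.prime_two⟩
  obtain ⟨b, hbB, hb1⟩ := h.exists_ne_one
  have hle := card_le_of_cosets T (normalizer (T : Set S))
    (fun n => (⟨⟨(n : S) * b * (n : S)⁻¹, conj_mem n.2 (h.le hbB)⟩, fun e => hb1 (conj_eq_one_iff.1
      (congrArg Subtype.val e))⟩ : {t : T // t ≠ 1})) fun x x' hxx => by
    have e1 : (x : S) * b * (x : S)⁻¹ = (x' : S) * b * (x' : S)⁻¹ := by
      simpa only [Subtype.mk.injEq] using hxx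
    refine h.cent b hbB hb1 _ ?_
    calc (x : S)⁻¹ * x' * b = (x : S)⁻¹ * ((x' : S) * b * (x' : S)⁻¹) * x' := by group
      _ = (x : S)⁻¹ * ((x : S) * b * (x : S)⁻¹) * x' := by rw [e1]
      _ = _ := by group
  have h15 : Nat.card {t : T // t ≠ 1} + 1 = 16 := by
    rw [← h.card, ← Nat.card_congr (Equiv.optionSubtypeNe (1 : T)), Finite.card_option]
  rw [h.card] at hle
  refine PGroup.card_le_pow_of_lt_succ hS (k := 7) (p := 2) ?_
  calc _ ≤ Nat.card {t : T // t ≠ 1} * 16 := hle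
    _ < 2 ^ (7 + 1) := by omega

/-- The case of a normal `T`. -/
theorem Four.sectional_of_normal [Finite S] (hS : IsPGroup 2 S) (h : Four T B) [T.Normal] :
    Cfsg.SectionalPRankLE 2 4 S := by
  classical
  have : Fact (Nat.Prime 2) := ⟨Nat.prime_two⟩
  have hN : normalizer (T : Set S) = ⊤ := normalizer_eq_top T
  have hS128 : Nat.card S ≤ 128 := by
    have := h.card_normalizer_le hS
    rwa [hN, Subgroup.card_top] at this
  refine sectionalPRankLE_of fun H N hNH hsq => ?_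
  by_cases hHT : H ≤ T
  · have := card_le_of_le hHT
    rw [h.card] at this
    have := Nat.card_pos (α := N)
    omega
  obtain ⟨x, hxH, hxT⟩ := SetLike.not_le_iff_exists.1 hHT
  obtain ⟨k, hkT, hk2⟩ := exists_pow_sq hS hxT
  set y := x ^ k with hy
  have hyH : y ∈ H := pow_mem hxH k
  have hyN : y ∈ normalizer (T : Set S) := by rw [hN]; exact mem_top y
  obtain ⟨hF4, -⟩ := h.fixed hyN hkT hk2
  -- the part inside `T`
  have hU : Nat.card (H ⊓ T : Subgroup S) ≤ 4 * Nat.card (N ⊓ T : Subgroup S) := by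
    let f : (H ⊓ T : Subgroup S) →* T := (h.commHom hyN).comp (Subgroup.inclusion inf_le_right)
    have hmul := f.ker.card_mul_index
    rw [index_ker] at hmul
    rw [← hmul]
    refine Nat.mul_le_mul ?_ ?_
    · rw [← hF4]
      refine Nat.card_le_card_of_injective (fun a => (⟨(a.1 : S), a.1.2.2, mem_centralizer_singleton_iff.2
        (commutatorElement_eq_one_iff_mul_comm.1 (congrArg Subtype.val a.2))⟩ :
          (T ⊓ centralizer ({y} : Set S) : Subgroup S))) fun a a' e => ?_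
      exact Subtype.ext (Subtype.ext (congrArg Subtype.val e :))
    · refine Nat.card_le_card_of_injective (fun a => (⟨(a.1 : S), by
        obtain ⟨u, hu⟩ := a.2
        rw [← hu]
        exact ⟨commutator_mem_of_sq hsq u.2.1 hyH, ((h.commHom hyN) _).2⟩⟩ : (N ⊓ T : Subgroup S)))
        fun a a' e => ?_
      exact Subtype.ext (Subtype.ext (congrArg Subtype.val e :))
  set f := QuotientGroup.mk' T with hf
  have hH := card_eq_map_mul f H
  rw [QuotientGroup.ker_mk'] at hH
  have h8 : Nat.card (H.map f) ≤ 8 := by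
    have h1 := Subgroup.card_le_card_group (H.map f)
    have h2 := T.card_mul_index
    rw [h.card, Subgroup.index_eq_card] at h2
    omega
  have hNT : Nat.card (N ⊓ T : Subgroup S) ≤ Nat.card N := card_le_of_le inf_le_left
  by_cases hall : ∀ a ∈ H, a ^ 2 ∈ T
  · have hE : Nat.card (H ⊔ T : Subgroup S) ≤ 64 := by
      refine h.elem_bound le_sup_right (by rw [hN]; exact le_top) fun e he => ?_
      obtain ⟨a, ha, t, ht, rfl⟩ := mem_sup_of_normal_right.1 he
      rw [show (a * t) ^ 2 = a ^ 2 * (a⁻¹ * t * a⁻¹⁻¹) * t by rw [pow_two, pow_two]; group]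
      exact mul_mem (mul_mem (hall a ha) (conj_mem (by rw [hN]; exact mem_top _) ht)) ht
    have hE2 := card_eq_map_mul f (H ⊔ T)
    rw [QuotientGroup.ker_mk', inf_eq_right.2 (le_sup_right : T ≤ H ⊔ T), Subgroup.map_sup,
      (Subgroup.map_eq_bot_iff T).2 (by rw [hf, QuotientGroup.ker_mk']), sup_bot_eq, h.card] at hE2
    rw [← hH]
    calc _ ≤ 4 * (4 * Nat.card N) := Nat.mul_le_mul (by omega) (hU.trans (by omega))
      _ = _ := by ring
  · push Not at hall
    obtain ⟨a, ha, ha2⟩ := hall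
    have hlt := PGroup.mul_card_le_of_lt (p := 2) hS
      (show N ⊓ T < N from lt_of_le_of_ne inf_le_left fun e => ha2 (e.ge (hsq a ha)).2)
    rw [← hH]
    calc _ ≤ 8 * (4 * Nat.card (N ⊓ T : Subgroup S)) := Nat.mul_le_mul h8 hU
      _ ≤ _ := by omega

/-- The case of a non-normal `T`. -/
theorem Four.sectional_of_not_normal [Finite S] (hS : IsPGroup 2 S) (h : Four T B) (hT : ¬ T.Normal) :
    Cfsg.SectionalPRankLE 2 4 S := by
  classical
  have : Fact (Nat.Prime 2) := ⟨Nat.prime_two⟩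
  set N := normalizer (T : Set S) with hN
  have hN1 : N ≠ ⊤ := fun e => hT (normalizer_eq_top_iff.1 e)
  refine sectionalPRankLE_of_no_normal_eight hS fun A hA hAc hA2 => ?_
  by_contra hA4
  haveI := hA
  obtain ⟨a, ha⟩ := PGroup.exists_subgroup_card_eq_pow (p := 2) hS A
  have ha3 : 3 ≤ a := by
    by_contra hlt
    have := Nat.pow_le_pow_right (n := 2) (by norm_num) (show a ≤ 2 by omega)
    omega
  obtain ⟨V, hVn, hVA, hV8⟩ := PGroup.exists_normal_le_card (p := 2) hS ha 3 ha3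
  norm_num at hV8
  haveI := hVn
  have hVc : ∀ u ∈ V, ∀ w ∈ V, u * w = w * u := fun u hu w hw => hAc u (hVA hu) w (hVA hw)
  -- powers of an element outside `T`
  have hpow : ∀ {X : Subgroup S} {x : S}, x ∈ X → x ∉ T →
      ∃ y ∈ X, y ∉ T ∧ y ^ 2 ∈ T := fun {X x} hx hxT => by
    obtain ⟨k, hk, hk2⟩ := exists_pow_sq hS hxT
    exact ⟨_, pow_mem hx k, hk, hk2⟩
  -- `V` is not inside `T`
  have hVT : ∀ g : S, ¬ V ≤ T.map (MulAut.conj g).toMonoidHom := by
    intro g hg
    have hVT : V ≤ T := fun w hw => by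
      obtain ⟨t, ht, e⟩ := hg (hVn.conj_mem w hw g)
      have : t = w := mul_left_cancel (mul_right_cancel (show g * t * g⁻¹ = g * w * g⁻¹ from e))
      exact this ▸ ht
    set C := centralizer (V : Set S) with hC
    have hTC : T ≤ C := fun t ht => mem_centralizer_iff.2 fun w hw => h.comm (hVT hw) ht
    have hne : T ≠ C := fun e => hT (e ▸ inferInstance)
    obtain ⟨n, hn, hnT⟩ := SetLike.exists_of_lt
      (AlperinFamily.exists_lt_inf_normalizer (p := 2) (hS.to_subgroup C) hTC hne)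
    obtain ⟨y, hy, hyT, hy2⟩ := hpow hn hnT
    have h8 : Nat.card V ≤ Nat.card (T ⊓ centralizer ({y} : Set S) : Subgroup S) :=
      card_le_of_le (le_inf hVT fun w hw => mem_centralizer_singleton_iff.2 (mem_centralizer_iff.1 hy.1 w hw))
    rw [(h.fixed hy.2 hyT hy2).1, hV8] at h8
    omega
  have hVT1 : ¬ V ≤ T := fun hle => hVT 1 fun w hw => ⟨w, hle hw, by simp⟩
  -- an element of `V` normalizing `T`
  obtain ⟨v, hvV, hvN, hvT⟩ : ∃ v ∈ V, v ∈ N ∧ v ∉ T := by
    have hne : T ≠ T ⊔ V := fun e => hVT1 (e.ge.trans' le_sup_right)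
    obtain ⟨n, hn, hnT⟩ := SetLike.exists_of_lt
      (AlperinFamily.exists_lt_inf_normalizer (p := 2) (hS.to_subgroup (T ⊔ V)) le_sup_left hne)
    obtain ⟨t, ht, w, hw, rfl⟩ := mem_sup_of_normal_right.1 hn.1
    refine ⟨w, hw, ?_, fun hwT => hnT (mul_mem ht hwT)⟩
    have := mul_mem (inv_mem (h.mem_norm ht)) hn.2
    rwa [inv_mul_cancel_left] at this
  have hv2 : v ^ 2 ∈ T := by rw [hA2 v (hVA hvV)]; exact one_mem T
  obtain ⟨hF4, hFc⟩ := h.fixed hvN hvT hv2
  set F := T ⊓ centralizer ({v} : Set S) with hF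
  have hFV : F = T ⊓ V := le_antisymm (fun f hf => Subgroup.mem_inf.2 ⟨hf.1, by
      obtain ⟨t, ht, rfl⟩ := hFc f hf
      rw [commutatorElement_def]
      exact mul_mem (hVn.conj_mem v hvV t) (inv_mem hvV)⟩)
    (fun f hf => Subgroup.mem_inf.2 ⟨hf.1, mem_centralizer_singleton_iff.2 (hVc f hf.2 v hvV)⟩)
  have hdecomp : ∀ w ∈ V, w ∉ T → w * v⁻¹ ∈ F := fun w hw hwT =>
    (mul_mem_of_card_le (K := F) (L := V) (hFV ▸ inf_le_right) (by rw [hV8, hF4]) hw
      (fun e => hwT e.1) hvV (fun e => hvT e.1)).2.1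
  have hVN : V ≤ N := fun w hw => by
    by_cases hwT : w ∈ T
    · exact h.mem_norm hwT
    · rw [show w = w * v⁻¹ * v by group]
      exact mul_mem (h.mem_norm (hdecomp w hw hwT).1) hvN
  -- a second conjugate of `T` in `N`
  obtain ⟨g, hg, hgN⟩ := PGroup.exists_mem_normalizer_not_mem hS hN1
  set T' := T.map (MulAut.conj g).toMonoidHom with hT'
  have hmem' : ∀ {x : S}, x ∈ T' ↔ g⁻¹ * x * g ∈ T := fun {x} => by
    constructor
    · rintro ⟨t, ht, rfl⟩
      simpa [mul_assoc] using ht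
    · intro hx
      exact ⟨_, hx, by simp [mul_assoc]⟩
  have hcard' : Nat.card T' = 16 := by
    rw [hT', card_map_of_injective (MulAut.conj g).injective, h.card]
  have hT'N : T' ≤ N := by
    rintro _ ⟨t, ht, rfl⟩
    exact (mem_normalizer_iff.1 hg t).1 (h.mem_norm ht)
  have hne : ¬ T' ≤ T := fun hle => hgN (mem_normalizer_iff.2 fun x => by
    have heq := Subgroup.eq_of_le_of_card_ge hle (by rw [hcard', h.card])
    constructor
    · intro hx; rw [← heq]; exact hmem'.2 (by simpa [mul_assoc] using hx)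
    · intro hx; rw [← heq] at hx; simpa [mul_assoc] using hmem'.1 hx)
  have hT'2 : ∀ x ∈ T', x ^ 2 = 1 := by
    rintro _ ⟨t, ht, rfl⟩
    rw [MulEquiv.coe_toMonoidHom, ← map_pow, h.sq t ht, map_one]
  have hT'c : ∀ x ∈ T', ∀ x' ∈ T', x * x' = x' * x := by
    rintro _ ⟨t, ht, rfl⟩ _ ⟨t', ht', rfl⟩
    rw [MulEquiv.coe_toMonoidHom, ← map_mul, ← map_mul, h.comm ht ht']
  set E := T ⊔ T' with hE
  have hEcoe : (E : Set S) = (T : Set S) * (T' : Set S) := coe_mul_of_right_le_normalizer_left T T' hT'N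
  have hEmem : ∀ x ∈ E, ∃ t ∈ T, ∃ t' ∈ T', t * t' = x := fun x hx => by
    have : x ∈ (T : Set S) * (T' : Set S) := hEcoe ▸ hx
    exact Set.mem_mul.1 this
  have hEN : E ≤ N := sup_le Subgroup.le_normalizer hT'N
  have hEsq : ∀ x ∈ E, x ^ 2 ∈ T := by
    intro x hx
    obtain ⟨t, ht, t', ht', rfl⟩ := hEmem x hx
    rw [show (t * t') ^ 2 = t * (t' * t * t'⁻¹) * t' ^ 2 by rw [pow_two, pow_two]; group, hT'2 t' ht', mul_one]
    exact mul_mem ht (conj_mem (hT'N ht') ht)
  have hE64 := h.elem_bound le_sup_left hEN hEsq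
  obtain ⟨y, hyT', hyT⟩ := SetLike.not_le_iff_exists.1 hne
  set W := T ⊓ T' with hW
  have hprod : Nat.card T * Nat.card T' ≤ Nat.card E * Nat.card W := by
    have h1 := Subgroup.card_mul_index (W.subgroupOf T')
    rw [Nat.card_congr (subgroupOfEquivOfLe (show W ≤ T' from inf_le_right)).toEquiv] at h1
    have h2 := Subgroup.card_mul_index (T.subgroupOf E)
    rw [Nat.card_congr (subgroupOfEquivOfLe (show T ≤ E from le_sup_left)).toEquiv] at h2
    have h3 : T.relIndex T' ≤ T.relIndex E :=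
      relIndex_le_of_le_right (show T' ≤ E from le_sup_right) (by exact index_ne_zero_of_finite)
    have h4 : (W.subgroupOf T').index = T.relIndex T' := inf_relIndex_right T T'
    change Nat.card T * T.relIndex E = Nat.card E at h2
    rw [← h1, ← h2, h4]
    calc Nat.card T * (Nat.card W * T.relIndex T') ≤ Nat.card T * (Nat.card W * T.relIndex E) :=
          Nat.mul_le_mul_left _ (Nat.mul_le_mul_left _ h3)
      _ = _ := by ring
  have hWy : ∀ {y : S}, y ∈ T' → y ∉ T → T ⊓ centralizer ({y} : Set S) = W ∧ Nat.card W = 4 := by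
    intro y hy hyT
    have h2 : y ^ 2 ∈ T := by rw [hT'2 y hy]; exact one_mem T
    have hle : W ≤ T ⊓ centralizer ({y} : Set S) :=
      le_inf inf_le_left fun w hw => mem_centralizer_singleton_iff.2 (hT'c w hw.2 y hy)
    have h4 : 4 ≤ Nat.card W := by
      have hmul := hprod
      rw [h.card, hcard'] at hmul
      nlinarith
    have := h.fixed_eq (hT'N hy) hyT h2 inf_le_left (fun w hw => hT'c y hy w hw.2) h4
    exact ⟨this, (congrArg (fun X : Subgroup S => Nat.card X) this).symm.trans (h.fixed (hT'N hy) hyT h2).1⟩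
  obtain ⟨hWy', hW4⟩ := hWy hyT' hyT
  -- `v` lies in `E`
  have hvE : v ∈ E := by
    by_contra hvE
    have hcomm : ∀ n ∈ N, n * v * n⁻¹ * v⁻¹ ∈ T := fun n hn => by
      refine (hdecomp _ (hVn.conj_mem v hvV n) fun hT0 => hvT ?_).1
      have := conj_mem (inv_mem hn) hT0
      rwa [show n⁻¹ * (n * v * n⁻¹) * n⁻¹⁻¹ = v by group] at this
    have hnorm : zpowers v ≤ normalizer (E : Set S) := zpowers_le.2 (mem_normalizer_iff.2 fun x => by
      have key : ∀ x ∈ E, v * x * v⁻¹ ∈ E := fun x hx => by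
        rw [show v * x * v⁻¹ = (x * v * x⁻¹ * v⁻¹)⁻¹ * x by group]
        exact mul_mem (inv_mem (mem_sup_left (hcomm x (hEN hx)))) hx
      refine ⟨key x, fun hx => ?_⟩
      have := key _ hx
      rwa [show v * (v * x * v⁻¹) * v⁻¹ = v ^ 2 * x * (v ^ 2)⁻¹ by rw [pow_two]; group,
        hA2 v (hVA hvV), one_mul, inv_one, mul_one] at this)
    have hE'coe := coe_mul_of_right_le_normalizer_left E (zpowers v) hnorm
    have hbound := h.elem_bound (E := E ⊔ zpowers v) (le_sup_left.trans' le_sup_left)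
      (sup_le hEN (zpowers_le.2 hvN)) fun x hx => by
      have : x ∈ (E : Set S) * (zpowers v : Set S) := hE'coe ▸ hx
      obtain ⟨a, ha, w, hw, rfl⟩ := Set.mem_mul.1 this
      have haE : a ∈ E := ha
      obtain ⟨i, rfl⟩ := mem_zpowers_iff.1 hw
      have hv' : v ^ (2 : ℤ) = 1 := by exact_mod_cast hA2 v (hVA hvV)
      rcases Int.even_or_odd i with ⟨j, rfl⟩ | ⟨j, rfl⟩
      · rw [← two_mul, zpow_mul, hv', one_zpow, mul_one]
        exact hEsq a haE
      · rw [zpow_add, zpow_mul, hv', one_zpow, one_mul, zpow_one]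
        have hc := inv_mem (hcomm a (hEN haE))
        rw [show (a * v) ^ 2 = a * ((a * v * a⁻¹ * v⁻¹)⁻¹) * a⁻¹ * a ^ 2 * v ^ 2 by
          rw [pow_two, pow_two, pow_two]; group]
        exact mul_mem (mul_mem (conj_mem (hEN haE) hc) (hEsq a haE)) hv2
    have hlt := PGroup.mul_card_le_of_lt (p := 2) hS (show E < E ⊔ zpowers v from
      lt_of_le_of_ne le_sup_left fun e => hvE (e.ge (mem_sup_right (mem_zpowers v))))
    have h64 : 64 ≤ Nat.card E := by
      have hle := hprod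
      rw [h.card, hcard', hW4] at hle
      omega
    omega
  obtain ⟨t, ht, t', ht', htv⟩ := hEmem v hvE
  have ht'T : t' ∉ T := fun h' => hvT (htv ▸ mul_mem ht h')
  have hcomm : t * t' = t' * t := by
    have h1 := hA2 v (hVA hvV)
    rw [← htv, pow_two] at h1
    rw [eq_inv_of_mul_eq_one_left h1, _root_.mul_inv_rev, h.inv_eq ht,
      inv_eq_of_mul_eq_one_right (show t' * t' = 1 by rw [← pow_two]; exact hT'2 t' ht')]
  have htW : t ∈ W := (hWy ht' ht'T).1 ▸ (⟨ht, mem_centralizer_singleton_iff.2 hcomm⟩ :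
    t ∈ T ⊓ centralizer ({t'} : Set S))
  have hvT' : v ∈ T' := htv ▸ mul_mem htW.2 ht'
  have hFW : F = W := (hWy hvT' hvT).1
  refine hVT g fun w hw => ?_
  by_cases hwT : w ∈ T
  · exact (hFW ▸ hFV ▸ (⟨hwT, hw⟩ : w ∈ T ⊓ V) : w ∈ W).2
  · rw [show w = w * v⁻¹ * v by group]
    exact mul_mem (hFW ▸ hdecomp w hw hwT : w * v⁻¹ ∈ W).2 hvT'

/-- The conclusion. -/
theorem Four.sectional [Finite S] (hS : IsPGroup 2 S) (h : Four T B) : Cfsg.SectionalPRankLE 2 4 S := by
  by_cases hT : T.Normal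
  · exact h.sectional_of_normal hS
  · exact h.sectional_of_not_normal hS hT

end Cfsg.Agent.Sectional.FourDirect
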