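import Cfsg.Agent.Lib.Sectional.Action
/-!
# A self-centralizing `2^3` and a normal `2^4` (helper5)

* `SelfCentEight A`: `A` is elementary of order eight and equal to its centralizer
* `SelfCentEight.fixed_le`: elements of `A` outside a normal elementary `V` fix at most `4` elements of it
* `card_le_of_normal_sixteen`: the count when there is a normal `2^4`
-/

set_option autoImplicit false
set_option linter.style.haveILetI false
set_option linter.unusedSectionVars false

open Subgroup
open scoped commutatorElement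

namespace Cfsg.Agent.Sectional

variable {S : Type*} [Group S] [Finite S]

/-- `A` is elementary abelian of order eight and self-centralizing. -/
structure SelfCentEight (A : Subgroup S) : Prop where
  p : IsPGroup 2 S
  comm : ∀ a ∈ A, ∀ b ∈ A, a * b = b * a
  sq : ∀ a ∈ A, a ^ 2 = 1
  card : Nat.card A = 8
  cen : centralizer (A : Set S) ≤ A

/-- `V` is normal elementary abelian. -/
structure NormalElementary (V : Subgroup S) : Prop where
  normal : V.Normal
  comm : ∀ a ∈ V, ∀ b ∈ V, a * b = b * a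
  sq : ∀ a ∈ V, a ^ 2 = 1

variable {A V : Subgroup S}

theorem SelfCentEight.mem_of_commute (h : SelfCentEight A) {x : S} (hx : ∀ a ∈ A, a * x = x * a) : x ∈ A :=
  h.cen (mem_centralizer_iff.mpr hx)

theorem SelfCentEight.inv_eq (h : SelfCentEight A) {a : S} (ha : a ∈ A) : a⁻¹ = a :=
  inv_eq_of_mul_eq_one_right (by rw [← pow_two]; exact h.sq a ha)

theorem SelfCentEight.fixed_le_inf (h : SelfCentEight A) (hV : NormalElementary V) {v : S} (hv : v ∈ V)
    (hfix : ∀ a ∈ A, a * v = v * a) : v ∈ A ⊓ V :=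
  ⟨h.mem_of_commute hfix, hv⟩

theorem SelfCentEight.one_lt_inf (h : SelfCentEight A) (hV : NormalElementary V) (hV1 : V ≠ ⊥) :
    1 < Nat.card (A ⊓ V : Subgroup S) := by
  have : Fact (Nat.Prime 2) := ⟨Nat.prime_two⟩
  haveI := hV.normal
  obtain ⟨⟨z, hz⟩, hz1⟩ := ne_bot_iff_exists_ne_one.mp (PGroup.inf_center_ne_bot h.p hV1)
  refine Finite.one_lt_card_iff_nontrivial.mpr ⟨⟨z, h.fixed_le_inf hV hz.1 fun a _ => mem_center_iff.mp hz.2 a⟩, 1, ?_⟩
  exact fun e => hz1 (Subtype.ext (congrArg Subtype.val e :))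

/-- If `A ⊓ V` and two further elements commute with `x` and generate enough, `x` is in `A`. -/
theorem SelfCentEight.eq_sup_two (h : SelfCentEight A) {W : Subgroup S} (hW : W ≤ A) (hW2 : 2 ≤ Nat.card W)
    {a b : S} (ha : a ∈ A) (hb : b ∈ A) (haW : a ∉ W) (hb' : b ∉ W ⊔ zpowers a) :
    W ⊔ zpowers a ⊔ zpowers b = A := by
  refine PGroup.eq_of_le_of_card_le (sup_le (sup_le hW (zpowers_le.mpr ha)) (zpowers_le.mpr hb)) ?_
  have h1 : 2 * Nat.card W ≤ Nat.card (W ⊔ zpowers a : Subgroup S) :=
    PGroup.mul_card_le_of_lt (p := 2) h.p (lt_of_le_of_ne le_sup_left fun e => haW (e ▸ mem_sup_right (mem_zpowers a)))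
  have h2 : 2 * Nat.card (W ⊔ zpowers a : Subgroup S) ≤ Nat.card (W ⊔ zpowers a ⊔ zpowers b : Subgroup S) :=
    PGroup.mul_card_le_of_lt (p := 2) h.p (lt_of_le_of_ne le_sup_left fun e => hb' (e ▸ mem_sup_right (mem_zpowers b)))
  rw [h.card]
  omega

theorem SelfCentEight.eq_sup_one (h : SelfCentEight A) {W : Subgroup S} (hW : W ≤ A) (hW4 : 4 ≤ Nat.card W)
    {a : S} (ha : a ∈ A) (haW : a ∉ W) : W ⊔ zpowers a = A := by
  refine PGroup.eq_of_le_of_card_le (sup_le hW (zpowers_le.mpr ha)) ?_
  have h1 : 2 * Nat.card W ≤ Nat.card (W ⊔ zpowers a : Subgroup S) :=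
    PGroup.mul_card_le_of_lt (p := 2) h.p (lt_of_le_of_ne le_sup_left fun e => haW (e ▸ mem_sup_right (mem_zpowers a)))
  rw [h.card]
  omega

theorem SelfCentEight.commute_all (h : SelfCentEight A) (hV : NormalElementary V) {x a : S}
    (hx : x ∈ centralizer ((A ⊓ V : Subgroup S) : Set S)) (hxa : a * x = x * a) (ha : a ∈ A) (haV : a ∉ V)
    (h4 : 4 ≤ Nat.card (A ⊓ V : Subgroup S)) : x ∈ A := by
  refine h.mem_of_commute fun b hb => ?_
  have : A ≤ centralizer ({x} : Set S) := by
    rw [← h.eq_sup_one inf_le_left h4 ha (fun e => haV e.2)]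
    exact sup_le (fun w hw => mem_centralizer_singleton_iff.mpr (mem_centralizer_iff.mp hx w hw))
      (zpowers_le.mpr (mem_centralizer_singleton_iff.mpr hxa))
  exact mem_centralizer_singleton_iff.mp (this hb)

/-- An element of `A` outside `V` fixes at most four elements of `V`. -/
theorem SelfCentEight.fixed_le (h : SelfCentEight A) (hV : NormalElementary V) (hAV : ¬ A ≤ V) {a : S}
    (ha : a ∈ A) (haV : a ∉ V) : Nat.card (V ⊓ centralizer ({a} : Set S) : Subgroup S) ≤ 4 := by
  have : Fact (Nat.Prime 2) := ⟨Nat.prime_two⟩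
  set P := V ⊓ centralizer ({a} : Set S) with hP
  have hW : Nat.card (A ⊓ V : Subgroup S) ≤ 4 := by
    have := PGroup.mul_card_le_of_lt (p := 2) h.p
      (lt_of_le_of_ne (inf_le_left : A ⊓ V ≤ A) fun e => hAV (inf_eq_left.mp e))
    rw [h.card] at this
    omega
  by_cases hall : ∀ b ∈ A, ∀ v ∈ P, b * v = v * b
  · exact (card_le_of_le (show P ≤ A ⊓ V from fun v hv => h.fixed_le_inf hV hv.1 fun b hb => hall b hb v hv)).trans hW
  push Not at hall
  obtain ⟨b, hb, v₀, hv₀, hne⟩ := hall
  by_cases h4 : 4 ≤ Nat.card (A ⊓ V : Subgroup S)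
  · refine (card_le_of_le fun v hv => ?_).trans hW
    refine ⟨h.commute_all hV ?_ (mem_centralizer_singleton_iff.mp hv.2).symm ha haV h4, hv.1⟩
    exact mem_centralizer_iff.mpr fun w hw => hV.comm w hw.2 v hv.1
  have hV1 : V ≠ ⊥ := fun e => hne (by
    have : v₀ ∈ V := hv₀.1
    rw [e, mem_bot] at this
    rw [this, mul_one, one_mul])
  have h1 := h.one_lt_inf hV hV1
  have hbW : b ∉ (A ⊓ V) ⊔ zpowers a := fun hbm => hne (by
    have : (A ⊓ V) ⊔ zpowers a ≤ centralizer ({v₀} : Set S) :=
      sup_le (fun w hw => mem_centralizer_singleton_iff.mpr (hV.comm w hw.2 v₀ hv₀.1))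
        (zpowers_le.mpr (mem_centralizer_singleton_iff.mpr (mem_centralizer_singleton_iff.mp hv₀.2).symm))
    exact mem_centralizer_singleton_iff.mp (this hbm))
  have hgen := h.eq_sup_two inf_le_left h1 ha hb (fun e => haV e.2) hbW
  have hfix : P ⊓ centralizer ({b} : Set S) ≤ A ⊓ V := by
    rintro v ⟨⟨hv, hva⟩, hvb⟩
    refine h.fixed_le_inf hV hv fun c hc => ?_
    have : A ≤ centralizer ({v} : Set S) := by
      rw [← hgen]
      refine sup_le (sup_le (fun w hw => mem_centralizer_singleton_iff.mpr (hV.comm w hw.2 v hv)) ?_) ?_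
      · exact zpowers_le.mpr (mem_centralizer_singleton_iff.mpr (mem_centralizer_singleton_iff.mp hva).symm)
      · exact zpowers_le.mpr (mem_centralizer_singleton_iff.mpr (mem_centralizer_singleton_iff.mp hvb).symm)
    exact mem_centralizer_singleton_iff.mp (this hc)
  have hinv : ∀ v ∈ P, ⁅b, v⁆ ∈ P := by
    rintro v ⟨hv, hva⟩
    refine ⟨mul_mem (hV.normal.conj_mem v hv b) (V.inv_mem hv), mem_centralizer_singleton_iff.mpr ?_⟩
    have c1 : Commute a v := (mem_centralizer_singleton_iff.mp hva).symm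
    have c2 : Commute a b := h.comm a ha b hb
    rw [commutatorElement_def]
    exact (((c2.mul_right c1).mul_right c2.inv_right).mul_right c1.inv_right).symm.eq
  have hc := card_le_sq_fixed hV.normal hV.comm hV.sq (h.sq b hb) (inf_le_left : P ≤ V) hinv
  have h2 : Nat.card (P ⊓ centralizer ({b} : Set S) : Subgroup S) ≤ 2 := by
    obtain ⟨k, hk⟩ := IsPGroup.iff_card.mp (h.p.to_subgroup (A ⊓ V))
    have := card_le_of_le hfix
    rw [hk] at h4 h1 this
    have hk1 : k ≤ 1 := by
      by_contra hc'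
      exact h4 (Nat.pow_le_pow_right (by norm_num) (show 2 ≤ k by omega) : 2 ^ 2 ≤ 2 ^ k)
    calc _ ≤ 2 ^ k := this
      _ ≤ 2 ^ 1 := Nat.pow_le_pow_right (by norm_num) hk1
  calc Nat.card P ≤ _ := hc
    _ ≤ 2 * 2 := Nat.mul_le_mul h2 h2

/-- A commutator with an element of `A` that lies in `V` is fixed by that element. -/
theorem SelfCentEight.commutator_fixed (h : SelfCentEight A) (hV : NormalElementary V) {s a : S} (ha : a ∈ A)
    (hd : ⁅s, a⁆ ∈ V) : ⁅s, a⁆ * a = a * ⁅s, a⁆ := by
  have hinv : ⁅s, a⁆⁻¹ = ⁅s, a⁆ := inv_eq_of_mul_eq_one_right (by rw [← pow_two]; exact hV.sq _ hd)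
  have hai := h.inv_eq ha
  have haa : a * a = 1 := by rw [← pow_two]; exact h.sq a ha
  nth_rewrite 1 [← hinv]
  simp only [commutatorElement_def, mul_inv_rev, inv_inv, hai]
  calc a * (s * (a * s⁻¹)) * a = a * (s * a * s⁻¹ * a) := by group
    _ = _ := rfl

/-- With a normal `2^4`: commutators into `V` can be removed. -/
theorem SelfCentEight.adjust (h : SelfCentEight A) (hV : NormalElementary V) (hV16 : Nat.card V = 16)
    {a : S} (ha : a ∈ A) (haV : a ∉ V) (hAV : ¬ A ≤ V) {s : S} (hd : ⁅s, a⁆ ∈ V) :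
    Nat.card (V ⊓ centralizer ({a} : Set S) : Subgroup S) = 4 ∧ ∃ v ∈ V, a * (v * s) = v * s * a := by
  set P := V ⊓ centralizer ({a} : Set S) with hP
  have h4 := h.fixed_le hV hAV ha haV
  have hinvV : ∀ v ∈ V, ⁅a, v⁆ ∈ V := fun v hv => mul_mem (hV.normal.conj_mem v hv a) (inv_mem hv)
  have hsq := card_le_sq_fixed hV.normal hV.comm hV.sq (h.sq a ha) le_rfl hinvV
  rw [← hP, hV16] at hsq
  rw [← hP] at h4
  have hP4 : Nat.card P = 4 := by
    by_contra hne
    have : Nat.card P ≤ 3 := by omega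
    have := Nat.mul_le_mul this this
    omega
  refine ⟨hP4, ?_⟩
  have himg : commImage hV.normal hV.comm a V = P := by
    refine PGroup.eq_of_le_of_card_le (fun w hw => ?_) ?_
    · obtain ⟨v, hv, rfl⟩ := (mem_commImage le_rfl).mp hw
      exact ⟨hinvV v hv, mem_centralizer_singleton_iff.mpr (fixed_of_involution hV.normal hV.sq (h.sq a ha) hv)⟩
    · have := card_image_mul hV.normal hV.comm a (le_refl V)
      rw [← hP, hP4, hV16] at this
      omega
  obtain ⟨v, hv, hvd⟩ := (mem_commImage le_rfl).mp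
    (himg.ge ⟨hd, mem_centralizer_singleton_iff.mpr (h.commutator_fixed hV ha hd)⟩)
  refine ⟨v, hv, (commutatorElement_eq_one_iff_mul_comm.mp ?_).symm⟩
  calc ⁅v * s, a⁆ = (v * ⁅s, a⁆ * v⁻¹) * ⁅a, v⁆⁻¹ := by simp only [commutatorElement_def]; group
    _ = 1 := by rw [hV.comm v hv _ hd, mul_inv_cancel_right, hvd, mul_inv_cancel]

/-- When `|A ⊓ V| = 2` an element centralizing `A` modulo `V` lies in `V A`. -/
theorem SelfCentEight.adjust_all (h : SelfCentEight A) (hV : NormalElementary V) (hV16 : Nat.card V = 16)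
    (hW : Nat.card (A ⊓ V : Subgroup S) = 2) {s : S} (hs : ∀ a ∈ A, ⁅s, a⁆ ∈ V) : ∃ v ∈ V, v * s ∈ A := by
  have hAV : ¬ A ≤ V := fun e => by rw [inf_eq_left.mpr e, h.card] at hW; omega
  obtain ⟨a, ha, haV⟩ := SetLike.not_le_iff_exists.mp hAV
  obtain ⟨hP4, v₁, hv₁, hc₁⟩ := h.adjust hV hV16 ha haV hAV (hs a ha)
  set P := V ⊓ centralizer ({a} : Set S) with hP
  -- a second generator
  obtain ⟨b, hb, v₀, hv₀, hne⟩ : ∃ b ∈ A, ∃ v ∈ P, b * v ≠ v * b := by
    by_contra hc
    push Not at hc
    have := card_le_of_le (fun v hv => h.fixed_le_inf hV hv.1 fun b hb => hc b hb v hv : P ≤ A ⊓ V)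
    omega
  have hbW : b ∉ (A ⊓ V) ⊔ zpowers a := fun hbm => hne (by
    have : (A ⊓ V) ⊔ zpowers a ≤ centralizer ({v₀} : Set S) :=
      sup_le (fun w hw => mem_centralizer_singleton_iff.mpr (hV.comm w hw.2 v₀ hv₀.1))
        (zpowers_le.mpr (mem_centralizer_singleton_iff.mpr (mem_centralizer_singleton_iff.mp hv₀.2).symm))
    exact mem_centralizer_singleton_iff.mp (this hbm))
  have hgen := h.eq_sup_two inf_le_left hW.ge ha hb (fun e => haV e.2) hbW
  have hcen : ∀ x : S, a * x = x * a → b * x = x * b → x ∈ centralizer ((A ⊓ V : Subgroup S) : Set S) → x ∈ A := by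
    intro x h1 h2 h3
    refine h.mem_of_commute fun c hc => ?_
    have : A ≤ centralizer ({x} : Set S) := by
      rw [← hgen]
      refine sup_le (sup_le (fun w hw => mem_centralizer_singleton_iff.mpr (mem_centralizer_iff.mp h3 w hw)) ?_) ?_
      · exact zpowers_le.mpr (mem_centralizer_singleton_iff.mpr h1)
      · exact zpowers_le.mpr (mem_centralizer_singleton_iff.mpr h2)
    exact mem_centralizer_singleton_iff.mp (this hc)
  -- `A ⊓ V` is central
  have hWc : A ⊓ V ≤ center S := by
    have : Fact (Nat.Prime 2) := ⟨Nat.prime_two⟩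
    haveI := hV.normal
    have hV1 : V ≠ ⊥ := fun e => by rw [e, card_bot] at hV16; omega
    obtain ⟨⟨z, hz⟩, hz1⟩ := ne_bot_iff_exists_ne_one.mp (PGroup.inf_center_ne_bot h.p hV1)
    have hzW : zpowers z ≤ A ⊓ V := zpowers_le.mpr (h.fixed_le_inf hV hz.1 fun a _ => mem_center_iff.mp hz.2 a)
    have heq : zpowers z = A ⊓ V := PGroup.eq_of_le_of_card_le hzW (by
      rw [hW, Nat.card_zpowers]
      have : orderOf z ≠ 1 := fun e => hz1 (Subtype.ext (orderOf_eq_one_iff.mp e))
      have := orderOf_pos z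
      omega)
    rw [← heq]
    exact zpowers_le.mpr hz.2
  set s₁ := v₁ * s with hs₁
  have hd : ⁅s₁, b⁆ ∈ V := by
    have e : ⁅v₁ * s, b⁆ = v₁ * ⁅s, b⁆ * v₁⁻¹ * ⁅v₁, b⁆ := by simp only [commutatorElement_def]; group
    rw [hs₁, e, commutatorElement_def v₁ b, mul_assoc v₁ b v₁⁻¹, mul_assoc v₁ (b * v₁⁻¹) b⁻¹]
    exact mul_mem (mul_mem (mul_mem hv₁ (hs b hb)) (inv_mem hv₁)) (mul_mem hv₁ (hV.normal.conj_mem _ (inv_mem hv₁) b))
  set d := ⁅s₁, b⁆ with hddef
  have hdW : d ∈ A ⊓ V := by
    refine ⟨hcen d ?_ (h.commutator_fixed hV hb hd).symm ?_, hd⟩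
    · have c1 : Commute a s₁ := hc₁
      have c2 : Commute a b := h.comm a ha b hb
      rw [hddef, commutatorElement_def]
      exact (((c1.mul_right c2).mul_right c1.inv_right).mul_right c2.inv_right).eq
    · exact mem_centralizer_iff.mpr fun w hw => (mem_center_iff.mp (hWc hw) d).symm
  have himg : commImage hV.normal hV.comm b P = A ⊓ V := by
    refine PGroup.eq_of_le_of_card_le (fun w hw => ?_) ?_
    · obtain ⟨v, hv, rfl⟩ := (mem_commImage (inf_le_left : P ≤ V)).mp hw
      have hm : ⁅b, v⁆ ∈ V := mul_mem (hV.normal.conj_mem v hv.1 b) (inv_mem hv.1)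
      refine ⟨hcen _ ?_ (fixed_of_involution hV.normal hV.sq (h.sq b hb) hv.1).symm ?_, hm⟩
      · have c1 : Commute a v := (mem_centralizer_singleton_iff.mp hv.2).symm
        have c2 : Commute a b := h.comm a ha b hb
        rw [commutatorElement_def]
        exact (((c2.mul_right c1).mul_right c2.inv_right).mul_right c1.inv_right).eq
      · exact mem_centralizer_iff.mpr fun w hw => (mem_center_iff.mp (hWc hw) _).symm
    · rw [hW]
      refine Finite.one_lt_card_iff_nontrivial.mpr ⟨⟨⁅b, v₀⁆, (mem_commImage inf_le_left).mpr ⟨v₀, hv₀, rfl⟩⟩, 1, ?_⟩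
      exact fun e => hne (commutatorElement_eq_one_iff_mul_comm.mp (congrArg Subtype.val e :))
  obtain ⟨v, hv, hvd⟩ := (mem_commImage (inf_le_left : P ≤ V)).mp (himg.ge hdW)
  refine ⟨v * v₁, mul_mem hv.1 hv₁, ?_⟩
  rw [mul_assoc, ← hs₁]
  refine hcen _ ?_ ?_ (mem_centralizer_iff.mpr fun w hw => (mem_center_iff.mp (hWc hw) _).symm)
  · exact Commute.mul_right (show Commute a v from (mem_centralizer_singleton_iff.mp hv.2).symm) hc₁
  · refine (commutatorElement_eq_one_iff_mul_comm.mp ?_).symm
    calc ⁅v * s₁, b⁆ = (v * ⁅s₁, b⁆ * v⁻¹) * ⁅b, v⁆⁻¹ := by simp only [commutatorElement_def]; group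
      _ = 1 := by rw [hV.comm v hv.1 _ hd, mul_inv_cancel_right, hvd, mul_inv_cancel]

theorem SelfCentEight.self_centralizing_sixteen (h : SelfCentEight A) (hV : NormalElementary V)
    (hV16 : Nat.card V = 16) : centralizer (V : Set S) ≤ V := by
  have : Fact (Nat.Prime 2) := ⟨Nat.prime_two⟩
  haveI := hV.normal
  have hAV : ¬ A ≤ V := fun e => by
    have := card_le_of_le (fun v hv => h.mem_of_commute fun a ha => hV.comm a (e ha) v hv : V ≤ A)
    rw [hV16, h.card] at this
    omega
  obtain ⟨a, ha, haV⟩ := SetLike.not_le_iff_exists.mp hAV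
  have hAC : ∀ b ∈ A, b ∈ centralizer (V : Set S) → b ∈ V := by
    intro b hb hbc
    by_contra hbV
    have := h.fixed_le hV hAV hb hbV
    rw [inf_eq_left.mpr (fun v hv => mem_centralizer_singleton_iff.mpr (mem_centralizer_iff.mp hbc v hv)), hV16] at this
    omega
  by_contra hne
  have hVC : V ≤ centralizer (V : Set S) := fun v hv => mem_centralizer_iff.mpr fun w hw => hV.comm w hw v hv
  obtain ⟨K, hKn, hVK, hKC, hK, -⟩ := PGroup.exists_normal_between (p := 2) h.p
    (lt_of_le_of_ne hVC fun e => hne e.ge)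
  haveI := hKn
  have hlt : V < K := lt_of_le_of_ne hVK fun e => by rw [← e, hV16] at hK; omega
  obtain ⟨c, hcK, hcV⟩ := SetLike.exists_of_lt hlt
  have hcomm : ∀ g : S, ⁅c, g⁆ ∈ V := fun g => by
    rw [← commutatorElement_inv]
    exact inv_mem (PGroup.commutator_mem_of_card (p := 2) h.p hlt hK.le hcK g)
  have hmem : ∀ v ∈ V, v * c ∈ centralizer (V : Set S) := fun v hv => mul_mem (hVC hv) (hKC hcK)
  obtain ⟨v, hv, hvA⟩ : ∃ v ∈ V, v * c ∈ A := by
    by_cases h4 : 4 ≤ Nat.card (A ⊓ V : Subgroup S)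
    · obtain ⟨-, v, hv, hvc⟩ := h.adjust hV hV16 ha haV hAV (hcomm a)
      exact ⟨v, hv, h.commute_all hV (centralizer_le (SetLike.coe_subset_coe.mpr inf_le_right) (hmem v hv))
        hvc ha haV h4⟩
    · have hW : Nat.card (A ⊓ V : Subgroup S) = 2 := by
        have h1 := h.one_lt_inf hV (fun e => by rw [e, card_bot] at hV16; omega)
        obtain ⟨k, hk⟩ := IsPGroup.iff_card.mp (h.p.to_subgroup (A ⊓ V))
        rw [hk] at h4 h1 ⊢
        have : k ≤ 1 := by
          by_contra hc'
          exact h4 (Nat.pow_le_pow_right (by norm_num) (show 2 ≤ k by omega) : 2 ^ 2 ≤ 2 ^ k)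
        interval_cases k <;> simp_all
      exact h.adjust_all hV hV16 hW fun b _ => hcomm b
  apply hcV
  have := mul_mem (inv_mem hv) (hAC _ hvA (hmem v hv))
  rwa [inv_mul_cancel_left] at this

/-- The count when there is a normal `2^4`. -/
theorem SelfCentEight.card_le_of_normal_sixteen (h : SelfCentEight A) (hV : NormalElementary V)
    (hV16 : Nat.card V = 16) (H N : Subgroup S) (hsq : ∀ x ∈ H, x ^ 2 ∈ N) :
    Nat.card H ≤ 2 ^ 4 * Nat.card N := by
  have : Fact (Nat.Prime 2) := ⟨Nat.prime_two⟩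
  haveI := hV.normal
  have hCV := h.self_centralizing_sixteen hV hV16
  have hAV : ¬ A ≤ V := fun e => by
    have := card_le_of_le (fun v hv => h.mem_of_commute fun a ha => hV.comm a (e ha) v hv : V ≤ A)
    rw [hV16, h.card] at this
    omega
  obtain ⟨a, ha, haV⟩ := SetLike.not_le_iff_exists.mp hAV
  set π := QuotientGroup.mk' V
  have hker : π.ker = V := QuotientGroup.ker_mk' V
  have hπ1 : ∀ {x : S}, π x = 1 ↔ x ∈ V := fun {x} => QuotientGroup.eq_one_iff x
  have hPp : IsPGroup 2 (S ⧸ V) := h.p.to_quotient V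
  have hexp : ∀ q : S ⧸ V, q ^ 4 = 1 := by
    intro q
    obtain ⟨x, rfl⟩ := QuotientGroup.mk'_surjective V q
    rw [← map_pow]
    exact hπ1.mpr (hCV (pow_four_centralizes h.p hV.normal hV.sq hV16.le x))
  have hlift : ∀ {s t : S}, π t * π s = π s * π t → ⁅s, t⁆ ∈ V := fun {s t} e => hπ1.mp (by
    rw [map_commutatorElement]; exact commutatorElement_eq_one_iff_mul_comm.mpr e.symm)
  have hWne : V ≠ ⊥ := fun e => by rw [e, card_bot] at hV16; omega
  have hW1 := h.one_lt_inf hV hWne
  obtain ⟨k, hk⟩ := IsPGroup.iff_card.mp (h.p.to_subgroup (A ⊓ V))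
  have hW4 : Nat.card (A ⊓ V : Subgroup S) ≤ 4 := by
    have := PGroup.mul_card_le_of_lt (p := 2) h.p
      (lt_of_le_of_ne (inf_le_left : A ⊓ V ≤ A) fun e => hAV (inf_eq_left.mp e))
    rw [h.card] at this
    omega
  -- structure of the quotient
  obtain ⟨h8, hnc, hgood⟩ : Nat.card (S ⧸ V) ≤ 8 ∧ (Nat.card (S ⧸ V) = 8 → ∃ g t : S ⧸ V, g * t ≠ t * g) ∧
      (Nat.card (S ⧸ V) = 8 → ∀ s : S, s ∉ V → (∀ t : S ⧸ V, t * π s = π s * t) →
        Nat.card (V ⊓ centralizer ({s} : Set S) : Subgroup S) ≤ 4) := by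
    have hAmap : Nat.card (A.map π) * Nat.card (A ⊓ V : Subgroup S) = 8 := by
      have := card_eq_map_mul π A
      rwa [hker, h.card] at this
    by_cases h2 : Nat.card (A ⊓ V : Subgroup S) = 2
    · set D := A.map π
      rw [h2] at hAmap
      have hD : Nat.card D = 4 := by omega
      have hC : centralizer (D : Set (S ⧸ V)) ≤ D := by
        intro q hq
        obtain ⟨s, rfl⟩ := QuotientGroup.mk'_surjective V q
        obtain ⟨v, hv, hvA⟩ := h.adjust_all hV hV16 h2 (s := s) fun b hb =>
          hlift (mem_centralizer_iff.mp hq (π b) ⟨b, hb, rfl⟩)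
        refine ⟨v * s, hvA, ?_⟩
        rw [map_mul, hπ1.mpr hv, one_mul]
      obtain ⟨r1, r2⟩ := small_of_selfCentralizing_four hPp hexp D hD hC
      refine ⟨r1, r2, fun _ s hsV hs => ?_⟩
      obtain ⟨b, hb, hbs⟩ := hC (mem_centralizer_iff.mpr fun t _ => hs t)
      have hbV : b ∉ V := fun e => hsV (hπ1.mp (by rw [← hbs]; exact hπ1.mpr e))
      refine (card_le_of_le fun v hv => ?_).trans (h.fixed_le hV hAV hb hbV)
      refine ⟨hv.1, mem_centralizer_singleton_iff.mpr ?_⟩
      have hbs' : b⁻¹ * s ∈ V := hπ1.mp (by rw [map_mul, map_inv, ← hbs, inv_mul_cancel])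
      have c1 : Commute v s := mem_centralizer_singleton_iff.mp hv.2
      have c2 : Commute v (b⁻¹ * s) := hV.comm v hv.1 _ hbs'
      have e : b = s * (b⁻¹ * s)⁻¹ := by group
      rw [e]
      exact (c1.mul_right c2.inv_right).eq
    · have h4 : Nat.card (A ⊓ V : Subgroup S) = 4 := by
        rw [hk] at hW1 hW4 h2 ⊢
        have : k ≤ 2 := (Nat.pow_le_pow_iff_right (by norm_num : 1 < 2)).mp (hW4 : 2 ^ k ≤ 2 ^ 2)
        interval_cases k <;> simp_all
      set W := A ⊓ V
      set R := centralizer ({a} : Set S) with hR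
      have hWR : W ≤ R := fun w hw => mem_centralizer_singleton_iff.mpr (h.comm w hw.1 a ha)
      have hfix : V ⊓ R = W := by
        refine le_antisymm (fun v hv => ⟨h.commute_all hV ?_ (mem_centralizer_singleton_iff.mp hv.2).symm ha haV h4.ge, hv.1⟩)
          (le_inf inf_le_right hWR)
        exact mem_centralizer_iff.mpr fun w hw => hV.comm w hw.2 v hv.1
      have hWn : (W.subgroupOf R).Normal := ⟨fun w hw r => mem_subgroupOf.mpr (hfix.le
        ⟨hV.normal.conj_mem _ (mem_subgroupOf.mp hw).2 (r : S), (r * w * r⁻¹).2⟩)⟩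
      have hR16 : Nat.card R ≤ 16 := by
        have h1 := PGroup.index_centralizer_le (p := 2) (h.p.to_subgroup R) 2 (W.subgroupOf R) hWn
          (by rw [Cores.card_subgroupOf hWR, h4]; norm_num)
        have h2' : Nat.card (centralizer ((W.subgroupOf R : Subgroup R) : Set R)) ≤ 8 := by
          rw [← h.card, ← card_map_of_injective (K := centralizer ((W.subgroupOf R : Subgroup R) : Set R)) R.subtype_injective]
          refine card_le_of_le ?_
          rintro _ ⟨r, hr, rfl⟩
          refine h.commute_all hV ?_ (mem_centralizer_singleton_iff.mp r.2).symm ha haV h4.ge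
          exact mem_centralizer_iff.mpr fun w hw =>
            congrArg Subtype.val (mem_centralizer_iff.mp hr ⟨w, hWR hw⟩ hw)
        calc Nat.card R ≤ 8 * 2 ^ (2 * (2 - 1) / 2) := PGroup.card_le_of_index_le h2' h1
          _ = 16 := by norm_num
      set D := centralizer ({π a} : Set (S ⧸ V)) with hD
      have hDR : D ≤ R.map π := by
        intro q hq
        obtain ⟨s, rfl⟩ := QuotientGroup.mk'_surjective V q
        obtain ⟨-, v, hv, hvs⟩ := h.adjust hV hV16 ha haV hAV (s := s)
          (hlift (mem_centralizer_singleton_iff.mp hq).symm)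
        refine ⟨v * s, mem_centralizer_singleton_iff.mpr hvs.symm, ?_⟩
        rw [map_mul, hπ1.mpr hv, one_mul]
      have hD4 : Nat.card D ≤ 4 := by
        have := card_eq_map_mul π R
        rw [hker, inf_comm, hfix, h4] at this
        have := card_le_of_le hDR
        omega
      have hπa : π a ≠ 1 := fun e => haV (hπ1.mp e)
      obtain ⟨i, hi⟩ := IsPGroup.iff_card.mp (hPp.to_subgroup D)
      have hi1 : 1 < Nat.card D := Finite.one_lt_card_iff_nontrivial.mpr
        ⟨⟨π a, mem_centralizer_singleton_iff.mpr rfl⟩, 1, fun e => hπa (congrArg Subtype.val e :)⟩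
      have hi2 : i ≤ 2 := by
        rw [hi] at hD4
        exact (Nat.pow_le_pow_iff_right (by norm_num : 1 < 2)).mp (hD4 : 2 ^ i ≤ 2 ^ 2)
      rw [hi] at hi1
      interval_cases i
      · simp at hi1
      · -- a central involution with centralizer of order two
        haveI : Nontrivial (S ⧸ V) := ⟨⟨π a, 1, hπa⟩⟩
        haveI := hPp.center_nontrivial
        have hZD : center (S ⧸ V) ≤ D := fun z hz => mem_centralizer_singleton_iff.mpr (mem_center_iff.mp hz (π a)).symm
        have hZ : center (S ⧸ V) = D := PGroup.eq_of_le_of_card_le hZD (by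
          rw [hi]; exact (Finite.one_lt_card : 1 < Nat.card (center (S ⧸ V))))
        have htop : D = ⊤ := (eq_top_iff' D).mpr fun q => mem_centralizer_singleton_iff.mpr
          (mem_center_iff.mp (hZ.ge (mem_centralizer_singleton_iff.mpr rfl : π a ∈ D)) q)
        rw [htop, card_top] at hi
        exact ⟨by omega, fun e => absurd e (by omega), fun e => absurd e (by omega)⟩
      · have hcD : ∀ x ∈ D, ∀ y ∈ D, x * y = y * x := fun x hx y hy =>
          congrArg Subtype.val (IsPGroup.commutative_of_card_eq_prime_sq (p := 2) (G := D) hi ⟨x, hx⟩ ⟨y, hy⟩)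
        have hC : centralizer (D : Set (S ⧸ V)) ≤ D := fun q hq =>
          mem_centralizer_singleton_iff.mpr (mem_centralizer_iff.mp hq (π a) (mem_centralizer_singleton_iff.mpr rfl)).symm
        obtain ⟨r1, r2⟩ := small_of_selfCentralizing_four hPp hexp D (by rw [hi]; norm_num) hC
        refine ⟨r1, r2, fun e8 s hsV hs => ?_⟩
        obtain ⟨r, hr, hrs⟩ := hDR (mem_centralizer_singleton_iff.mpr (hs (π a)).symm)
        have hrA : r ∉ A := by
          intro hrA
          rw [h4] at hAmap
          have hA2 : zpowers (π a) = A.map π := PGroup.eq_of_le_of_card_le (zpowers_le.mpr ⟨a, ha, rfl⟩) (by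
            have : orderOf (π a) ≠ 1 := fun e => hπa (orderOf_eq_one_iff.mp e)
            have := orderOf_pos (π a)
            rw [Nat.card_zpowers]
            omega)
          obtain ⟨j, hj⟩ : π s ∈ zpowers (π a) := hA2 ▸ ⟨r, hrA, hrs⟩
          obtain ⟨g, t, hgt⟩ := r2 e8
          have hnt : ∃ q, q * π a ≠ π a * q := by
            by_contra hcon
            push Not at hcon
            have : D = ⊤ := (eq_top_iff' D).mpr fun q => mem_centralizer_singleton_iff.mpr (hcon q)
            rw [this, card_top] at hi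
            omega
          obtain ⟨q, hq⟩ := hnt
          rcases Int.even_or_odd j with ⟨m, rfl⟩ | ⟨m, rfl⟩
          · apply hsV
            rw [← hπ1, ← hj]
            show π a ^ (m + m) = 1
            rw [zpow_add, ← (Commute.refl (π a)).mul_zpow, ← map_mul, show a * a = 1 by rw [← pow_two]; exact h.sq a ha, map_one, one_zpow]
          · apply hq
            have e : π s = π a := by
              rw [← hj]
              show π a ^ (2 * m + 1) = π a
              rw [zpow_add, zpow_mul, show π a ^ (2 : ℤ) = 1 by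
                rw [show (2 : ℤ) = ((2 : ℕ) : ℤ) from rfl, zpow_natCast, ← map_pow, h.sq a ha, map_one],
                one_zpow, one_mul, zpow_one]
            rw [← e]; exact hs q
        set P := V ⊓ centralizer ({r} : Set S) with hP
        have hPeq : V ⊓ centralizer ({s} : Set S) ≤ P := by
          rintro v ⟨hv, hvs⟩
          refine ⟨hv, mem_centralizer_singleton_iff.mpr ?_⟩
          have hu : s⁻¹ * r ∈ V := hπ1.mp (by rw [map_mul, map_inv, hrs, inv_mul_cancel])
          have : Commute v (s * (s⁻¹ * r)) :=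
            Commute.mul_right (mem_centralizer_singleton_iff.mp hvs) (hV.comm v hv _ hu)
          rwa [mul_inv_cancel_left] at this
        refine (card_le_of_le hPeq).trans ?_
        have har : Commute a r := (mem_centralizer_singleton_iff.mp hr).symm
        have hinv : ∀ v ∈ P, ⁅a, v⁆ ∈ P := by
          rintro v ⟨hv, hvr⟩
          refine ⟨mul_mem (hV.normal.conj_mem v hv a) (V.inv_mem hv), mem_centralizer_singleton_iff.mpr ?_⟩
          have c1 : Commute r v := (mem_centralizer_singleton_iff.mp hvr).symm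
          rw [commutatorElement_def]
          exact (((har.symm.mul_right c1).mul_right har.symm.inv_right).mul_right c1.inv_right).symm.eq
        have hc := card_le_sq_fixed hV.normal hV.comm hV.sq (h.sq a ha) (inf_le_left : P ≤ V) hinv
        have hlt : P ⊓ centralizer ({a} : Set S) < W := by
          refine lt_of_le_of_ne (fun v hv => hfix.le ⟨hv.1.1, hv.2⟩) fun e => hrA (h.commute_all hV ?_ har ha haV h4.ge)
          exact mem_centralizer_iff.mpr fun w hw => mem_centralizer_singleton_iff.mp (e.ge hw).1.2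
        have h2' := PGroup.mul_card_le_of_lt (p := 2) h.p hlt
        rw [h4] at h2'
        have hk : Nat.card (P ⊓ centralizer ({a} : Set S) : Subgroup S) ≤ 2 := by omega
        calc Nat.card P ≤ _ := hc
          _ ≤ 2 * 2 := Nat.mul_le_mul hk hk
  -- counting
  set X := H ⊓ V with hX
  have hXmul : ∀ x ∈ H, ∀ b : ℕ, Nat.card (V ⊓ centralizer ({x} : Set S) : Subgroup S) ≤ b →
      Nat.card (H ⊓ π.ker : Subgroup S) ≤ b * Nat.card (N ⊓ π.ker : Subgroup S) := by
    intro x hx b hb
    rw [hker, mul_comm]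
    refine (card_le_mul_of_commutator hV.normal hV.comm x (inf_le_right : X ≤ V) (M := N ⊓ V) fun v hv =>
      ⟨commutator_mem_of_sq hsq hx hv.1, mul_mem (hV.normal.conj_mem v hv.2 x) (V.inv_mem hv.2)⟩).trans ?_
    exact Nat.mul_le_mul_left _ ((card_le_of_le (inf_le_inf_right _ inf_le_right)).trans hb)
  obtain ⟨i, hi⟩ := IsPGroup.iff_card.mp (hPp.to_subgroup (H.map π))
  have hi3 : i ≤ 3 := by
    have := (Subgroup.card_le_card_group (H.map π)).trans h8
    rw [hi] at this
    exact (Nat.pow_le_pow_iff_right (by norm_num : 1 < 2)).mp (this : 2 ^ i ≤ 2 ^ 3)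
  have hN1 : 1 ≤ Nat.card (N.map π) := Nat.card_pos
  rcases Nat.lt_or_ge i 2 with hlt | hge
  · interval_cases i
    · refine (card_le_parts π (H := H) (N := N) (i := 1) (k := 16) (by rw [hi, one_mul]; exact hN1) ?_).trans (le_of_eq (by norm_num))
      have : 1 ≤ Nat.card (N ⊓ π.ker : Subgroup S) := Nat.card_pos
      have := (card_le_of_le (inf_le_right : H ⊓ π.ker ≤ π.ker))
      rw [hker, hV16] at this
      rw [hker] at *
      omega
    · have hne : H.map π ≠ ⊥ := fun e => by rw [e, card_bot] at hi; simp at hi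
      obtain ⟨⟨_, x, hx, rfl⟩, hx1⟩ := ne_bot_iff_exists_ne_one.mp hne
      have hxV : x ∉ V := fun e => hx1 (Subtype.ext (hπ1.mpr e))
      have hlt : V ⊓ centralizer ({x} : Set S) < V := lt_of_le_of_ne inf_le_left fun e =>
        hxV (hCV (mem_centralizer_iff.mpr fun v hv => mem_centralizer_singleton_iff.mp (e.ge hv).2))
      have h8' := PGroup.mul_card_le_of_lt (p := 2) h.p hlt
      rw [hV16] at h8'
      exact (card_le_parts π (i := 2) (k := 8) (by rw [hi]; omega) (hXmul x hx 8 (by omega))).trans (le_of_eq (by norm_num))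
  -- a good element
  obtain ⟨x, hx, hgx⟩ : ∃ x ∈ H, Nat.card (V ⊓ centralizer ({x} : Set S) : Subgroup S) ≤ 4 := by
    by_cases e8 : Nat.card (S ⧸ V) = 8
    · have hne : H.map π ≠ ⊥ := fun e => by
        rw [e, card_bot] at hi
        have := Nat.pow_le_pow_right (show 0 < 2 by norm_num) hge
        omega
      have hn : (H.map π).Normal := by
        rcases Nat.lt_or_ge i 3 with hl | hl
        · refine normal_of_index_eq_two ?_
          have := (H.map π).card_mul_index
          rw [hi, show i = 2 by omega, e8] at this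
          omega
        · rw [PGroup.eq_of_le_of_card_le (le_top : H.map π ≤ ⊤) (by
            rw [card_top, e8, hi, show i = 3 by omega]; norm_num)]
          infer_instance
      obtain ⟨⟨q, hq⟩, hq1⟩ := ne_bot_iff_exists_ne_one.mp (PGroup.inf_center_ne_bot hPp hne)
      obtain ⟨x, hx, rfl⟩ := hq.1
      exact ⟨x, hx, hgood e8 x (fun e => hq1 (Subtype.ext (hπ1.mpr e))) fun t => mem_center_iff.mp hq.2 t⟩
    · have hle4 : Nat.card (S ⧸ V) ≤ 4 := by
        obtain ⟨j, hj⟩ := IsPGroup.iff_card.mp hPp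
        rw [hj] at h8 e8 ⊢
        have hj3 : j ≤ 3 := (Nat.pow_le_pow_iff_right (by norm_num : 1 < 2)).mp (h8 : 2 ^ j ≤ 2 ^ 3)
        interval_cases j <;> simp_all
      have htop : H.map π = ⊤ := PGroup.eq_of_le_of_card_le le_top (by
        rw [card_top, hi]; exact hle4.trans (Nat.pow_le_pow_right (by norm_num) hge : 2 ^ 2 ≤ 2 ^ i))
      obtain ⟨x, hx, hxa⟩ : π a ∈ H.map π := htop ▸ mem_top _
      refine ⟨x, hx, (card_le_of_le fun v hv => ?_).trans (h.fixed_le hV hAV ha haV)⟩
      refine ⟨hv.1, mem_centralizer_singleton_iff.mpr ?_⟩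
      have hu : x⁻¹ * a ∈ V := hπ1.mp (by rw [map_mul, map_inv, hxa, inv_mul_cancel])
      have : Commute v (x * (x⁻¹ * a)) :=
        Commute.mul_right (mem_centralizer_singleton_iff.mp hv.2) (hV.comm v hv.1 _ hu)
      rwa [mul_inv_cancel_left] at this
  refine (card_le_parts π (i := 4) (k := 4) ?_ (hXmul x hx 4 hgx)).trans (le_of_eq (by norm_num))
  by_cases hN0 : N.map π = ⊥
  · rw [hN0, card_bot, mul_one]
    by_contra hgt
    push Not at hgt
    have e3 : i = 3 := by
      by_contra hne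
      have := Nat.pow_le_pow_right (show 0 < 2 by norm_num) (show i ≤ 2 by omega)
      omega
    have e8 : Nat.card (S ⧸ V) = 8 := by
      have := Subgroup.card_le_card_group (H.map π)
      rw [hi, e3] at this
      omega
    have htop : H.map π = ⊤ := PGroup.eq_of_le_of_card_le le_top (by rw [card_top, e8, hi, e3]; norm_num)
    obtain ⟨g, t, hgt'⟩ := hnc e8
    obtain ⟨g', hg', rfl⟩ : g ∈ H.map π := htop ▸ mem_top _
    obtain ⟨t', ht', rfl⟩ : t ∈ H.map π := htop ▸ mem_top _
    apply hgt'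
    rw [← commutatorElement_eq_one_iff_mul_comm, ← map_commutatorElement]
    have : π ⁅g', t'⁆ ∈ N.map π := mem_map_of_mem π (commutator_mem_of_sq hsq hg' ht')
    rwa [hN0, mem_bot] at this
  · have h2 : 1 < Nat.card (N.map π) := Finite.one_lt_card_iff_nontrivial.mpr (nontrivial_iff_ne_bot _ |>.mpr hN0)
    have := Nat.pow_le_pow_right (show 0 < 2 by norm_num) hi3
    omega

end Cfsg.Agent.Sectional
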